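import Mathlib
import Cfsg.Prelude.Def_Local
import Cfsg.Agent.Lib.Fitting.Basic
import Cfsg.Agent.Lib.Transfer.Basic
import Cfsg.Agent.Lib.Coprime.Action

/-!
`p`-solvable and `p`-constrained groups: lifting normalizers and centralizers of `p`-subgroups
through a quotient by a `p'`-group, Hall–Higman 1.2.3, and `O_{p'}(N(P)) = O_{p'}(G) ∩ N(P)`.
-/

set_option autoImplicit false
set_option linter.style.haveILetI false

open Pointwise
open CfsgLib.Coprime CfsgLib.Fitting

namespace CfsgLib.PSolvable

variable {G : Type*} [Group G] {p : ℕ}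

theorem coprime_card_of_isPGroup [Finite G] [Fact p.Prime] {P K : Subgroup G} (hP : IsPGroup p P)
    (hK : (Nat.card K).Coprime p) : (Nat.card P).Coprime (Nat.card K) := by
  obtain ⟨n, hn⟩ := IsPGroup.iff_card.mp hP
  rw [hn]
  exact hK.symm.pow_left n

theorem le_normalizer_map_of_characteristic {A H : Subgroup G} (hA : A ≤ Subgroup.normalizer (H : Set G))
    (C : Subgroup H) [C.Characteristic] :
    A ≤ Subgroup.normalizer ((C.map H.subtype : Subgroup G) : Set G) := by
  intro a ha
  rw [mem_normalizer_iff_conj_smul, conj_smul_eq_map, Subgroup.map_map]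
  let φ : H ≃* H := H.normalizerMonoidHom ⟨a, hA ha⟩
  have h : ((MulAut.conj a).toMonoidHom).comp H.subtype = H.subtype.comp φ.toMonoidHom := by
    ext x; rfl
  rw [h, ← Subgroup.map_map, Subgroup.characteristic_iff_map_eq.mp inferInstance φ]

theorem normal_map_of_characteristic (N : Subgroup G) [N.Normal] (C : Subgroup N)
    [C.Characteristic] : (C.map N.subtype).Normal :=
  ConjAct.normal_of_characteristic_of_normal

instance pPrimeCore_characteristic (p : ℕ) : (Cfsg.pPrimeCore p G).Characteristic := by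
  rw [Subgroup.characteristic_iff_map_le]
  intro φ
  rw [Cfsg.pPrimeCore, Subgroup.map_le_iff_le_comap]
  refine sSup_le fun N hN => ?_
  rw [← Subgroup.map_le_iff_le_comap]
  refine le_sSup ⟨hN.1.map _ φ.surjective, ?_⟩
  rw [Subgroup.card_map_of_injective φ.injective]
  exact hN.2

instance pCore_characteristic (p : ℕ) : (Cfsg.pCore p G).Characteristic := by
  rw [Subgroup.characteristic_iff_map_le]
  intro φ
  rw [Cfsg.pCore, Subgroup.map_le_iff_le_comap]
  refine sSup_le fun N hN => ?_
  rw [← Subgroup.map_le_iff_le_comap]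
  exact le_sSup ⟨hN.1.map _ φ.surjective, hN.2.map _⟩

theorem map_pPrimeCore_le [Finite G] (N : Subgroup G) [N.Normal] :
    (Cfsg.pPrimeCore p N).map N.subtype ≤ Cfsg.pPrimeCore p G :=
  Transfer.le_pPrimeCore (normal_map_of_characteristic N _) (by
    rw [Subgroup.card_map_of_injective N.subtype_injective]
    exact Transfer.pPrimeCore_coprime p)

theorem map_pCore_le (N : Subgroup G) [N.Normal] :
    (Cfsg.pCore p N).map N.subtype ≤ Cfsg.pCore p G :=
  le_pCore (normal_map_of_characteristic N _) ((pCore_isPGroup p).map _)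

/-- A `p`-group and a normal `p'`-subgroup: the latter vanishes in the former. -/
theorem eq_one_of_mem_of_mem [Finite G] [Fact p.Prime] {P K : Subgroup G} (hP : IsPGroup p P)
    (hK : (Nat.card K).Coprime p) {x : G} (hx : x ∈ P) (hx' : x ∈ K) : x = 1 := by
  have h : x ∈ P ⊓ K := Subgroup.mem_inf.mpr ⟨hx, hx'⟩
  rwa [inf_eq_bot_of_coprime_card (coprime_card_of_isPGroup hP hK), Subgroup.mem_bot] at h

/-! ### Quotients by normal `p'`-subgroups -/

section Quotient

variable {Q : Type*} [Group Q] {f : G →* Q}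

theorem card_comap_of_surjective [Finite G] (hf : Function.Surjective f) (M : Subgroup Q) :
    Nat.card ↥(M.comap f) = Nat.card f.ker * Nat.card M := by
  haveI : Finite Q := Finite.of_surjective f hf
  refine Nat.eq_of_mul_eq_mul_right (Nat.pos_of_ne_zero M.index_ne_zero_of_finite) ?_
  have h1 := f.ker.card_mul_index
  rw [Subgroup.index_ker, MonoidHom.range_eq_top.mpr hf, Subgroup.card_top] at h1
  rw [mul_assoc, Subgroup.card_mul_index, h1, ← Subgroup.index_comap_of_surjective _ hf,
    Subgroup.card_mul_index]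

theorem pPrimeCore_eq_bot_of_ker [Finite G] (hf : Function.Surjective f)
    (hker : f.ker = Cfsg.pPrimeCore p G) : Cfsg.pPrimeCore p Q = ⊥ := by
  haveI : Finite Q := Finite.of_surjective f hf
  have hn : ((Cfsg.pPrimeCore p Q).comap f).Normal :=
    (Transfer.pPrimeCore_normal p Q).comap f
  have hle : (Cfsg.pPrimeCore p Q).comap f ≤ f.ker := by
    rw [hker]
    refine Transfer.le_pPrimeCore hn ?_
    rw [card_comap_of_surjective hf]
    exact Nat.Coprime.mul_left (by rw [hker]; exact Transfer.pPrimeCore_coprime p)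
      (Transfer.pPrimeCore_coprime p)
  rw [eq_bot_iff, ← Subgroup.map_comap_eq_self_of_surjective hf (Cfsg.pPrimeCore p Q)]
  refine (Subgroup.map_mono hle).trans (le_of_eq ?_)
  rw [Subgroup.map_eq_bot_iff]

/-- Frattini: an element normalizing the image of a `p`-subgroup `P` has the same image as an
element normalizing `P`. -/
theorem exists_mem_normalizer_of_map [Finite G] [Fact p.Prime] (hK : (Nat.card f.ker).Coprime p)
    {P : Subgroup G} (hP : IsPGroup p P) {x : G}
    (hx : f x ∈ Subgroup.normalizer ((P.map f : Subgroup Q) : Set Q)) :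
    ∃ n ∈ Subgroup.normalizer (P : Set G), f n = f x := by
  have h1 : f.ker ⊔ P = f.ker ⊔ MulAut.conj x • P := by
    rw [sup_comm, ← Subgroup.comap_map_eq, sup_comm, ← Subgroup.comap_map_eq, map_conj_smul,
      conj_smul_eq_self_of_mem_normalizer hx]
  haveI : Group.IsNilpotent P := hP.isNilpotent
  have hc : (Nat.card f.ker).Coprime (Nat.card P) := (coprime_card_of_isPGroup hP hK).symm
  obtain ⟨k, hk, hke⟩ := exists_conj_of_coprime Subgroup.le_normalizer_of_normal hc
    (by rw [card_conj_smul]; exact hc) h1 (Or.inr inferInstance)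
  refine ⟨k⁻¹ * x, ?_, ?_⟩
  · rw [mem_normalizer_iff_conj_smul, map_mul, mul_smul, ← hke, ← mul_smul, ← map_mul,
      inv_mul_cancel, map_one, one_smul]
  · rw [map_mul, map_inv, MonoidHom.mem_ker.mp hk, inv_one, one_mul]

/-- An element centralizing the image of a `p`-subgroup `P` has the same image as an element
centralizing `P`. -/
theorem exists_mem_centralizer_of_map [Finite G] [Fact p.Prime] (hK : (Nat.card f.ker).Coprime p)
    {P : Subgroup G} (hP : IsPGroup p P) {x : G}
    (hx : f x ∈ Subgroup.centralizer ((P.map f : Subgroup Q) : Set Q)) :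
    ∃ n ∈ Subgroup.centralizer (P : Set G), f n = f x := by
  obtain ⟨n, hn, he⟩ := exists_mem_normalizer_of_map hK hP (Subgroup.centralizer_le_normalizer _ hx)
  refine ⟨n, fun u hu => ?_, he⟩
  have hu' : n * u * n⁻¹ * u⁻¹ ∈ P :=
    mul_mem ((Subgroup.mem_normalizer_iff.mp hn u).mp hu) (inv_mem hu)
  have hker : n * u * n⁻¹ * u⁻¹ ∈ f.ker := by
    have h2 : f u * f x = f x * f u := hx _ (Subgroup.mem_map_of_mem f hu)
    rw [MonoidHom.mem_ker, map_mul, map_mul, map_mul, map_inv, map_inv, he, ← h2]
    group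
  have h3 := eq_one_of_mem_of_mem hP hK hu' hker
  rw [mul_inv_eq_one, mul_inv_eq_iff_eq_mul] at h3
  exact h3.symm

theorem map_centralizer_eq [Finite G] [Fact p.Prime] (hf : Function.Surjective f)
    (hK : (Nat.card f.ker).Coprime p) {P : Subgroup G} (hP : IsPGroup p P) :
    (Subgroup.centralizer (P : Set G)).map f
      = Subgroup.centralizer ((P.map f : Subgroup Q) : Set Q) := by
  refine le_antisymm ?_ fun y hy => ?_
  · rintro _ ⟨c, hc, rfl⟩ _ ⟨u, hu, rfl⟩
    rw [← map_mul, ← map_mul, hc u hu]
  · obtain ⟨x, rfl⟩ := hf y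
    obtain ⟨n, hn, he⟩ := exists_mem_centralizer_of_map hK hP hy
    exact ⟨n, hn, he⟩

theorem map_normalizer_eq [Finite G] [Fact p.Prime] (hf : Function.Surjective f)
    (hK : (Nat.card f.ker).Coprime p) {P : Subgroup G} (hP : IsPGroup p P) :
    (Subgroup.normalizer (P : Set G)).map f
      = Subgroup.normalizer ((P.map f : Subgroup Q) : Set Q) := by
  refine le_antisymm (Subgroup.le_normalizer_map f) fun y hy => ?_
  obtain ⟨x, rfl⟩ := hf y
  obtain ⟨n, hn, he⟩ := exists_mem_normalizer_of_map hK hP hy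
  exact ⟨n, hn, he⟩

/-- A `p`-subgroup of the image is the image of a `p`-subgroup. -/
theorem exists_map_eq [Finite G] [Fact p.Prime] (hf : Function.Surjective f)
    {R : Subgroup Q} (hR : IsPGroup p R) (hK : (Nat.card f.ker).Coprime p) :
    ∃ P : Sylow p (R.comap f), ((P : Subgroup (R.comap f)).map (R.comap f).subtype).map f = R := by
  haveI : Finite Q := Finite.of_surjective f hf
  let P : Sylow p (R.comap f) := default
  refine ⟨P, ?_⟩
  refine Subgroup.eq_of_le_of_card_ge ((Subgroup.map_mono (Subgroup.map_subtype_le _)).trans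
    (Subgroup.map_comap_le _ _)) ?_
  obtain ⟨n, hn⟩ := IsPGroup.iff_card.mp hR
  have hcard : Nat.card (R.comap f) = Nat.card f.ker * p ^ n := by
    rw [card_comap_of_surjective hf, hn]
  have hinj : Set.InjOn f ((P : Subgroup (R.comap f)).map (R.comap f).subtype : Set G) := by
    intro a ha b hb h
    have h1 : a⁻¹ * b ∈ f.ker := by
      rw [MonoidHom.mem_ker, map_mul, map_inv, h, inv_mul_cancel]
    exact inv_mul_eq_one.mp
      (eq_one_of_mem_of_mem (P.2.map _) hK (mul_mem (inv_mem ha) hb) h1)
  have hPn : p ^ n ∣ Nat.card P := by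
    rw [P.card_eq_multiplicity, hcard]
    refine pow_dvd_pow p ?_
    rw [Nat.factorization_mul Nat.card_pos.ne' (pow_ne_zero _ (Fact.out : p.Prime).ne_zero),
      Finsupp.add_apply, Nat.Prime.factorization_pow Fact.out, Finsupp.single_eq_same]
    exact Nat.le_add_left _ _
  have himg : Nat.card (((P : Subgroup (R.comap f)).map (R.comap f).subtype).map f) = Nat.card P := by
    rw [← SetLike.coe_sort_coe, Subgroup.coe_map, Nat.card_image_of_injOn hinj,
      SetLike.coe_sort_coe, Subgroup.card_map_of_injective (R.comap f).subtype_injective]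
  rw [himg, hn]
  exact Nat.le_of_dvd Nat.card_pos hPn

/-- `p`-constraint, read off in the quotient by `O_{p'}(G)`. -/
theorem isPConstrained_iff [Finite G] [Fact p.Prime] :
    Cfsg.IsPConstrained p G ↔
      Subgroup.centralizer (Cfsg.pCore p (G ⧸ Cfsg.pPrimeCore p G) : Set (G ⧸ Cfsg.pPrimeCore p G))
        ≤ Cfsg.pCore p (G ⧸ Cfsg.pPrimeCore p G) := by
  haveI := Transfer.pPrimeCore_normal p G
  set f := QuotientGroup.mk' (Cfsg.pPrimeCore p G) with hf
  have hsurj : Function.Surjective f := QuotientGroup.mk'_surjective _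
  have hK : (Nat.card f.ker).Coprime p := by
    rw [hf, QuotientGroup.ker_mk']; exact Transfer.pPrimeCore_coprime p
  set U := Cfsg.pPrimePCore p G with hU
  have hUc : U = (Cfsg.pCore p (G ⧸ Cfsg.pPrimeCore p G)).comap f := rfl
  have himage : ∀ P : Sylow p U,
      ((P : Subgroup U).map U.subtype).map f = Cfsg.pCore p (G ⧸ Cfsg.pPrimeCore p G) := by
    rw [hUc]
    intro P
    obtain ⟨P₀, hP₀⟩ := exists_map_eq hsurj (pCore_isPGroup p) hK
    obtain ⟨u, hu⟩ := MulAction.exists_smul_eq
      (↥((Cfsg.pCore p (G ⧸ Cfsg.pPrimeCore p G)).comap f)) P₀ P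
    rw [← hu, map_subtype_conj_smul_sylow, map_conj_smul, hP₀]
    exact conj_smul_eq_of_mem (Subgroup.mem_comap.mp u.2)
  constructor
  · intro h y hy
    obtain ⟨x, rfl⟩ := hsurj y
    let P : Sylow p U := default
    rw [← himage P] at hy
    obtain ⟨n, hn, he⟩ := exists_mem_centralizer_of_map hK (P.2.map _) hy
    rw [← he]
    exact h P hn
  · intro h P c hc
    show f c ∈ Cfsg.pCore p (G ⧸ Cfsg.pPrimeCore p G)
    refine h ?_
    rw [← himage P]
    rintro _ ⟨u, hu, rfl⟩
    rw [← map_mul, ← map_mul, hc u hu]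

/-- `p`-constraint, read off through any map onto a group with kernel `O_{p'}(G)`. -/
theorem isPConstrained_iff_of_surjective [Finite G] [Fact p.Prime] (hf : Function.Surjective f)
    (hker : f.ker = Cfsg.pPrimeCore p G) :
    Cfsg.IsPConstrained p G ↔
      Subgroup.centralizer (Cfsg.pCore p Q : Set Q) ≤ Cfsg.pCore p Q := by
  haveI := Transfer.pPrimeCore_normal p G
  rw [isPConstrained_iff]
  let e : G ⧸ Cfsg.pPrimeCore p G ≃* Q :=
    (QuotientGroup.quotientMulEquivOfEq hker.symm).trans
      (QuotientGroup.quotientKerEquivOfSurjective f hf)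
  have hmap : (Cfsg.pCore p (G ⧸ Cfsg.pPrimeCore p G)).map e.toMonoidHom = Cfsg.pCore p Q := by
    refine le_antisymm (le_pCore ((pCore_normal p).map _ e.surjective) ((pCore_isPGroup p).map _)) ?_
    rw [← Subgroup.map_comap_eq_self_of_surjective (f := e.toMonoidHom) e.surjective
      (Cfsg.pCore p Q)]
    exact Subgroup.map_mono (le_pCore ((pCore_normal p).comap _)
      ((pCore_isPGroup p).comap_of_injective _ e.injective))
  have hcent : (Subgroup.centralizer (Cfsg.pCore p (G ⧸ Cfsg.pPrimeCore p G) :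
      Set (G ⧸ Cfsg.pPrimeCore p G))).map e.toMonoidHom
        = Subgroup.centralizer (Cfsg.pCore p Q : Set Q) := by
    rw [← hmap]
    ext y
    obtain ⟨x, rfl⟩ := e.surjective y
    rw [show e x = e.toMonoidHom x from rfl, Subgroup.mem_map_iff_mem e.injective]
    simp only [Subgroup.mem_centralizer_iff, Subgroup.coe_map, Set.forall_mem_image,
      MulEquiv.coe_toMonoidHom, ← map_mul, EmbeddingLike.apply_eq_iff_eq]
  rw [← hcent, ← hmap, Subgroup.map_le_map_iff_of_injective e.injective]

end Quotient

/-! ### `p`-solvable groups -/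

theorem relIndex_inf_dvd (A B S : Subgroup G) [A.Normal] (hAB : A ≤ B) :
    (A ⊓ S).relIndex (B ⊓ S) ∣ A.relIndex B := by
  have e : (A ⊓ S).relIndex (B ⊓ S) = A.relIndex (B ⊓ S) := by
    rw [← Subgroup.inf_relIndex_right A (B ⊓ S), ← inf_assoc, inf_eq_left.mpr hAB]
  rw [e, ← Subgroup.relIndex_sup_left]
  have h := Subgroup.relIndex_mul_relIndex A (A ⊔ B ⊓ S) B le_sup_left (sup_le hAB inf_le_left)
  exact ⟨_, h.symm⟩

theorem isPSolvable_of_injective {H : Type*} [Group H] [Finite G] [Fact p.Prime] (f : H →* G)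
    (hf : Function.Injective f) (h : Cfsg.IsPSolvable p G) : Cfsg.IsPSolvable p H := by
  obtain ⟨n, C, h0, hlast, hmono, hn, hfac⟩ := h
  refine ⟨n, fun i => (C i).comap f, ?_, ?_, fun i j hij => Subgroup.comap_mono (hmono hij),
    fun i => (hn i).comap f, fun i => ?_⟩
  · simp only [h0]
    rw [MonoidHom.comap_bot]
    exact f.ker_eq_bot_iff.mpr hf
  · simp [hlast]
  · haveI := hn i.castSucc
    have hdvd : ((C i.castSucc).comap f).relIndex ((C i.succ).comap f)
        ∣ (C i.castSucc).relIndex (C i.succ) := by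
      rw [Subgroup.relIndex_comap, Subgroup.map_comap_eq, inf_comm f.range,
        ← Subgroup.inf_relIndex_right (C i.castSucc), ← inf_assoc,
        inf_eq_left.mpr (hmono i.castSucc_le_succ)]
      exact relIndex_inf_dvd _ _ _ (hmono i.castSucc_le_succ)
    rcases hfac i with ⟨m, hm⟩ | hc
    · obtain ⟨k, -, hk⟩ := (Nat.dvd_prime_pow Fact.out).mp (hm ▸ hdvd)
      exact Or.inl ⟨k, hk⟩
    · exact Or.inr (hc.coprime_dvd_left hdvd)

theorem isPSolvable_subgroup [Finite G] [Fact p.Prime] (H : Subgroup G)
    (h : Cfsg.IsPSolvable p G) : Cfsg.IsPSolvable p H :=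
  isPSolvable_of_injective H.subtype H.subtype_injective h

theorem isPSolvable_of_surjective {Q : Type*} [Group Q] [Finite G] [Fact p.Prime] (f : G →* Q)
    (hf : Function.Surjective f) (h : Cfsg.IsPSolvable p G) : Cfsg.IsPSolvable p Q := by
  obtain ⟨n, C, h0, hlast, hmono, hn, hfac⟩ := h
  refine ⟨n, fun i => (C i).map f, ?_, ?_, fun i j hij => Subgroup.map_mono (hmono hij),
    fun i => (hn i).map f hf, fun i => ?_⟩
  · simp [h0]
  · simp only [hlast]
    exact Subgroup.map_top_of_surjective f hf
  · haveI := hn i.castSucc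
    have hdvd : ((C i.castSucc).map f).relIndex ((C i.succ).map f)
        ∣ (C i.castSucc).relIndex (C i.succ) := by
      have e : C i.succ ⊔ f.ker = (C i.castSucc ⊔ f.ker) ⊔ C i.succ := by
        rw [sup_right_comm, sup_eq_right.mpr (hmono i.castSucc_le_succ)]
      rw [Subgroup.relIndex_map_map, e, Subgroup.relIndex_sup_left]
      exact Subgroup.relIndex_dvd_of_le_left _ le_sup_left
    rcases hfac i with ⟨m, hm⟩ | hc
    · obtain ⟨k, -, hk⟩ := (Nat.dvd_prime_pow Fact.out).mp (hm ▸ hdvd)
      exact Or.inl ⟨k, hk⟩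
    · exact Or.inr (hc.coprime_dvd_left hdvd)

/-- An extension of a `p`-solvable group by a `p`-group or a `p'`-group is `p`-solvable. -/
theorem isPSolvable_of_quotient [Finite G] [Fact p.Prime] (N : Subgroup G) [N.Normal]
    (hN : IsPGroup p N ∨ (Nat.card N).Coprime p) (h : Cfsg.IsPSolvable p (G ⧸ N)) :
    Cfsg.IsPSolvable p G := by
  obtain ⟨n, C, h0, hlast, hmono, hn, hfac⟩ := h
  have hsurj : Function.Surjective (QuotientGroup.mk' N) := QuotientGroup.mk'_surjective N
  refine ⟨n + 1, Fin.cons ⊥ fun i => (C i).comap (QuotientGroup.mk' N), Fin.cons_zero _ _,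
    ?_, ?_, ?_, ?_⟩
  · rw [← Fin.succ_last, Fin.cons_succ, hlast, Subgroup.comap_top]
  · refine Fin.monotone_iff_le_succ.mpr fun i => ?_
    cases i using Fin.cases with
    | zero => simp
    | succ j =>
      rw [← Fin.succ_castSucc, Fin.cons_succ, Fin.cons_succ]
      exact Subgroup.comap_mono (hmono j.castSucc_le_succ)
  · intro i
    cases i using Fin.cases with
    | zero => rw [Fin.cons_zero]; infer_instance
    | succ j => rw [Fin.cons_succ]; exact (hn j).comap _
  · intro i
    cases i using Fin.cases with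
    | zero =>
      rw [Fin.castSucc_zero, Fin.cons_zero, Fin.cons_succ, h0, MonoidHom.comap_bot,
        QuotientGroup.ker_mk', Subgroup.relIndex_bot_left]
      rcases hN with h | h
      · exact Or.inl (IsPGroup.iff_card.mp h)
      · exact Or.inr h
    | succ j =>
      rw [← Fin.succ_castSucc, Fin.cons_succ, Fin.cons_succ, Subgroup.relIndex_comap,
        Subgroup.map_comap_eq_self_of_surjective hsurj]
      exact hfac j

theorem isPSolvable_of_isSolvable_aux (p : ℕ) [Fact p.Prime] (n : ℕ) :
    ∀ {H : Type*} [Group H] [Finite H], Nat.card H = n → Group.IsSolvable H →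
      Cfsg.IsPSolvable p H := by
  induction n using Nat.strong_induction_on with
  | _ n IH =>
  intro H _ _ hn hs
  rcases subsingleton_or_nontrivial H with hsub | hnt
  · exact ⟨0, fun _ => ⊥, rfl, Subsingleton.elim _ _, monotone_const, fun _ => inferInstance,
      fun i => i.elim0⟩
  haveI := hs
  classical
  have hex : ∃ j, derivedSeries H j = ⊥ := hs.solvable
  set j := Nat.find hex with hj
  have hj0 : j ≠ 0 := by
    intro h
    have h1 := Nat.find_spec hex
    rw [← hj, h, derivedSeries_zero] at h1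
    exact top_ne_bot h1
  obtain ⟨i, hi⟩ := Nat.exists_eq_succ_of_ne_zero hj0
  set D := derivedSeries H i with hD
  haveI : D.Normal := derivedSeries_normal H i
  have hDne : D ≠ ⊥ := Nat.find_min hex (by omega)
  haveI : IsMulCommutative D := by
    have h1 := Nat.find_spec hex
    rw [← hj, hi, derivedSeries_succ] at h1
    exact Subgroup.commutator_self_eq_bot_iff.mp h1
  obtain ⟨N, hNn, hNne, hN⟩ : ∃ N : Subgroup H, N.Normal ∧ N ≠ ⊥ ∧
      (IsPGroup p N ∨ (Nat.card N).Coprime p) := by
    by_cases hp : p ∣ Nat.card D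
    · let P : Sylow p D := default
      haveI : (P : Subgroup D).Characteristic := Sylow.characteristic_of_normal P
        ⟨fun x hx g => by rwa [mul_comm' g x, mul_inv_cancel_right]⟩
      refine ⟨(P : Subgroup D).map D.subtype, normal_map_of_characteristic D _, ?_,
        Or.inl (P.2.map _)⟩
      intro h
      rw [Subgroup.map_eq_bot_iff_of_injective _ D.subtype_injective] at h
      have h1 := P.not_dvd_index
      rw [h, Subgroup.index_bot] at h1
      exact h1 hp
    · exact ⟨D, inferInstance, hDne,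
        Or.inr ((Nat.Prime.coprime_iff_not_dvd Fact.out).mpr hp).symm⟩
  haveI := hNn
  refine isPSolvable_of_quotient N hN (IH _ ?_ rfl inferInstance)
  rw [← hn, Subgroup.card_eq_card_quotient_mul_card_subgroup N]
  exact lt_mul_of_one_lt_right Nat.card_pos (N.one_lt_card_iff_ne_bot.mpr hNne)

theorem isPSolvable_of_isSolvable [Finite G] [Fact p.Prime] (h : Group.IsSolvable G) :
    Cfsg.IsPSolvable p G :=
  isPSolvable_of_isSolvable_aux p _ rfl h

/-- **Hall–Higman 1.2.3.** In a `p`-solvable group with `O_{p'}(G) = 1` the `p`-core contains its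
centralizer. -/
theorem centralizer_pCore_le [Finite G] [Fact p.Prime] (hsol : Cfsg.IsPSolvable p G)
    (hO : Cfsg.pPrimeCore p G = ⊥) :
    Subgroup.centralizer (Cfsg.pCore p G : Set G) ≤ Cfsg.pCore p G := by
  haveI := pCore_normal (G := G) p
  set R := Cfsg.pCore p G with hR
  set C := Subgroup.centralizer (R : Set G) with hC
  obtain ⟨n, H, h0, hlast, hmono, hn, hfac⟩ := hsol
  suffices ∀ i, C ⊓ H i ≤ R by
    have h := this (Fin.last n)
    rwa [hlast, inf_top_eq] at h
  intro i
  induction i using Fin.induction with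
  | zero => rw [h0, inf_bot_eq]; exact bot_le
  | succ i ih =>
    haveI := hn i.succ
    haveI := hn i.castSucc
    set N := C ⊓ H i.succ with hN
    haveI : N.Normal := Subgroup.normal_inf_normal _ _
    have hdvd : R.relIndex N ∣ (H i.castSucc).relIndex (H i.succ) := by
      have h1 : R.relIndex N ∣ (C ⊓ H i.castSucc).relIndex N :=
        Subgroup.relIndex_dvd_of_le_left _ ih
      refine h1.trans ?_
      rw [hN, inf_comm C, inf_comm C]
      exact relIndex_inf_dvd _ _ _ (hmono i.castSucc_le_succ)
    have hmul := relIndex_mul_card_inf R N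
    obtain ⟨a, ha⟩ := IsPGroup.iff_card.mp ((pCore_isPGroup p).to_le (inf_le_left : R ⊓ N ≤ R))
    rcases hfac i with ⟨m, hm⟩ | hc
    · obtain ⟨k, -, hk⟩ := (Nat.dvd_prime_pow Fact.out).mp (hm ▸ hdvd)
      refine le_pCore inferInstance (IsPGroup.of_card (n := k + a) ?_)
      rw [← hmul, hk, ha, pow_add]
    · have hc' : (R.relIndex N).Coprime p := hc.coprime_dvd_left hdvd
      obtain ⟨B, hBN, hsup, hdis, hB⟩ := exists_complement_of_coprime
        (N := R) (S := N) Subgroup.le_normalizer_of_normal (by rw [ha]; exact hc'.symm.pow_left a)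
      have hBcomm : ∀ z ∈ R ⊓ N, ∀ b ∈ B, z * b = b * z := fun z hz b hb =>
        (Subgroup.mem_inf.mp (hBN hb)).1 z (Subgroup.mem_inf.mp hz).1
      have hBn : (B.subgroupOf N).Normal := by
        rw [Subgroup.normal_subgroupOf_iff_le_normalizer hBN]
        have h1 : R ⊓ N ⊔ B ≤ Subgroup.normalizer (B : Set G) :=
          sup_le (fun z hz => Subgroup.centralizer_le_normalizer _
            fun b hb => (hBcomm z hz b hb).symm) Subgroup.le_normalizer
        rwa [hsup] at h1
      have hBbot : B = ⊥ := by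
        have h1 : B.subgroupOf N ≤ Cfsg.pPrimeCore p N := by
          refine Transfer.le_pPrimeCore hBn ?_
          rw [Nat.card_congr (Subgroup.subgroupOfEquivOfLe hBN).toEquiv, hB]
          exact hc'
        have h2 := (Subgroup.map_mono (f := N.subtype) h1).trans (map_pPrimeCore_le N)
        rwa [hO, Subgroup.map_subgroupOf_eq_of_le hBN, le_bot_iff] at h2
      rw [hBbot, sup_bot_eq] at hsup
      exact hsup ▸ inf_le_left

theorem isPConstrained_of_isPSolvable [Finite G] [Fact p.Prime] (h : Cfsg.IsPSolvable p G) :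
    Cfsg.IsPConstrained p G := by
  haveI := Transfer.pPrimeCore_normal p G
  rw [isPConstrained_iff]
  exact centralizer_pCore_le
    (isPSolvable_of_surjective _ (QuotientGroup.mk'_surjective _) h)
    (pPrimeCore_eq_bot_of_ker (QuotientGroup.mk'_surjective _) (QuotientGroup.ker_mk' _))

/-- In a group with `C(O_p) ≤ O_p`, a `p'`-group centralizing a `p`-subgroup `P` and
normalized by `C(P) ∩ O_p` is trivial. -/
theorem eq_bot_of_centralizes [Finite G] [Fact p.Prime]
    (hC : Subgroup.centralizer (Cfsg.pCore p G : Set G) ≤ Cfsg.pCore p G) {P D : Subgroup G}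
    (hP : IsPGroup p P) (hD : (Nat.card D).Coprime p) (hPD : P ≤ Subgroup.centralizer (D : Set G))
    (hN : Cfsg.pCore p G ⊓ Subgroup.centralizer (P : Set G) ≤ Subgroup.normalizer (D : Set G)) :
    D = ⊥ := by
  haveI := pCore_normal (G := G) p
  set R := Cfsg.pCore p G
  have hRp : IsPGroup p R := pCore_isPGroup p
  have hcent : R ⊓ Subgroup.centralizer (P : Set G) ≤ Subgroup.centralizer (D : Set G) := by
    intro r hr d hd
    have hrN := hN hr
    have h1 : r * d * r⁻¹ * d⁻¹ ∈ D :=
      mul_mem ((Subgroup.mem_normalizer_iff.mp hrN d).mp hd) (inv_mem hd)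
    have hr1 := (Subgroup.mem_inf.mp hr).1
    have h2 : r * (d * r⁻¹ * d⁻¹) ∈ R :=
      mul_mem hr1 (Subgroup.Normal.conj_mem inferInstance _ (inv_mem hr1) d)
    rw [← mul_assoc, ← mul_assoc] at h2
    have h3 := eq_one_of_mem_of_mem hRp hD h2 h1
    rw [mul_inv_eq_one, mul_inv_eq_iff_eq_mul] at h3
    exact h3.symm
  have h4 := pxq hP hD hPD hRp Subgroup.le_normalizer_of_normal Subgroup.le_normalizer_of_normal
    hcent
  rw [eq_bot_iff]
  intro d hd
  rw [Subgroup.mem_bot]
  exact eq_one_of_mem_of_mem hRp hD (hC (h4 hd)) hd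

/-- In a `p`-constrained group `O_{p'}(N(P)) = O_{p'}(G) ∩ N(P)`. -/
theorem le_pPrimeCore_of_le_normalizer [Finite G] [Fact p.Prime] (hG : Cfsg.IsPConstrained p G)
    {P D : Subgroup G} (hP : IsPGroup p P) (hD : (Nat.card D).Coprime p)
    (hDP : D ≤ Subgroup.normalizer (P : Set G))
    (hND : Subgroup.normalizer (P : Set G) ≤ Subgroup.normalizer (D : Set G)) :
    D ≤ Cfsg.pPrimeCore p G := by
  haveI := Transfer.pPrimeCore_normal p G
  set f := QuotientGroup.mk' (Cfsg.pPrimeCore p G) with hf
  have hsurj : Function.Surjective f := QuotientGroup.mk'_surjective _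
  have hK : (Nat.card f.ker).Coprime p := by
    rw [hf, QuotientGroup.ker_mk']; exact Transfer.pPrimeCore_coprime p
  rw [isPConstrained_iff] at hG
  have hPD : P ≤ Subgroup.centralizer (D : Set G) := by
    intro u hu d hd
    have h1 : d * (u * d⁻¹ * u⁻¹) ∈ D := mul_mem hd
      ((Subgroup.mem_normalizer_iff.mp (hND (Subgroup.le_normalizer hu)) _).mp (inv_mem hd))
    have h2 : d * u * d⁻¹ * u⁻¹ ∈ P :=
      mul_mem ((Subgroup.mem_normalizer_iff.mp (hDP hd) u).mp hu) (inv_mem hu)
    rw [← mul_assoc, ← mul_assoc] at h1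
    have h3 := eq_one_of_mem_of_mem hP hD h2 h1
    rwa [mul_inv_eq_one, mul_inv_eq_iff_eq_mul] at h3
  have hbot : D.map f = ⊥ := by
    refine eq_bot_of_centralizes hG (hP.map f) (hD.coprime_dvd_left (D.card_map_dvd f)) ?_ ?_
    · rintro _ ⟨u, hu, rfl⟩ _ ⟨d, hd, rfl⟩
      rw [← map_mul, ← map_mul, hPD hu d hd]
    · intro y hy
      have h1 := (Subgroup.mem_inf.mp hy).2
      rw [← map_centralizer_eq hsurj hK hP] at h1
      refine Subgroup.le_normalizer_map f (Subgroup.map_mono ?_ h1)
      exact (Subgroup.centralizer_le_normalizer _).trans hND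
  rwa [Subgroup.map_eq_bot_iff, hf, QuotientGroup.ker_mk'] at hbot

theorem map_pPrimeCore_normalizer [Finite G] [Fact p.Prime] (hG : Cfsg.IsPConstrained p G)
    {P : Subgroup G} (hP : IsPGroup p P) :
    (Cfsg.pPrimeCore p ↥(Subgroup.normalizer (P : Set G))).map
        (Subgroup.normalizer (P : Set G)).subtype
      = Cfsg.pPrimeCore p G ⊓ Subgroup.normalizer (P : Set G) := by
  set N := Subgroup.normalizer (P : Set G)
  refine le_antisymm (le_inf ?_ (Subgroup.map_subtype_le _)) ?_
  · refine le_pPrimeCore_of_le_normalizer hG hP ?_ (Subgroup.map_subtype_le _)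
      (le_normalizer_map_of_characteristic Subgroup.le_normalizer _)
    rw [Subgroup.card_map_of_injective N.subtype_injective]
    exact Transfer.pPrimeCore_coprime p
  · haveI := Transfer.pPrimeCore_normal p G
    rw [← Subgroup.subgroupOf_map_subtype]
    refine Subgroup.map_mono (Transfer.le_pPrimeCore inferInstance ?_)
    refine (Transfer.pPrimeCore_coprime (G := G) p).coprime_dvd_left ?_
    rw [← Subgroup.card_map_of_injective N.subtype_injective, Subgroup.subgroupOf_map_subtype]
    exact Subgroup.card_dvd_of_le inf_le_left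

/-- A solvable group's Fitting subgroup contains its centralizer. -/
theorem centralizer_fittingSubgroup_le [Finite G] [Group.IsSolvable G] :
    Subgroup.centralizer (Cfsg.fittingSubgroup G : Set G) ≤ Cfsg.fittingSubgroup G := by
  haveI := fittingSubgroup_normal (G := G)
  set F := Cfsg.fittingSubgroup G with hF
  set C := Subgroup.centralizer (F : Set G) with hC
  classical
  obtain ⟨k, hk⟩ := ‹Group.IsSolvable G›.solvable
  have hex : ∃ j, C ⊓ derivedSeries G j ≤ F := ⟨k, by rw [hk, inf_bot_eq]; exact bot_le⟩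
  have hspec := Nat.find_spec hex
  rcases Nat.eq_zero_or_pos (Nat.find hex) with h0 | h0
  · rwa [h0, derivedSeries_zero, inf_top_eq] at hspec
  exfalso
  set i := Nat.find hex - 1 with hi
  have hmin : ¬ C ⊓ derivedSeries G i ≤ F := Nat.find_min hex (by omega)
  apply hmin
  haveI := derivedSeries_normal G i
  set N := C ⊓ derivedSeries G i with hN
  haveI : N.Normal := Subgroup.normal_inf_normal _ _
  refine le_fittingSubgroup inferInstance ?_
  have hNN : ⁅N, N⁆ ≤ F := by
    refine le_trans (le_inf ?_ ?_) hspec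
    · exact Subgroup.commutator_le_left N N |>.trans inf_le_left
    · rw [show Nat.find hex = i + 1 by omega, derivedSeries_succ]
      exact Subgroup.commutator_mono inf_le_right inf_le_right
  rw [Subgroup.nilpotent_iff_lowerCentralSeries]
  refine ⟨2, ?_⟩
  apply Subgroup.map_injective N.subtype_injective
  rw [Subgroup.lowerCentralSeries_succ, Subgroup.top_lowerCentralSeries_one, Subgroup.map_bot,
    Subgroup.map_commutator, Subgroup.map_subtype_commutator, ← MonoidHom.range_eq_map,
    Subgroup.range_subtype, Subgroup.commutator_eq_bot_iff_le_centralizer]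
  intro z hz x hx
  exact ((Subgroup.mem_inf.mp hx).1 z (hNN hz)).symm

end CfsgLib.PSolvable
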