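import Mathlib
import Cfsg.Agent.Lib.PSolvable.Core

/-!
Heredity of `p`-constraint: normal subgroups, isomorphic groups, normalizers and centralizers of
`p`-subgroups.
-/

set_option autoImplicit false
set_option linter.style.haveILetI false

open Pointwise
open CfsgLib.Coprime CfsgLib.Fitting

namespace CfsgLib.PSolvable

variable {G : Type*} [Group G] {p : ℕ}

theorem isPGroup_of_forall_coprime {D : Subgroup G} [Finite G] [Fact p.Prime]
    (h : ∀ x ∈ D, (orderOf x).Coprime p → x = 1) : IsPGroup p D := by
  intro x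
  obtain ⟨a, m, -, -, hc, -⟩ := Transfer.exists_pow_coprime_part (p := p) (x : G)
  exact ⟨a, Subtype.ext (h _ (pow_mem x.2 _) hc)⟩

theorem map_equiv_pPrimeCore {H : Type*} [Group H] (e : G ≃* H) :
    (Cfsg.pPrimeCore p G).map e.toMonoidHom = Cfsg.pPrimeCore p H := by
  refine le_antisymm ?_ ?_
  · rw [Cfsg.pPrimeCore, Subgroup.map_le_iff_le_comap]
    refine sSup_le fun N hN => ?_
    rw [← Subgroup.map_le_iff_le_comap]
    refine Transfer.le_pPrimeCore (hN.1.map _ e.surjective) ?_
    rw [Subgroup.card_map_of_injective e.injective]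
    exact hN.2
  · intro y hy
    refine ⟨e.symm y, ?_, e.apply_symm_apply y⟩
    have hle : (Cfsg.pPrimeCore p H).map e.symm.toMonoidHom ≤ Cfsg.pPrimeCore p G := by
      rw [Cfsg.pPrimeCore, Subgroup.map_le_iff_le_comap]
      refine sSup_le fun N hN => ?_
      rw [← Subgroup.map_le_iff_le_comap]
      refine Transfer.le_pPrimeCore (hN.1.map _ e.symm.surjective) ?_
      rw [Subgroup.card_map_of_injective e.symm.injective]
      exact hN.2
    exact hle (Subgroup.mem_map_of_mem _ hy)

theorem isPConstrained_of_mulEquiv [Finite G] [Fact p.Prime] {H : Type*} [Group H] (e : G ≃* H)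
    (h : Cfsg.IsPConstrained p G) : Cfsg.IsPConstrained p H := by
  haveI : Finite H := Finite.of_equiv G e.toEquiv
  haveI := Transfer.pPrimeCore_normal p G
  rw [isPConstrained_iff] at h
  refine (isPConstrained_iff_of_surjective
    (f := (QuotientGroup.mk' (Cfsg.pPrimeCore p G)).comp e.symm.toMonoidHom)
    ((QuotientGroup.mk'_surjective _).comp e.symm.surjective) ?_).mpr h
  rw [← MonoidHom.comap_ker, QuotientGroup.ker_mk', ← map_equiv_pPrimeCore e]
  exact (Subgroup.map_equiv_eq_comap_symm e _).symm

theorem isPConstrained_iff_quotient [Finite G] [Fact p.Prime] [(Cfsg.pPrimeCore p G).Normal] :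
    Cfsg.IsPConstrained p G ↔ Cfsg.IsPConstrained p (G ⧸ Cfsg.pPrimeCore p G) := by
  rw [isPConstrained_iff (G := G)]
  symm
  refine isPConstrained_iff_of_surjective (f := MonoidHom.id _) (fun y => ⟨y, rfl⟩) ?_
  rw [MonoidHom.ker_id]
  exact (pPrimeCore_eq_bot_of_ker (QuotientGroup.mk'_surjective _)
    (QuotientGroup.ker_mk' _)).symm

/-- A normal subgroup of a group with `C(O_p) ≤ O_p` again satisfies this condition. -/
theorem centralizer_pCore_le_of_normal [Finite G] [Fact p.Prime]
    (hC : Subgroup.centralizer (Cfsg.pCore p G : Set G) ≤ Cfsg.pCore p G) (M : Subgroup G)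
    [M.Normal] :
    Subgroup.centralizer (Cfsg.pCore p M : Set M) ≤ Cfsg.pCore p M := by
  haveI := pCore_normal (G := G) p
  set R := Cfsg.pCore p G
  haveI := pCore_normal (G := ↥M) p
  refine le_pCore inferInstance (isPGroup_of_forall_coprime fun x hx hxp => ?_)
  set Z := Subgroup.zpowers (x : G)
  have hZ : (Nat.card Z).Coprime p := by rwa [Nat.card_zpowers, Subgroup.orderOf_coe]
  have hcopR := coprime_card_of_isPGroup (pCore_isPGroup (G := G) p) hZ
  have hcentM : R ⊓ M ≤ Subgroup.centralizer (Z : Set G) := by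
    intro r hr z hz
    obtain ⟨hrR, hrM⟩ := Subgroup.mem_inf.mp hr
    have h1 : (⟨r, hrM⟩ : M) ∈ Cfsg.pCore p M :=
      le_pCore (N := R.subgroupOf M) inferInstance
        ((pCore_isPGroup p).comap_of_injective M.subtype M.subtype_injective) hrR
    have h2 : (r : G) * x = x * r := congrArg Subtype.val (hx ⟨r, hrM⟩ h1)
    obtain ⟨n, rfl⟩ := Subgroup.mem_zpowers_iff.mp hz
    exact ((Commute.zpow_left (show Commute (x : G) r from h2.symm) n)).eq
  have hRZ : ⁅R, Z⁆ ≤ R ⊓ M := le_inf
    (commutator_le_left_of_le_normalizer Subgroup.le_normalizer_of_normal)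
    ((Subgroup.commutator_mono le_rfl (Subgroup.zpowers_le.mpr x.2)).trans
      (Subgroup.commutator_le_right R M))
  have h3 := commutator_eq_bot_of_commutator_commutator Subgroup.le_normalizer_of_normal hcopR.symm
    (eq_bot_iff.mpr ((Subgroup.commutator_mono hRZ le_rfl).trans
      (Subgroup.commutator_eq_bot_iff_le_centralizer.mpr hcentM).le))
  have h4 : (x : G) ∈ Subgroup.centralizer (R : Set G) := fun r hr =>
    ((Subgroup.commutator_eq_bot_iff_le_centralizer.mp h3 hr) x (Subgroup.mem_zpowers _)).symm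
  exact Subtype.ext (eq_one_of_mem_of_mem (pCore_isPGroup p) hZ (hC h4) (Subgroup.mem_zpowers _))

/-- In a group with `C(O_p) ≤ O_p`, normalizers of `p`-subgroups satisfy the same condition. -/
theorem centralizer_pCore_le_normalizer [Finite G] [Fact p.Prime]
    (hC : Subgroup.centralizer (Cfsg.pCore p G : Set G) ≤ Cfsg.pCore p G) {P : Subgroup G}
    (hP : IsPGroup p P) {N : Subgroup G} (hN : N = Subgroup.normalizer (P : Set G)) :
    Subgroup.centralizer (Cfsg.pCore p N : Set N) ≤ Cfsg.pCore p N := by
  haveI := pCore_normal (G := G) p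
  haveI := pCore_normal (G := ↥N) p
  refine le_pCore inferInstance (isPGroup_of_forall_coprime fun x hx hxp => ?_)
  set Z := Subgroup.zpowers (x : G)
  have hZ : (Nat.card Z).Coprime p := by rwa [Nat.card_zpowers, Subgroup.orderOf_coe]
  have hPN : P ≤ N := hN ▸ Subgroup.le_normalizer
  have hcomm : ∀ {U : Subgroup G}, U ≤ N → N ≤ Subgroup.normalizer (U : Set G) → IsPGroup p U →
      U ≤ Subgroup.centralizer (Z : Set G) := by
    intro U hUN hNU hU u hu z hz
    have hn : (U.subgroupOf N).Normal := (Subgroup.normal_subgroupOf_iff_le_normalizer hUN).mpr hNU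
    have h1 : (⟨u, hUN hu⟩ : N) ∈ Cfsg.pCore p N :=
      le_pCore hn (hU.comap_of_injective N.subtype N.subtype_injective) hu
    have h2 : (u : G) * x = x * u := congrArg Subtype.val (hx ⟨u, hUN hu⟩ h1)
    obtain ⟨n, rfl⟩ := Subgroup.mem_zpowers_iff.mp hz
    exact ((Commute.zpow_left (show Commute (x : G) u from h2.symm) n)).eq
  set W := Cfsg.pCore p G ⊓ Subgroup.centralizer (P : Set G)
  have hWN : W ≤ N := hN ▸ inf_le_right.trans (Subgroup.centralizer_le_normalizer _)
  have hNW : N ≤ Subgroup.normalizer (W : Set G) :=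
    le_normalizer_inf_of_le Subgroup.le_normalizer_of_normal
      (le_normalizer_centralizer hN.le)
  have hW := hcomm hWN hNW ((pCore_isPGroup p).to_le inf_le_left)
  have hbot : Z = ⊥ := eq_bot_of_centralizes hC hP hZ (hcomm hPN hN.le hP)
    (hW.trans (Subgroup.centralizer_le_normalizer _))
  exact Subtype.ext (Subgroup.zpowers_eq_bot.mp hbot)

theorem isPConstrained_of_normal [Finite G] [Fact p.Prime] (hG : Cfsg.IsPConstrained p G)
    (M : Subgroup G) [M.Normal] : Cfsg.IsPConstrained p M := by
  haveI := Transfer.pPrimeCore_normal p G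
  set f := QuotientGroup.mk' (Cfsg.pPrimeCore p G) with hf
  haveI : (M.map f).Normal := Subgroup.Normal.map inferInstance f (QuotientGroup.mk'_surjective _)
  rw [isPConstrained_iff] at hG
  refine (isPConstrained_iff_of_surjective (f.subgroupMap_surjective M) ?_).mpr
    (centralizer_pCore_le_of_normal hG (M.map f))
  rw [Subgroup.ker_subgroupMap, hf, QuotientGroup.ker_mk']
  refine le_antisymm (Transfer.le_pPrimeCore inferInstance ?_) fun x hx => ?_
  · refine (Transfer.pPrimeCore_coprime (G := G) p).coprime_dvd_left ?_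
    rw [← Subgroup.card_map_of_injective M.subtype_injective, Subgroup.subgroupOf_map_subtype]
    exact Subgroup.card_dvd_of_le inf_le_left
  · exact map_pPrimeCore_le M (Subgroup.mem_map_of_mem M.subtype hx)

theorem isPConstrained_normalizer [Finite G] [Fact p.Prime] (hG : Cfsg.IsPConstrained p G)
    {P : Subgroup G} (hP : IsPGroup p P) :
    Cfsg.IsPConstrained p ↥(Subgroup.normalizer (P : Set G)) := by
  haveI := Transfer.pPrimeCore_normal p G
  set f := QuotientGroup.mk' (Cfsg.pPrimeCore p G) with hf
  have hsurj : Function.Surjective f := QuotientGroup.mk'_surjective _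
  have hK : (Nat.card f.ker).Coprime p := by
    rw [hf, QuotientGroup.ker_mk']; exact Transfer.pPrimeCore_coprime p
  set N := Subgroup.normalizer (P : Set G) with hN
  have hmap := map_normalizer_eq hsurj hK hP
  refine (isPConstrained_iff_of_surjective (f.subgroupMap_surjective N) ?_).mpr
    (centralizer_pCore_le_normalizer (isPConstrained_iff.mp hG) (hP.map f) hmap)
  rw [Subgroup.ker_subgroupMap, hf, QuotientGroup.ker_mk']
  apply Subgroup.map_injective N.subtype_injective
  rw [Subgroup.subgroupOf_map_subtype, map_pPrimeCore_normalizer hG hP]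

theorem isPConstrained_centralizer [Finite G] [Fact p.Prime] (hG : Cfsg.IsPConstrained p G)
    {P : Subgroup G} (hP : IsPGroup p P) :
    Cfsg.IsPConstrained p ↥(Subgroup.centralizer (P : Set G)) := by
  set N := Subgroup.normalizer (P : Set G)
  set C := Subgroup.centralizer (P : Set G)
  have hCN : C ≤ N := Subgroup.centralizer_le_normalizer _
  haveI : (C.subgroupOf N).Normal :=
    (Subgroup.normal_subgroupOf_iff_le_normalizer hCN).mpr (le_normalizer_centralizer le_rfl)
  exact isPConstrained_of_mulEquiv (Subgroup.subgroupOfEquivOfLe hCN)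
    (isPConstrained_of_normal (isPConstrained_normalizer hG hP) (C.subgroupOf N))

/-- `p`-solvability of `C(P)`, for `P` Sylow in `O_{p',p}(G)`, gives `p`-constraint. -/
theorem isPConstrained_of_isPSolvable_centralizer [Finite G] [Fact p.Prime]
    (P : Sylow p ↥(Cfsg.pPrimePCore p G))
    (hsol : Cfsg.IsPSolvable p ↥(Subgroup.centralizer
      (((P : Subgroup ↥(Cfsg.pPrimePCore p G)).map (Cfsg.pPrimePCore p G).subtype : Subgroup G) :
        Set G))) :
    Cfsg.IsPConstrained p G := by
  haveI := Transfer.pPrimeCore_normal p G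
  set f := QuotientGroup.mk' (Cfsg.pPrimeCore p G) with hf
  have hsurj : Function.Surjective f := QuotientGroup.mk'_surjective _
  have hK : (Nat.card f.ker).Coprime p := by
    rw [hf, QuotientGroup.ker_mk']; exact Transfer.pPrimeCore_coprime p
  rw [isPConstrained_iff]
  set Q := G ⧸ Cfsg.pPrimeCore p G
  set P' := (P : Subgroup ↥(Cfsg.pPrimePCore p G)).map (Cfsg.pPrimePCore p G).subtype with hP'
  have himage : P'.map f = Cfsg.pCore p Q := by
    obtain ⟨P₀, hP₀⟩ := exists_map_eq hsurj (pCore_isPGroup p) hK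
    obtain ⟨u, hu⟩ := MulAction.exists_smul_eq
      (↥((Cfsg.pCore p Q).comap f)) P₀ P
    subst hu
    have hh := map_subtype_conj_smul_sylow (K := (Cfsg.pCore p Q).comap f) u P₀
    refine (congrArg (Subgroup.map f) hh).trans ?_
    rw [map_conj_smul, hP₀]
    exact conj_smul_eq_of_mem (Subgroup.mem_comap.mp u.2)
  set C := Subgroup.centralizer (P' : Set G)
  have hCmap : C.map f = Subgroup.centralizer (Cfsg.pCore p Q : Set Q) := by
    rw [← himage]; exact map_centralizer_eq hsurj hK (P.2.map _)
  haveI := pCore_normal (G := Q) p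
  set D := Subgroup.centralizer (Cfsg.pCore p Q : Set Q)
  have hDs : Cfsg.IsPSolvable p D := by
    have h1 : Cfsg.IsPSolvable p ↥(C.map f) :=
      isPSolvable_of_surjective _ (f.subgroupMap_surjective C) hsol
    rwa [hCmap] at h1
  have hDO : Cfsg.pPrimeCore p D = ⊥ := by
    have h1 := map_pPrimeCore_le (p := p) D
    rw [pPrimeCore_eq_bot_of_ker hsurj (QuotientGroup.ker_mk' _), le_bot_iff] at h1
    exact (Subgroup.map_eq_bot_iff_of_injective _ D.subtype_injective).mp h1
  intro d hd
  have h1 : (⟨d, hd⟩ : D) ∈ Cfsg.pCore p D := by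
    refine centralizer_pCore_le hDs hDO fun r hr => ?_
    have h2 := map_pCore_le D (Subgroup.mem_map_of_mem D.subtype hr)
    exact Subtype.ext (hd _ h2)
  exact map_pCore_le D (Subgroup.mem_map_of_mem D.subtype h1)

end CfsgLib.PSolvable
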