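import Mathlib
import Cfsg.Agent.Lib.PSolvable.Core

/-!
For odd `p`: a `p'`-group `Q`, normalized by a `p`-group `A`, which centralizes the elements of
order `p` of `C_R(A)` for a `p`-group `R` normalized by both, centralizes `R`.

In the critical case `R` has exponent `p` and class at most two, and the averaging argument runs in
the abelian group given by the Baer correspondence.
-/

set_option autoImplicit false
set_option linter.style.haveILetI false

open Pointwise
open scoped commutatorElement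
open CfsgLib.Coprime CfsgLib.Fitting

namespace CfsgLib.PSolvable

/-! ### Groups of class two -/

section ClassTwo

variable {K : Type*} [Group K]

theorem pow_mul_of_comm {x y : K} (hx : Commute ⁅y, x⁆ x) (hy : Commute ⁅y, x⁆ y) :
    ∀ n : ℕ, y ^ n * x = x * y ^ n * ⁅y, x⁆ ^ n
  | 0 => by simp
  | n + 1 => by
    have h1 : y * x = x * y * ⁅y, x⁆ := by
      rw [← (hx.mul_right hy).eq, commutatorElement_def]
      group
    calc y ^ (n + 1) * x = y ^ n * (y * x) := by rw [pow_succ, mul_assoc]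
      _ = y ^ n * x * y * ⁅y, x⁆ := by rw [h1]; group
      _ = x * y ^ n * (⁅y, x⁆ ^ n * y) * ⁅y, x⁆ := by rw [pow_mul_of_comm hx hy n]; group
      _ = x * y ^ n * (y * ⁅y, x⁆ ^ n) * ⁅y, x⁆ := by rw [(hy.pow_left n).eq]
      _ = x * (y ^ n * y) * (⁅y, x⁆ ^ n * ⁅y, x⁆) := by group
      _ = x * y ^ (n + 1) * ⁅y, x⁆ ^ (n + 1) := by rw [← pow_succ, ← pow_succ]

theorem mul_pow_of_comm {x y : K} (hx : Commute ⁅y, x⁆ x) (hy : Commute ⁅y, x⁆ y) :
    ∀ n : ℕ, (x * y) ^ n = x ^ n * y ^ n * ⁅y, x⁆ ^ n.choose 2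
  | 0 => by simp
  | n + 1 => by
    have e := pow_mul_of_comm hx hy n
    have eR := mul_pow_of_comm hx hy n
    have hc : Commute (⁅y, x⁆ ^ n.choose 2) (x * y) := (hx.mul_right hy).pow_left _
    have hcn : Commute (⁅y, x⁆ ^ n) y := hy.pow_left _
    generalize ⁅y, x⁆ = c at e eR hc hcn ⊢
    calc (x * y) ^ (n + 1) = x ^ n * y ^ n * (c ^ n.choose 2 * (x * y)) := by
          rw [pow_succ, eR, mul_assoc]
      _ = x ^ n * (y ^ n * x) * y * c ^ n.choose 2 := by rw [hc.eq]; group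
      _ = x ^ n * x * y ^ n * (c ^ n * y) * c ^ n.choose 2 := by
          rw [e]; group
      _ = x ^ n * x * y ^ n * (y * c ^ n) * c ^ n.choose 2 := by rw [hcn.eq]
      _ = (x ^ n * x) * (y ^ n * y) * (c ^ n * c ^ n.choose 2) := by group
      _ = x ^ (n + 1) * y ^ (n + 1) * c ^ (n + 1).choose 2 := by
          rw [← pow_succ, ← pow_succ, ← pow_add, Nat.choose_succ_succ, Nat.choose_one_right]

variable (hc : ∀ x y z : K, Commute ⁅x, y⁆ z)
include hc

theorem commutator_mul_left' (x y z : K) : ⁅x * y, z⁆ = ⁅x, z⁆ * ⁅y, z⁆ := by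
  have h1 : x * ⁅y, z⁆ * x⁻¹ = ⁅y, z⁆ := by rw [← (hc y z x).eq, mul_inv_cancel_right]
  calc ⁅x * y, z⁆ = x * ⁅y, z⁆ * x⁻¹ * ⁅x, z⁆ := by simp only [commutatorElement_def]; group
    _ = ⁅y, z⁆ * ⁅x, z⁆ := by rw [h1]
    _ = ⁅x, z⁆ * ⁅y, z⁆ := (hc y z _).eq

theorem commutator_mul_right' (x y z : K) : ⁅x, y * z⁆ = ⁅x, y⁆ * ⁅x, z⁆ := by
  have h1 : y * ⁅x, z⁆ * y⁻¹ = ⁅x, z⁆ := by rw [← (hc x z y).eq, mul_inv_cancel_right]
  calc ⁅x, y * z⁆ = ⁅x, y⁆ * (y * ⁅x, z⁆ * y⁻¹) := by simp only [commutatorElement_def]; group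
    _ = ⁅x, y⁆ * ⁅x, z⁆ := by rw [h1]

theorem commutator_pow_right' (x y : K) : ∀ n : ℕ, ⁅x, y ^ n⁆ = ⁅x, y⁆ ^ n
  | 0 => by simp
  | n + 1 => by rw [pow_succ, commutator_mul_right' hc, commutator_pow_right' x y n, pow_succ]

theorem mul_swap' (x y : K) : y * x = x * y * ⁅y, x⁆ := by
  rw [← ((hc y x x).mul_right (hc y x y)).eq, commutatorElement_def]
  group

end ClassTwo

/-! ### The Baer group -/

/-- The carrier of the abelian group attached to a group of odd exponent and class at most two. -/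
@[ext]
structure Baer (K : Type*) where
  /-- the underlying element -/
  val : K

/-- `h` with `2h ≡ 1` modulo the exponent. -/
@[instance_reducible]
def baerAddGroup {K : Type*} [Group K] (h : ℕ) (hc : ∀ x y z : K, Commute ⁅x, y⁆ z)
    (hh : ∀ x y : K, ⁅x, y⁆ ^ (h + h) = ⁅x, y⁆) : AddCommGroup (Baer K) :=
  letI : Add (Baer K) := ⟨fun a b => ⟨a.val * b.val * ⁅b.val, a.val⁆ ^ h⟩⟩
  letI : Zero (Baer K) := ⟨⟨1⟩⟩
  letI : Neg (Baer K) := ⟨fun a => ⟨a.val⁻¹⟩⟩
  have hself : ∀ x : K, ⁅x⁻¹, x⁆ = 1 := fun x => by rw [commutatorElement_def]; group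
  have hadd : ∀ a b : Baer K, (a + b).val = a.val * b.val * ⁅b.val, a.val⁆ ^ h := fun _ _ => rfl
  have hassoc : ∀ a b c : Baer K, a + b + c = a + (b + c) := fun a b c => by
    ext
    simp only [hadd]
    set x := a.val
    set y := b.val
    set z := c.val
    have hcen : ∀ (u v w : K) (n : ℕ), Commute (⁅u, v⁆ ^ n) w := fun u v w n => (hc u v w).pow_left n
    have h0 : ∀ (u v w r : K) (n : ℕ), ⁅r, u * v * ⁅v, u⁆ ^ n⁆ = ⁅r, u⁆ * ⁅r, v⁆ ∧
        ⁅u * v * ⁅v, u⁆ ^ n, r⁆ = ⁅u, r⁆ * ⁅v, r⁆ := by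
      intro u v w r n
      constructor
      · rw [commutator_mul_right' hc, commutator_mul_right' hc,
          commutatorElement_eq_one_iff_commute.mpr (hcen v u r n).symm, mul_one]
      · rw [commutator_mul_left' hc, commutator_mul_left' hc,
          commutatorElement_eq_one_iff_commute.mpr (hcen v u r n), mul_one]
    rw [(h0 x y z z h).1, (h0 y z x x h).2, (hc z x ⁅z, y⁆).mul_pow, (hc y x ⁅z, x⁆).mul_pow]
    calc x * y * ⁅y, x⁆ ^ h * z * (⁅z, x⁆ ^ h * ⁅z, y⁆ ^ h)
        = x * y * (⁅y, x⁆ ^ h * z) * (⁅z, x⁆ ^ h * ⁅z, y⁆ ^ h) := by group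
      _ = x * y * z * ((⁅y, x⁆ ^ h * ⁅z, x⁆ ^ h) * ⁅z, y⁆ ^ h) := by
          rw [(hcen y x z h).eq]; group
      _ = x * y * z * (⁅z, y⁆ ^ h * (⁅y, x⁆ ^ h * ⁅z, x⁆ ^ h)) := by
          rw [(hcen z y (⁅y, x⁆ ^ h * ⁅z, x⁆ ^ h) h).eq]
      _ = x * (y * z * ⁅z, y⁆ ^ h) * (⁅y, x⁆ ^ h * ⁅z, x⁆ ^ h) := by group
  have hcomm : ∀ a b : Baer K, a + b = b + a := fun a b => by
    ext
    simp only [hadd]
    have e : ⁅b.val, a.val⁆ * ⁅a.val, b.val⁆ ^ h = ⁅b.val, a.val⁆ ^ h := by
      rw [← commutatorElement_inv b.val a.val, inv_pow, mul_inv_eq_iff_eq_mul, ← pow_add]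
      exact (hh _ _).symm
    rw [mul_swap' hc a.val b.val, mul_assoc (a.val * b.val), e]
  have hzero : ∀ a : Baer K, 0 + a = a := fun a => by
    ext
    show 1 * a.val * ⁅a.val, (1 : K)⁆ ^ h = a.val
    simp
  { add_assoc := hassoc
    zero_add := hzero
    add_zero := fun a => by rw [hcomm, hzero]
    add_comm := hcomm
    neg_add_cancel := fun a => by
      ext
      show a.val⁻¹ * a.val * ⁅a.val, a.val⁻¹⁆ ^ h = 1
      rw [← commutatorElement_inv, hself, inv_one, one_pow, inv_mul_cancel, one_mul]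
    nsmul := nsmulRec
    zsmul := zsmulRec }

/-- The critical case: exponent `p` and class at most two. -/
theorem eq_bot_of_fixes_fixed_points {K : Type*} [Group K] [Finite K] {p : ℕ} [hp : Fact p.Prime]
    (hodd : p ≠ 2) (hc : ∀ x y z : K, Commute ⁅x, y⁆ z) (hexp : ∀ x : K, x ^ p = 1)
    (A Q : Subgroup (MulAut K)) (hA : IsPGroup p A) (hQ : (Nat.card Q).Coprime p)
    (hAQ : A ≤ Subgroup.normalizer (Q : Set (MulAut K)))
    (hfix : ∀ x, (∀ a ∈ A, a x = x) → ∀ q ∈ Q, q x = x) : Q = ⊥ := by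
  classical
  obtain ⟨k, hk⟩ := hp.out.odd_of_ne_two hodd
  letI := baerAddGroup (K := K) (k + 1) hc (fun x y => by
    rw [show k + 1 + (k + 1) = p + 1 by omega, pow_succ, hexp, one_mul])
  have hadd : ∀ a b : Baer K, (a + b).val = a.val * b.val * ⁅b.val, a.val⁆ ^ (k + 1) :=
    fun _ _ => rfl
  haveI : Finite (Baer K) := Finite.of_injective (fun a => a.val) (fun a b h => Baer.ext h)
  haveI : Fintype Q := Fintype.ofFinite Q
  let T : MulAut K → (Baer K →+ Baer K) := fun φ => AddMonoidHom.mk' (fun a => ⟨φ a.val⟩)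
    fun a b => by
      ext
      simp only [hadd, map_mul, map_pow, map_commutatorElement]
  let τ : Baer K →+ Baer K := ∑ q : Q, T q
  have hτ : ∀ a, τ a = ∑ q : Q, T q a := fun a => AddMonoidHom.finsetSum_apply _ Finset.univ a
  have hT : ∀ φ ψ a, T φ (T ψ a) = T (φ * ψ) a := fun φ ψ a => rfl
  have hτQ : ∀ (r : Q) a, τ (T r a) = τ a := by
    intro r a
    rw [hτ, hτ]
    exact Fintype.sum_equiv (Equiv.mulRight r) _ _ fun q => hT _ _ _
  have hnsmul : ∀ (n : ℕ) (a : Baer K), (n • a).val = a.val ^ n := by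
    intro n a
    induction n with
    | zero => rw [zero_nsmul, pow_zero]; rfl
    | succ n ih =>
      rw [succ_nsmul, hadd, ih,
        commutatorElement_eq_one_iff_commute.mpr (Commute.self_pow a.val n), one_pow, mul_one,
        ← pow_succ]
  by_contra hne
  have hninj : τ.ker ≠ ⊥ := by
    intro h
    apply hne
    rw [eq_bot_iff]
    intro q hq
    rw [Subgroup.mem_bot]
    ext x
    have h1 := (AddMonoidHom.ker_eq_bot_iff τ).mp h (hτQ ⟨q, hq⟩ ⟨x⟩)
    exact congrArg Baer.val h1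
  have hTA : ∀ φ ∈ A, ∀ a, T φ (τ a) = τ (T φ a) := by
    intro φ hφ a
    rw [hτ, hτ, map_sum]
    have hmem : ∀ q : Q, φ * q * φ⁻¹ ∈ Q := fun q =>
      (Subgroup.mem_normalizer_iff.mp (hAQ hφ) _).mp q.2
    refine Fintype.sum_bijective (fun q : Q => (⟨φ * q * φ⁻¹, hmem q⟩ : Q)) ?_ _ _ fun q => ?_
    · refine Finite.injective_iff_bijective.mp fun q r h => Subtype.ext ?_
      simpa using congrArg Subtype.val h
    · rw [hT, hT, inv_mul_cancel_right]
  letI : MulAction A τ.ker :=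
    { smul := fun φ a => ⟨T φ a, by rw [AddMonoidHom.mem_ker, ← hTA _ φ.2, a.2, map_zero]⟩
      one_smul := fun a => Subtype.ext rfl
      mul_smul := fun φ ψ a => Subtype.ext rfl }
  have hKp : IsPGroup p K := fun x => ⟨1, by rw [pow_one]; exact hexp x⟩
  have hp0 : p ∣ Nat.card τ.ker := by
    haveI : Nontrivial τ.ker := (AddSubgroup.nontrivial_iff_ne_bot _).mpr hninj
    have h1 := AddSubgroup.card_addSubgroup_dvd_card τ.ker
    have h3 : Nat.card (Baer K) = Nat.card K :=
      Nat.card_congr ⟨Baer.val, Baer.mk, fun _ => rfl, fun _ => rfl⟩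
    obtain ⟨n, hn⟩ := IsPGroup.iff_card.mp hKp
    rw [h3, hn] at h1
    obtain ⟨m, -, hm⟩ := (Nat.dvd_prime_pow hp.out).mp h1
    rw [hm]
    refine dvd_pow_self p ?_
    rintro rfl
    rw [pow_zero] at hm
    exact absurd (Finite.one_lt_card (α := τ.ker)) (by omega)
  obtain ⟨x, hx, hne0⟩ := hA.exists_fixed_point_of_prime_dvd_card_of_fixed_point τ.ker hp0
    (a := 0) (fun φ => Subtype.ext (map_zero (T φ)))
  have hxA : ∀ φ ∈ A, φ x.1.val = x.1.val := fun φ hφ =>
    congrArg (fun b : τ.ker => b.1.val) (hx ⟨φ, hφ⟩)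
  have hxQ := hfix _ hxA
  have h1 : Nat.card Q • x.1 = 0 := by
    have h2 : τ x.1 = 0 := x.2
    rw [hτ, Finset.sum_congr rfl fun (q : Q) _ =>
      (Baer.ext (hxQ (q : MulAut K) q.2) : T (q : MulAut K) x.1 = x.1)] at h2
    rwa [Finset.sum_const, Finset.card_univ, ← Nat.card_eq_fintype_card] at h2
  have h4 : p • x.1 = 0 := Baer.ext ((hnsmul p x.1).trans (hexp _))
  have h5 := Nat.eq_one_of_dvd_coprimes hQ (addOrderOf_dvd_of_nsmul_eq_zero h1)
    (addOrderOf_dvd_of_nsmul_eq_zero h4)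
  exact hne0 (Subtype.ext (AddMonoid.addOrderOf_eq_one_iff.mp h5).symm)

theorem commutator_le_frattini {K : Type*} [Group K] [Finite K] {p : ℕ} [hp : Fact p.Prime]
    (hK : IsPGroup p K) : commutator K ≤ frattini K ∧ ∀ x : K, x ^ p ∈ frattini K := by
  haveI := hK.isNilpotent
  have key : ∀ M : Subgroup K, IsCoatom M → commutator K ≤ M ∧ ∀ x : K, x ^ p ∈ M := by
    intro M hM
    haveI : M.Normal :=
      Subgroup.NormalizerCondition.normal_of_coatom M Group.normalizerCondition_of_isNilpotent hM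
    haveI : Nontrivial (K ⧸ M) := QuotientGroup.nontrivial_iff.mpr hM.1
    obtain ⟨n, hn⟩ := IsPGroup.iff_card.mp (hK.to_quotient M)
    have hn0 : p ∣ Nat.card (K ⧸ M) := by
      rw [hn]
      refine dvd_pow_self p ?_
      rintro rfl
      rw [pow_zero] at hn
      exact absurd (Finite.one_lt_card (α := K ⧸ M)) (by omega)
    obtain ⟨y, hy⟩ := exists_prime_orderOf_dvd_card' p hn0
    have htop : Subgroup.zpowers y = ⊤ := by
      have h1 : (Subgroup.zpowers y).comap (QuotientGroup.mk' M) = ⊤ := by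
        refine hM.2 _ (lt_of_le_of_ne ?_ ?_)
        · intro z hz
          rw [Subgroup.mem_comap, QuotientGroup.mk'_apply, (QuotientGroup.eq_one_iff z).mpr hz]
          exact one_mem _
        · intro h
          obtain ⟨z, rfl⟩ := QuotientGroup.mk'_surjective M y
          have h2 : z ∈ M := h ▸ Subgroup.mem_zpowers (QuotientGroup.mk' M z)
          rw [QuotientGroup.mk'_apply, (QuotientGroup.eq_one_iff z).mpr h2, orderOf_one] at hy
          exact hp.out.ne_one hy.symm
      rw [← Subgroup.map_comap_eq_self_of_surjective (QuotientGroup.mk'_surjective M)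
        (Subgroup.zpowers y), h1, Subgroup.map_top_of_surjective _ (QuotientGroup.mk'_surjective M)]
    refine ⟨?_, fun x => ?_⟩
    · haveI : IsCyclic (K ⧸ M) :=
        ⟨y, fun z => Subgroup.mem_zpowers_iff.mp (by rw [htop]; trivial)⟩
      haveI : IsMulCommutative (K ⧸ M) := IsCyclic.isMulCommutative
      refine le_trans ?_ (QuotientGroup.ker_mk' M).le
      rw [commutator_def, Subgroup.commutator_le]
      intro a _ b _
      rw [MonoidHom.mem_ker, map_commutatorElement, commutatorElement_eq_one_iff_commute]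
      exact mul_comm' _ _
    · rw [← QuotientGroup.eq_one_iff, QuotientGroup.mk_pow]
      have h2 : Nat.card (K ⧸ M) = p := by
        rw [← Subgroup.card_top, ← htop, Nat.card_zpowers, hy]
      exact h2 ▸ pow_card_eq_one'
  constructor
  · rw [frattini, Order.radical]
    exact le_iInf₂ fun M hM => (key M hM).1
  · intro x
    rw [frattini, Order.radical]
    simp only [Subgroup.mem_iInf]
    exact fun M hM => (key M hM).2 x

/-- For odd `p`: if `Q`, normalized by the `p`-group `A`, centralizes the elements of order `p` of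
`C_R(A)`, then it centralizes the `p`-group `R`. -/
theorem le_centralizer_of_omega {G : Type*} [Group G] [Finite G] {p : ℕ} [hp : Fact p.Prime]
    (hodd : p ≠ 2) {A Q : Subgroup G} (hA : IsPGroup p A) (hQ : (Nat.card Q).Coprime p)
    (hAQ : A ≤ Subgroup.normalizer (Q : Set G)) :
    ∀ {R : Subgroup G}, IsPGroup p R → A ≤ Subgroup.normalizer (R : Set G) →
      Q ≤ Subgroup.normalizer (R : Set G) →
      (∀ x ∈ R, x ^ p = 1 → x ∈ Subgroup.centralizer (A : Set G) →
        x ∈ Subgroup.centralizer (Q : Set G)) →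
      Q ≤ Subgroup.centralizer (R : Set G) := by
  intro R
  induction R using WellFoundedLT.induction with
  | ind R IH =>
  intro hR hAR hQR hΩ
  have hcop : (Nat.card Q).Coprime (Nat.card R) := (coprime_card_of_isPGroup hR hQ).symm
  set N := ⁅R, Q⁆ with hN
  have hNR : N ≤ R := commutator_le_left_of_le_normalizer hQR
  rcases hNR.lt_or_eq with hlt | heq
  · have h1 := IH N hlt (hR.to_le hNR) (le_normalizer_commutator hAR hAQ)
      (le_normalizer_commutator hQR Subgroup.le_normalizer) fun x hx => hΩ x (hNR hx)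
    have h3 : ⁅N, Q⁆ = ⊥ := Subgroup.commutator_eq_bot_iff_le_centralizer.mpr fun u hu v hv =>
      (h1 hv u hu).symm
    have h2 := commutator_eq_bot_of_commutator_commutator hQR hcop h3
    rw [Subgroup.commutator_comm] at h2
    exact Subgroup.commutator_eq_bot_iff_le_centralizer.mp h2
  rcases eq_or_ne R ⊥ with rfl | hRne
  · intro q _ u hu
    rw [SetLike.mem_coe, Subgroup.mem_bot] at hu
    simp [hu]
  set Φ := (frattini R).map R.subtype with hΦ
  have hΦR : Φ ≤ R := Subgroup.map_subtype_le _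
  have hΦlt : Φ < R := by
    refine lt_of_le_of_ne hΦR fun h => ?_
    haveI : Nontrivial R := (Subgroup.nontrivial_iff_ne_bot R).mpr hRne
    have h1 : frattini R = ⊤ := by
      apply Subgroup.map_injective R.subtype_injective
      rw [← hΦ, h, ← MonoidHom.range_eq_map, Subgroup.range_subtype]
    obtain ⟨M, hM, -⟩ := (eq_top_or_exists_le_coatom (⊥ : Subgroup R)).resolve_left bot_ne_top
    exact hM.1 (top_le_iff.mp (h1 ▸ frattini_le_coatom hM))
  obtain ⟨hcomR, hpowR⟩ := commutator_le_frattini hR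
  haveI : (frattini R).Characteristic := frattini_characteristic
  have hQΦ := IH Φ hΦlt (hR.to_le hΦR) (le_normalizer_map_of_characteristic hAR _)
    (le_normalizer_map_of_characteristic hQR _) fun x hx => hΩ x (hΦR hx)
  have hΦcent : ∀ x ∈ Φ, ∀ z ∈ R, Commute x z := by
    have h1 : ⁅⁅R, Φ⁆, Q⁆ = ⊥ := by
      have h2 : ⁅R, Φ⁆ ≤ Φ := by
        rw [Subgroup.commutator_comm]
        exact commutator_le_left_of_le_normalizer
          (le_normalizer_map_of_characteristic Subgroup.le_normalizer _)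
      rw [eq_bot_iff]
      refine (Subgroup.commutator_mono h2 le_rfl).trans (le_of_eq ?_)
      exact Subgroup.commutator_eq_bot_iff_le_centralizer.mpr fun u hu v hv => (hQΦ hv u hu).symm
    have h2 : ⁅⁅Φ, Q⁆, R⁆ = ⊥ := by
      rw [Subgroup.commutator_eq_bot_iff_le_centralizer.mpr
        (fun u hu v hv => (hQΦ hv u hu).symm : Φ ≤ Subgroup.centralizer (Q : Set G)),
        Subgroup.commutator_bot_left]
    have h3 := Subgroup.commutator_commutator_eq_bot_of_rotate h1 h2
    rw [Subgroup.commutator_comm Q R, ← hN, heq] at h3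
    intro x hx z hz
    exact ((Subgroup.commutator_eq_bot_iff_le_centralizer.mp h3) hz x hx)
  have hcR : ∀ x ∈ R, ∀ y ∈ R, ⁅x, y⁆ ∈ Φ := by
    intro x hx y hy
    exact ⟨⁅⟨x, hx⟩, ⟨y, hy⟩⁆,
      hcomR (Subgroup.commutator_mem_commutator (Subgroup.mem_top _) (Subgroup.mem_top _)), rfl⟩
  have hpΦ : ∀ x ∈ R, x ^ p ∈ Φ := fun x hx => ⟨⟨x, hx⟩ ^ p, hpowR _, rfl⟩
  have hc : ∀ x y z : R, Commute ⁅x, y⁆ z := fun x y z =>
    Subtype.ext (hΦcent _ (hcR x x.2 y y.2) z z.2).eq
  have hcp : ∀ x y : R, ⁅y, x⁆ ^ p = 1 := fun x y => by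
    rw [← commutator_pow_right' hc, commutatorElement_eq_one_iff_commute]
    exact (Subtype.ext (hΦcent _ (hpΦ x x.2) y y.2).eq : Commute (x ^ p) y).symm
  have hmulp : ∀ x y : R, (x * y) ^ p = x ^ p * y ^ p := by
    intro x y
    rw [mul_pow_of_comm (hc y x x) (hc y x y)]
    obtain ⟨m, hm⟩ := hp.out.dvd_choose_self (by norm_num : (2 : ℕ) ≠ 0)
      (lt_of_le_of_ne hp.out.two_le (Ne.symm hodd))
    rw [hm, pow_mul, hcp, one_pow, mul_one]
  let E : Subgroup G := (MonoidHom.mk' (fun x : R => x ^ p) hmulp).ker.map R.subtype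
  have hexp : ∀ x : R, x ^ p = 1 := by
    have hle : N ≤ E := by
      rw [hN, Subgroup.commutator_le]
      intro x hx q hq
      have hq' : q * x⁻¹ * q⁻¹ ∈ R :=
        (Subgroup.mem_normalizer_iff.mp (hQR hq) _).mp (inv_mem hx)
      refine ⟨⟨x, hx⟩ * ⟨q * x⁻¹ * q⁻¹, hq'⟩, ?_, ?_⟩
      · rw [SetLike.mem_coe, MonoidHom.mem_ker, MonoidHom.mk'_apply, hmulp]
        apply Subtype.ext
        show x ^ p * (q * x⁻¹ * q⁻¹) ^ p = 1
        have h6 : x ^ p * q = q * x ^ p := hQΦ hq _ (hpΦ x hx)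
        rw [conj_pow, inv_pow]
        calc x ^ p * (q * (x ^ p)⁻¹ * q⁻¹) = (x ^ p * q) * (x ^ p)⁻¹ * q⁻¹ := by group
          _ = (q * x ^ p) * (x ^ p)⁻¹ * q⁻¹ := by rw [h6]
          _ = 1 := by group
      · show x * (q * x⁻¹ * q⁻¹) = ⁅x, q⁆
        rw [commutatorElement_def]; group
    intro x
    have hxN : (x : G) ∈ N := by rw [heq]; exact x.2
    obtain ⟨y, hy, he⟩ := hle hxN
    rw [← Subtype.ext (he : (y : G) = x)]
    exact hy
  have hbot : (Q.subgroupOf (Subgroup.normalizer (R : Set G))).map R.normalizerMonoidHom = ⊥ := by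
    refine eq_bot_of_fixes_fixed_points hodd hc hexp
      ((A.subgroupOf (Subgroup.normalizer (R : Set G))).map R.normalizerMonoidHom) _
      ((hA.comap_of_injective _ (Subgroup.subtype_injective _)).map _) ?_ ?_ ?_
    · refine hQ.coprime_dvd_left (dvd_trans (Subgroup.card_map_dvd _ _) ?_)
      rw [Nat.card_congr (Subgroup.subgroupOfEquivOfLe hQR).toEquiv]
    · refine le_trans (Subgroup.map_mono ?_) (Subgroup.le_normalizer_map _)
      intro a ha
      rw [Subgroup.mem_normalizer_iff]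
      intro x
      simp only [Subgroup.mem_subgroupOf, Subgroup.coe_mul, InvMemClass.coe_inv]
      exact Subgroup.mem_normalizer_iff.mp (hAQ ha) x
    · rintro x hx _ ⟨q, hq, rfl⟩
      have hxA : (x : G) ∈ Subgroup.centralizer (A : Set G) := by
        intro a ha
        have h : a * (x : G) * a⁻¹ = x :=
          congrArg Subtype.val (hx _ (Subgroup.mem_map_of_mem R.normalizerMonoidHom
            (show (⟨a, hAR ha⟩ : Subgroup.normalizer (R : Set G)) ∈ A.subgroupOf _ from ha)))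
        exact mul_inv_eq_iff_eq_mul.mp h
      have h1 := hΩ x x.2 (congrArg Subtype.val (hexp x)) hxA q hq
      exact Subtype.ext (show (q : G) * x * (q : G)⁻¹ = x from mul_inv_eq_iff_eq_mul.mpr h1)
  intro q hq u hu
  have h1 : R.normalizerMonoidHom ⟨q, hQR hq⟩ = 1 := by
    rw [← Subgroup.mem_bot, ← hbot]
    exact Subgroup.mem_map_of_mem _ hq
  have h2 : q * u * q⁻¹ = u := congrArg Subtype.val (DFunLike.congr_fun h1 (⟨u, hu⟩ : R))
  exact (mul_inv_eq_iff_eq_mul.mp h2).symm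

end CfsgLib.PSolvable

namespace CfsgLib.PSolvable

/-- In a `p`-constrained group, `p` odd, a `p'`-subgroup normalized by a `p`-subgroup `A` containing
all elements of order `p` centralizing it lies in `O_{p'}`. -/
theorem le_pPrimeCore_of_omega {X : Type*} [Group X] [Finite X] {p : ℕ} [hp : Fact p.Prime]
    (hodd : p ≠ 2) (hX : Cfsg.IsPConstrained p X) {A Q : Subgroup X} (hA : IsPGroup p A)
    (hΩ : ∀ x ∈ Subgroup.centralizer (A : Set X), orderOf x = p → x ∈ A)
    (hQ : (Nat.card Q).Coprime p) (hAQ : A ≤ Subgroup.normalizer (Q : Set X)) :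
    Q ≤ Cfsg.pPrimeCore p X := by
  haveI := Transfer.pPrimeCore_normal p X
  set f := QuotientGroup.mk' (Cfsg.pPrimeCore p X) with hf
  have hsurj : Function.Surjective f := QuotientGroup.mk'_surjective _
  have hK : (Nat.card f.ker).Coprime p := by
    rw [hf, QuotientGroup.ker_mk']; exact Transfer.pPrimeCore_coprime p
  rw [isPConstrained_iff] at hX
  haveI := pCore_normal (G := X ⧸ Cfsg.pPrimeCore p X) p
  set R := Cfsg.pCore p (X ⧸ Cfsg.pPrimeCore p X) with hR
  have hQp : (Nat.card (Q.map f)).Coprime p := hQ.coprime_dvd_left (Q.card_map_dvd f)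
  have hAQ' : A.map f ≤ Subgroup.normalizer ((Q.map f : Subgroup _) : Set _) :=
    (Subgroup.map_mono hAQ).trans (Subgroup.le_normalizer_map f)
  have h1 := le_centralizer_of_omega hodd (hA.map f) hQp hAQ' (pCore_isPGroup p)
    Subgroup.le_normalizer_of_normal Subgroup.le_normalizer_of_normal fun x hxR hxp hxA => by
    obtain ⟨x₀, rfl⟩ := hsurj x
    obtain ⟨n, hn, he⟩ := exists_mem_centralizer_of_map hK hA hxA
    have hxA' : f x₀ ∈ A.map f := by
      rcases eq_or_ne (f x₀) 1 with h | h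
      · rw [h]; exact one_mem _
      obtain ⟨a, m, hm, -, -, hord⟩ := Transfer.exists_pow_coprime_part (p := p) n
      have hox : orderOf (f x₀) = p := orderOf_eq_prime hxp h
      have hco : m.Coprime (orderOf (f x₀)) := by
        rw [hox]; exact ((Nat.Prime.coprime_iff_not_dvd hp.out).mpr hm).symm
      have hne : f (n ^ m) ≠ 1 := fun h2 => h (orderOf_eq_one_iff.mp
        (Nat.eq_one_of_dvd_coprimes hco
          (orderOf_dvd_of_pow_eq_one (by rw [← he, ← map_pow]; exact h2)) dvd_rfl))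
      have hyp : (n ^ m) ^ p = 1 := by
        refine eq_one_of_mem_of_mem
          (P := Subgroup.zpowers (n ^ m)) (Transfer.isPGroup_zpowers ⟨a, hord⟩) hK
          (pow_mem (Subgroup.mem_zpowers _) p) ?_
        rw [MonoidHom.mem_ker, map_pow, map_pow, he, pow_right_comm, hxp, one_pow]
      have hyA := hΩ (n ^ m) (pow_mem hn m)
        (orderOf_eq_prime hyp fun h2 => hne (by rw [h2, map_one]))
      obtain ⟨k, hk⟩ := exists_pow_eq_self_of_coprime hco
      rw [← hk]
      refine pow_mem ?_ k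
      rw [← he, ← map_pow]
      exact Subgroup.mem_map_of_mem f hyA
    intro q hq
    have hqn : f x₀ * q * (f x₀)⁻¹ * q⁻¹ ∈ Q.map f :=
      mul_mem ((Subgroup.mem_normalizer_iff.mp (hAQ' hxA') q).mp hq) (inv_mem hq)
    have hqR : f x₀ * (q * (f x₀)⁻¹ * q⁻¹) ∈ R :=
      mul_mem hxR (Subgroup.Normal.conj_mem inferInstance _ (inv_mem hxR) q)
    rw [← mul_assoc, ← mul_assoc] at hqR
    have h3 := eq_one_of_mem_of_mem (pCore_isPGroup p) hQp hqR hqn
    rw [mul_inv_eq_one, mul_inv_eq_iff_eq_mul] at h3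
    exact h3.symm
  intro q hq
  have h2 := eq_one_of_mem_of_mem (pCore_isPGroup p) hQp (hX (h1 (Subgroup.mem_map_of_mem f hq)))
    (Subgroup.mem_map_of_mem f hq)
  rwa [hf, QuotientGroup.mk'_apply, QuotientGroup.eq_one_iff] at h2

end CfsgLib.PSolvable

namespace CfsgLib.PSolvable

/-- The analogue for `p = 2`: a Sylow subgroup of class at most two replaces oddness. -/
theorem le_centralizer_of_class_two {G : Type*} [Group G] [Finite G] {p : ℕ} [Fact p.Prime]
    {A Q R : Subgroup G} (hQ : (Nat.card Q).Coprime p) (hAQ : A ≤ Subgroup.normalizer (Q : Set G))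
    (hR : IsPGroup p R) (hQR : Q ≤ Subgroup.normalizer (R : Set G))
    (hAR : A ≤ Subgroup.normalizer (R : Set G)) (hRAA : ⁅⁅R, A⁆, A⁆ = ⊥)
    (hfix : R ⊓ Subgroup.centralizer (A : Set G) ≤ Subgroup.centralizer (Q : Set G)) :
    Q ≤ Subgroup.centralizer (R : Set G) := by
  have hcop : (Nat.card Q).Coprime (Nat.card R) := (coprime_card_of_isPGroup hR hQ).symm
  set Z := R ⊓ Subgroup.centralizer (A : Set G) with hZ
  have hRA : ⁅R, A⁆ ≤ Z := le_inf (commutator_le_left_of_le_normalizer hAR)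
    (Subgroup.commutator_eq_bot_iff_le_centralizer.mp hRAA)
  have hW : ⁅Q, A⁆ ≤ Q := commutator_le_left_of_le_normalizer hAQ
  have hconjA : ∀ a ∈ A, ∀ r ∈ R, a * r * a⁻¹ * r⁻¹ ∈ Z := fun a ha r hr =>
    hRA (Subgroup.commutator_comm A R ▸ Subgroup.commutator_mem_commutator ha hr)
  have hZQ : ∀ z ∈ Z, ∀ q ∈ Q, q * z * q⁻¹ = z := fun z hz q hq => by
    rw [mul_inv_eq_iff_eq_mul]
    exact hfix hz q hq
  have hWR : ∀ w ∈ ⁅Q, A⁆, ∀ r ∈ R, w * r * w⁻¹ * r⁻¹ ∈ Z := by
    intro w hw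
    rw [Subgroup.commutator_def] at hw
    induction hw using Subgroup.closure_induction with
    | mem w hw =>
      obtain ⟨q, hq, a, ha, rfl⟩ := hw
      intro r hr
      have h1 : a⁻¹ * r * a * r⁻¹ ∈ Z := by
        simpa using hconjA a⁻¹ (inv_mem ha) r hr
      have hr2 : q⁻¹ * r * q ∈ R := (Subgroup.mem_normalizer_iff''.mp (hQR hq) r).mp hr
      have h2 := hconjA a ha _ hr2
      have e1 : q⁻¹ * (a⁻¹ * r * a) * q = (a⁻¹ * r * a * r⁻¹) * (q⁻¹ * r * q) := by
        have h3 := hZQ _ h1 q⁻¹ (inv_mem hq)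
        rw [inv_inv] at h3
        calc q⁻¹ * (a⁻¹ * r * a) * q = (q⁻¹ * (a⁻¹ * r * a * r⁻¹) * q) * (q⁻¹ * r * q) := by group
          _ = (a⁻¹ * r * a * r⁻¹) * (q⁻¹ * r * q) := by rw [h3]
      have e2 : a * (a⁻¹ * r * a * r⁻¹) * a⁻¹ = a⁻¹ * r * a * r⁻¹ := by
        rw [mul_inv_eq_iff_eq_mul]
        exact (Subgroup.mem_inf.mp h1).2 a ha
      have hm := mul_mem h1 h2
      have e3 := hZQ _ hm q hq
      rw [commutatorElement_def]
      convert hm using 1
      calc q * a * q⁻¹ * a⁻¹ * r * (q * a * q⁻¹ * a⁻¹)⁻¹ * r⁻¹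
          = q * (a * (q⁻¹ * (a⁻¹ * r * a) * q) * a⁻¹) * q⁻¹ * r⁻¹ := by group
        _ = q * ((a * (a⁻¹ * r * a * r⁻¹) * a⁻¹) * (a * (q⁻¹ * r * q) * a⁻¹ * (q⁻¹ * r * q)⁻¹)
              * (q⁻¹ * r * q)) * q⁻¹ * r⁻¹ := by rw [e1]; group
        _ = q * ((a⁻¹ * r * a * r⁻¹) * (a * (q⁻¹ * r * q) * a⁻¹ * (q⁻¹ * r * q)⁻¹)) * q⁻¹ := by
          rw [e2]; group
        _ = (a⁻¹ * r * a * r⁻¹) * (a * (q⁻¹ * r * q) * a⁻¹ * (q⁻¹ * r * q)⁻¹) := e3
    | one => intro r hr; simp
    | mul u v hu hv ihu ihv =>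
      intro r hr
      rw [← Subgroup.commutator_def] at hu
      have e := hZQ _ (ihv r hr) u (hW hu)
      have hm := mul_mem (ihv r hr) (ihu r hr)
      convert hm using 1
      calc u * v * r * (u * v)⁻¹ * r⁻¹
          = (u * (v * r * v⁻¹ * r⁻¹) * u⁻¹) * (u * r * u⁻¹ * r⁻¹) := by group
        _ = (v * r * v⁻¹ * r⁻¹) * (u * r * u⁻¹ * r⁻¹) := by rw [e]
    | inv u hu ih =>
      intro r hr
      rw [← Subgroup.commutator_def] at hu
      have hr2 : u⁻¹ * r * u ∈ R := (Subgroup.mem_normalizer_iff''.mp (hQR (hW hu)) r).mp hr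
      have h := ih _ hr2
      convert inv_mem h using 1
      group
  set W := ⁅Q, A⁆
  have hWn : W ≤ Subgroup.normalizer (R : Set G) := hW.trans hQR
  have hRW : ⁅R, W⁆ ≤ Z := by
    rw [Subgroup.commutator_comm, Subgroup.commutator_le]
    intro w hw r hr
    rw [commutatorElement_def]
    exact hWR w hw r hr
  have hWcent : ⁅R, W⁆ = ⊥ := by
    refine commutator_eq_bot_of_commutator_commutator hWn
      (hcop.coprime_dvd_left (Subgroup.card_dvd_of_le hW)) ?_
    rw [eq_bot_iff]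
    refine (Subgroup.commutator_mono hRW hW).trans (le_of_eq ?_)
    exact Subgroup.commutator_eq_bot_iff_le_centralizer.mpr hfix
  have hRQ : ⁅R, Q⁆ ≤ Z := by
    refine le_inf (commutator_le_left_of_le_normalizer hQR) ?_
    rw [Subgroup.commutator_comm R Q]
    refine Subgroup.commutator_eq_bot_iff_le_centralizer.mp ?_
    refine Subgroup.commutator_commutator_eq_bot_of_rotate ?_ ?_
    · rw [eq_bot_iff]
      exact (Subgroup.commutator_mono hRA le_rfl).trans
        (Subgroup.commutator_eq_bot_iff_le_centralizer.mpr hfix).le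
    · rw [Subgroup.commutator_comm A Q, Subgroup.commutator_comm, hWcent]
  have h5 : ⁅R, Q⁆ = ⊥ := by
    refine commutator_eq_bot_of_commutator_commutator hQR hcop ?_
    rw [eq_bot_iff]
    exact (Subgroup.commutator_mono hRQ le_rfl).trans
      (Subgroup.commutator_eq_bot_iff_le_centralizer.mpr hfix).le
  rw [Subgroup.commutator_comm] at h5
  exact Subgroup.commutator_eq_bot_iff_le_centralizer.mp h5

/-- Class at most two, as a commutator identity. -/
theorem commutator_commutator_self_eq_bot {S : Type*} [Group S] [Group.IsNilpotent S]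
    (h : Group.nilpotencyClass S ≤ 2) : ⁅⁅(⊤ : Subgroup S), (⊤ : Subgroup S)⁆, (⊤ : Subgroup S)⁆ = (⊥ : Subgroup S) :=
  Subgroup.lowerCentralSeries_eq_bot_iff_nilpotencyClass_le.mpr h

theorem le_pPrimeCore_of_class_two {X : Type*} [Group X] [Finite X] {p : ℕ} [hp : Fact p.Prime]
    (hX : Cfsg.IsPConstrained p X) {A Q : Subgroup X} (hA : IsPGroup p A)
    (hfull : ∀ x ∈ Subgroup.centralizer (A : Set X), IsPGroup p (Subgroup.zpowers x) → x ∈ A)
    (hclass : ∀ T : Subgroup X, IsPGroup p T → ⁅⁅T, T⁆, T⁆ = ⊥)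
    (hQ : (Nat.card Q).Coprime p) (hAQ : A ≤ Subgroup.normalizer (Q : Set X)) :
    Q ≤ Cfsg.pPrimeCore p X := by
  haveI := Transfer.pPrimeCore_normal p X
  set f := QuotientGroup.mk' (Cfsg.pPrimeCore p X) with hf
  have hsurj : Function.Surjective f := QuotientGroup.mk'_surjective _
  have hK : (Nat.card f.ker).Coprime p := by
    rw [hf, QuotientGroup.ker_mk']; exact Transfer.pPrimeCore_coprime p
  rw [isPConstrained_iff] at hX
  haveI := pCore_normal (G := X ⧸ Cfsg.pPrimeCore p X) p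
  set R := Cfsg.pCore p (X ⧸ Cfsg.pPrimeCore p X) with hR
  have hQp : (Nat.card (Q.map f)).Coprime p := hQ.coprime_dvd_left (Q.card_map_dvd f)
  have hAQ' : A.map f ≤ Subgroup.normalizer ((Q.map f : Subgroup _) : Set _) :=
    (Subgroup.map_mono hAQ).trans (Subgroup.le_normalizer_map f)
  have hRA : ⁅⁅R, A.map f⁆, A.map f⁆ = ⊥ := by
    obtain ⟨T, hT⟩ := hA.exists_le_sylow
    have hRT : R ≤ (T : Subgroup X).map f :=
      IsPGroup.le_sylow_of_normal (pCore_isPGroup p) (T.mapSurjective hsurj)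
    have hAT : A.map f ≤ (T : Subgroup X).map f := Subgroup.map_mono hT
    have h := congrArg (Subgroup.map f) (hclass T T.2)
    rw [Subgroup.map_commutator, Subgroup.map_commutator, Subgroup.map_bot] at h
    rw [eq_bot_iff, ← h]
    exact Subgroup.commutator_mono (Subgroup.commutator_mono hRT hAT) hAT
  have hfix : R ⊓ Subgroup.centralizer ((A.map f : Subgroup _) : Set _)
      ≤ Subgroup.centralizer ((Q.map f : Subgroup _) : Set _) := by
    intro x hx
    obtain ⟨hxR, hxA⟩ := Subgroup.mem_inf.mp hx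
    obtain ⟨x₀, rfl⟩ := hsurj x
    obtain ⟨n, hn, he⟩ := exists_mem_centralizer_of_map hK hA hxA
    have hxA' : f x₀ ∈ A.map f := by
      obtain ⟨a, m, hm, -, -, hord⟩ := Transfer.exists_pow_coprime_part (p := p) n
      obtain ⟨i, hi⟩ := IsPGroup.iff_orderOf.mp (pCore_isPGroup p) ⟨f x₀, hxR⟩
      rw [Subgroup.orderOf_mk] at hi
      have hco : m.Coprime (orderOf (f x₀)) := by
        rw [hi]; exact (((Nat.Prime.coprime_iff_not_dvd hp.out).mpr hm).symm).pow_right i
      have hyA := hfull (n ^ m) (pow_mem hn m) (Transfer.isPGroup_zpowers ⟨a, hord⟩)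
      obtain ⟨k, hk⟩ := exists_pow_eq_self_of_coprime hco
      rw [← hk]
      refine pow_mem ?_ k
      rw [← he, ← map_pow]
      exact Subgroup.mem_map_of_mem f hyA
    intro q hq
    have hqn : f x₀ * q * (f x₀)⁻¹ * q⁻¹ ∈ Q.map f :=
      mul_mem ((Subgroup.mem_normalizer_iff.mp (hAQ' hxA') q).mp hq) (inv_mem hq)
    have hqR : f x₀ * (q * (f x₀)⁻¹ * q⁻¹) ∈ R :=
      mul_mem hxR (Subgroup.Normal.conj_mem inferInstance _ (inv_mem hxR) q)
    rw [← mul_assoc, ← mul_assoc] at hqR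
    have h3 := eq_one_of_mem_of_mem (pCore_isPGroup p) hQp hqR hqn
    rw [mul_inv_eq_one, mul_inv_eq_iff_eq_mul] at h3
    exact h3.symm
  have h1 := le_centralizer_of_class_two hQp hAQ' (pCore_isPGroup p)
    Subgroup.le_normalizer_of_normal Subgroup.le_normalizer_of_normal hRA hfix
  intro q hq
  have h2 := eq_one_of_mem_of_mem (pCore_isPGroup p) hQp (hX (h1 (Subgroup.mem_map_of_mem f hq)))
    (Subgroup.mem_map_of_mem f hq)
  rwa [hf, QuotientGroup.mk'_apply, QuotientGroup.eq_one_iff] at h2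

end CfsgLib.PSolvable
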