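import Cfsg.Agent.Lib.PSolvable.Constrained

/-!
A group with a normal `p`-subgroup whose centralizer is `p`-constrained is `p`-constrained.
-/

set_option autoImplicit false
set_option linter.style.haveILetI false

open CfsgLib.Coprime CfsgLib.Fitting

namespace CfsgLib.PSolvable

variable {G : Type*} [Group G] {p : ℕ}

theorem isPConstrained_of_centralizer [Finite G] [Fact p.Prime] (P : Subgroup G) [P.Normal]
    (hP : IsPGroup p P)
    (hC : Cfsg.IsPConstrained p ↥(Subgroup.centralizer (P : Set G))) : Cfsg.IsPConstrained p G := by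
  haveI := Transfer.pPrimeCore_normal p G
  set K := Cfsg.pPrimeCore p G with hK
  set C := Subgroup.centralizer (P : Set G) with hCdef
  have hKcop : (Nat.card K).Coprime p := Transfer.pPrimeCore_coprime p
  have hfix : ∀ x : G, (∀ u ∈ P, x * u * x⁻¹ * u⁻¹ ∈ K) → x ∈ C := by
    intro x hx
    rw [hCdef, Subgroup.mem_centralizer_iff]
    intro u hu
    have h1 := eq_one_of_mem_of_mem hP hKcop
      (mul_mem ((inferInstance : P.Normal).conj_mem u hu x) (inv_mem hu)) (hx u hu)
    exact (mul_inv_eq_iff_eq_mul.mp (mul_inv_eq_one.mp h1)).symm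
  have hKC : K ≤ C := fun x hx => hfix x fun u _ => by
    rw [show x * u * x⁻¹ * u⁻¹ = x * (u * x⁻¹ * u⁻¹) by group]
    exact mul_mem hx ((inferInstance : K.Normal).conj_mem _ (inv_mem hx) u)
  haveI : C.Normal := Subgroup.normal_centralizer
  set f := QuotientGroup.mk' K with hf
  have hsurj : Function.Surjective f := QuotientGroup.mk'_surjective _
  have hker : (f.subgroupMap C).ker = Cfsg.pPrimeCore p C := by
    rw [Subgroup.ker_subgroupMap, hf, QuotientGroup.ker_mk']
    refine le_antisymm (Transfer.le_pPrimeCore inferInstance ?_) fun x hx => ?_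
    · rwa [Nat.card_congr (Subgroup.subgroupOfEquivOfLe hKC).toEquiv]
    · exact map_pPrimeCore_le C (Subgroup.mem_map_of_mem C.subtype hx)
  have hC' := (isPConstrained_iff_of_surjective (f.subgroupMap_surjective C) hker).mp hC
  rw [isPConstrained_iff]
  haveI := pCore_normal (G := G ⧸ K) p
  refine le_pCore Subgroup.normal_centralizer
    (isPGroup_of_forall_coprime fun y hy hyp => ?_)
  obtain ⟨x, rfl⟩ := hsurj y
  have hxC : x ∈ C := hfix x fun u hu => by
    have hmem : f u ∈ Cfsg.pCore p (G ⧸ K) :=
      le_pCore ((inferInstance : P.Normal).map f hsurj) (hP.map f) ⟨u, hu, rfl⟩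
    have h1 := Subgroup.mem_centralizer_iff.mp hy _ hmem
    rw [← QuotientGroup.eq_one_iff, ← QuotientGroup.mk'_apply, ← hf, map_mul, map_mul, map_mul,
      map_inv, map_inv, ← h1]
    group
  have hle : (Cfsg.pCore p ↥(C.map f)).map (C.map f).subtype ≤ Cfsg.pCore p (G ⧸ K) := by
    haveI : (C.map f).Normal := (inferInstance : C.Normal).map f hsurj
    exact le_pCore (normal_map_of_characteristic (C.map f) _) ((pCore_isPGroup p).map _)
  have hy' : (⟨f x, x, hxC, rfl⟩ : C.map f) ∈
      Subgroup.centralizer (Cfsg.pCore p ↥(C.map f) : Set ↥(C.map f)) := by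
    rw [Subgroup.mem_centralizer_iff]
    intro c hc
    exact Subtype.ext (Subgroup.mem_centralizer_iff.mp hy _ (hle ⟨c, hc, rfl⟩))
  have hmem := hle (Subgroup.mem_map_of_mem (C.map f).subtype (hC' hy'))
  exact eq_one_of_mem_of_mem (pCore_isPGroup p) (by rwa [Nat.card_zpowers])
    hmem (Subgroup.mem_zpowers _)

/-- `C_G(T)`, seen inside an overgroup. -/
theorem isPConstrained_centralizer_of_le [Finite G] [Fact p.Prime] {M T : Subgroup G}
    (hM : Cfsg.IsPConstrained p ↥M) (hT : IsPGroup p T) (hTM : T ≤ M)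
    (hC : Subgroup.centralizer (T : Set G) ≤ M) :
    Cfsg.IsPConstrained p ↥(Subgroup.centralizer (T : Set G)) := by
  have h := isPConstrained_centralizer hM (hT.comap_of_injective M.subtype M.subtype_injective)
  refine isPConstrained_of_mulEquiv ?_ h
  refine (MulEquiv.subgroupCongr ?_).trans (Subgroup.subgroupOfEquivOfLe hC)
  ext c
  rw [Subgroup.mem_centralizer_iff, Subgroup.mem_subgroupOf, Subgroup.mem_centralizer_iff]
  exact ⟨fun h u hu => congrArg Subtype.val (h ⟨u, hTM hu⟩ hu),
    fun h u hu => Subtype.ext (h _ hu)⟩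

/-- A `p`-local subgroup in a `p`-constrained overgroup is `p`-constrained. -/
theorem isPConstrained_normalizer_of_le [Finite G] [Fact p.Prime] {M T : Subgroup G}
    (hM : Cfsg.IsPConstrained p ↥M) (hT : IsPGroup p T)
    (hN : Subgroup.normalizer (T : Set G) ≤ M) :
    Cfsg.IsPConstrained p ↥(Subgroup.normalizer (T : Set G)) := by
  have hTM : T ≤ M := Subgroup.le_normalizer.trans hN
  have h := isPConstrained_normalizer hM (hT.comap_of_injective M.subtype M.subtype_injective)
  refine isPConstrained_of_mulEquiv ?_ h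
  refine (MulEquiv.subgroupCongr ?_).trans (Subgroup.subgroupOfEquivOfLe hN)
  ext c
  rw [Subgroup.mem_normalizer_iff, Subgroup.mem_subgroupOf, Subgroup.mem_normalizer_iff]
  refine ⟨fun h u => ⟨fun hu => (h ⟨u, hTM hu⟩).mp hu, fun hu => ?_⟩, fun h u => h u⟩
  have huM : u ∈ M := by
    have := mul_mem (mul_mem (inv_mem c.2) (hTM hu)) c.2
    simpa [mul_assoc] using this
  exact (h ⟨u, huM⟩).mpr hu

/-- If centralizers of elements of order `p` are `p`-constrained, so are all `p`-locals. -/
theorem isPConstrained_normalizer_of_centralizers [Finite G] [Fact p.Prime]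
    (h : ∀ x : G, orderOf x = p → Cfsg.IsPConstrained p ↥(Subgroup.centralizer ({x} : Set G)))
    {T : Subgroup G} (hT : IsPGroup p T) (hT1 : T ≠ ⊥) :
    Cfsg.IsPConstrained p ↥(Subgroup.normalizer (T : Set G)) := by
  haveI : Nontrivial T := (Subgroup.nontrivial_iff_ne_bot T).mpr hT1
  haveI := hT.center_nontrivial
  obtain ⟨z, hz⟩ := exists_prime_orderOf_dvd_card' (G := Subgroup.center T) p (by
    obtain ⟨n, hn⟩ := IsPGroup.iff_card.mp (hT.to_subgroup (Subgroup.center T))
    rw [hn]
    refine dvd_pow_self p fun h0 => ?_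
    rw [h0, pow_zero] at hn
    exact (Finite.one_lt_card (α := Subgroup.center T)).ne' hn)
  have hzo : orderOf ((z : T) : G) = p := by rw [Subgroup.orderOf_coe, Subgroup.orderOf_coe, hz]
  have hC := isPConstrained_centralizer_of_le (h _ hzo) hT
    (fun u hu => Subgroup.mem_centralizer_singleton_iff.mpr
      (congrArg Subtype.val (Subgroup.mem_center_iff.mp z.2 ⟨u, hu⟩)))
    (fun c hc => Subgroup.mem_centralizer_singleton_iff.mpr
      (Subgroup.mem_centralizer_iff.mp hc _ (z : T).2).symm)
  set N := Subgroup.normalizer (T : Set G)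
  have hCN : Subgroup.centralizer (T : Set G) ≤ N := Subgroup.centralizer_le_normalizer _
  haveI : (T.subgroupOf N).Normal :=
    (Subgroup.normal_subgroupOf_iff_le_normalizer Subgroup.le_normalizer).mpr le_rfl
  refine isPConstrained_of_centralizer (T.subgroupOf N)
    (hT.comap_of_injective N.subtype N.subtype_injective) ?_
  refine isPConstrained_of_mulEquiv ?_ hC
  refine (Subgroup.subgroupOfEquivOfLe hCN).symm.trans (MulEquiv.subgroupCongr ?_)
  ext c
  rw [Subgroup.mem_centralizer_iff, Subgroup.mem_subgroupOf, Subgroup.mem_centralizer_iff]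
  exact ⟨fun h u hu => Subtype.ext (h _ hu),
    fun h u hu => congrArg Subtype.val (h ⟨u, Subgroup.le_normalizer hu⟩ hu)⟩

end CfsgLib.PSolvable
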