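import Cfsg.Agent.Lib.Blocks.PrincipalPSolvable
import Cfsg.Agent.Lib.Transfer.TateFrattini
import Cfsg.Agent.Lib.Coprime.Action
import Cfsg.Agent.Lib.Coprime.SchurZassenhaus
import Cfsg.Agent.Lib.PSolvable.Core
import Cfsg.Agent.Lib.Char.Induced
import Cfsg.Agent.Lib.Char.Counting
import Cfsg.Agent.Lib.PSolvable.Omega

/-!
# Groups that are solvable for two primes: Frattini-embedded cores; kernels of `p'`-degree characters
-/

set_option autoImplicit false
set_option linter.unusedSectionVars false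

namespace CfsgLib.TwoPrimes

open Cfsg
open scoped Pointwise ComplexConjugate CfsgLib.Char

variable {p q : ℕ} [hp : Fact p.Prime] [hq : Fact q.Prime] {G : Type*} [Group G] [Finite G]

/-- A nontrivial `p`-solvable group has a nontrivial normal `p`- or `p'`-subgroup. -/
theorem exists_normal_pGroup_or_coprime [Nontrivial G] (h : IsPSolvable p G) :
    ∃ N : Subgroup G, N.Normal ∧ N ≠ ⊥ ∧ (IsPGroup p N ∨ (Nat.card N).Coprime p) := by
  classical
  obtain ⟨n, H, h0, hlast, -, hn, hf⟩ := h
  by_contra hno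
  push_neg at hno
  have hall : ∀ i : Fin (n + 1), H i = ⊥ := by
    intro i
    induction i using Fin.induction with
    | zero => exact h0
    | succ j ih =>
      by_contra hne
      obtain ⟨h1, h2⟩ := hno _ (hn j.succ) hne
      rcases hf j with ⟨m, hm⟩ | hc
      · rw [ih, Subgroup.relIndex_bot_left] at hm
        exact h1 (IsPGroup.of_card hm)
      · rw [ih, Subgroup.relIndex_bot_left] at hc
        exact h2 hc
  have htop : (⊤ : Subgroup G) = ⊥ := hlast.symm.trans (hall _)
  exact (nontrivial_iff.mp (Subgroup.nontrivial_iff.mpr ‹Nontrivial G›)).elim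
    fun x ⟨y, hxy⟩ => hxy (Subsingleton.elim (h := subsingleton_of_bot_eq_top htop.symm) x y)

/-- For two primes a normal `p`-, `q`- or `{p, q}'`-subgroup exists. -/
theorem exists_normal_of_two [Nontrivial G] (hP : IsPSolvable p G) (hQ : IsPSolvable q G) :
    ∃ N : Subgroup G, N.Normal ∧ N ≠ ⊥ ∧
      (IsPGroup p N ∨ IsPGroup q N ∨ ((Nat.card N).Coprime p ∧ (Nat.card N).Coprime q)) := by
  obtain ⟨N, hN, hne, h | h⟩ := exists_normal_pGroup_or_coprime (p := p) hP
  · exact ⟨N, hN, hne, Or.inl h⟩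
  haveI := hN
  haveI : Nontrivial N := (Subgroup.nontrivial_iff_ne_bot N).mpr hne
  obtain ⟨T, hT, hTne, hT'⟩ :=
    exists_normal_pGroup_or_coprime (p := q) (PSolvable.isPSolvable_subgroup N hQ)
  haveI := hT
  by_cases hq' : IsPGroup q T
  · have hc : Cfsg.pCore q ↥N ≠ ⊥ := fun e => hTne (le_bot_iff.mp (e ▸ Fitting.le_pCore hT hq'))
    haveI : (Cfsg.pCore q ↥N).Normal := Fitting.pCore_normal q
    refine ⟨(Cfsg.pCore q ↥N).map N.subtype, ?_, ?_, Or.inr (Or.inl ((Fitting.pCore_isPGroup q).map _))⟩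
    · exact PSolvable.normal_map_of_characteristic N _
    · rwa [Ne, Subgroup.map_eq_bot_iff_of_injective _ N.subtype_injective]
  · have hc : Cfsg.pPrimeCore q ↥N ≠ ⊥ := fun e => hTne (le_bot_iff.mp
      (e ▸ Transfer.le_pPrimeCore hT (hT'.resolve_left hq')))
    haveI : (Cfsg.pPrimeCore q ↥N).Normal := Transfer.pPrimeCore_normal q _
    refine ⟨(Cfsg.pPrimeCore q ↥N).map N.subtype, ?_, ?_, Or.inr (Or.inr ⟨?_, ?_⟩)⟩
    · exact PSolvable.normal_map_of_characteristic N _
    · rwa [Ne, Subgroup.map_eq_bot_iff_of_injective _ N.subtype_injective]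
    · exact h.coprime_dvd_left (Subgroup.card_dvd_of_le (Subgroup.map_subtype_le _))
    · rw [Subgroup.card_map_of_injective N.subtype_injective]
      exact Transfer.pPrimeCore_coprime q

/-- A normal subgroup inside the Frattini subgroup of some subgroup is inessential. -/
theorem eq_top_of_sup {H L U : Subgroup G} [L.Normal] (hL : L ≤ (frattini ↥H).map H.subtype)
    (h : L ⊔ U = ⊤) : U = ⊤ := by
  have h1 : U.subgroupOf H ⊔ frattini ↥H = ⊤ := by
    refine eq_top_iff.mpr fun a _ => ?_
    obtain ⟨l, hl, u, hu, e⟩ := Subgroup.mem_sup_of_normal_left.mp (h.ge (Subgroup.mem_top (a : G)))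
    obtain ⟨y, hy, rfl⟩ := hL hl
    have huH : u ∈ H := by
      have := H.mul_mem (H.inv_mem y.2) a.2
      rwa [← e, show H.subtype y = (y : G) from rfl, inv_mul_cancel_left] at this
    rw [show a = y * ⟨u, huH⟩ from Subtype.ext e.symm, sup_comm]
    exact Subgroup.mul_mem_sup hy hu
  have h2 : H ≤ U := Subgroup.subgroupOf_eq_top.mp (frattini_nongenerating h1)
  rwa [sup_eq_right.mpr ((hL.trans (Subgroup.map_subtype_le _)).trans h2)] at h

/-- A group solvable for `p` and `q` whose maximal normal `p'`-subgroup is a `q`-group, whose maximal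
normal `q'`-subgroup is a `p`-group, both inside Frattini subgroups of subgroups, is trivial. -/
theorem subsingleton_of_cores (hpq : p ≠ q) (hP : IsPSolvable p G) (hQ : IsPSolvable q G)
    (L R : Subgroup G) [L.Normal] [R.Normal] (hL : IsPGroup q L) (hR : IsPGroup p R)
    (hLmax : ∀ N : Subgroup G, N.Normal → (Nat.card N).Coprime p → N ≤ L)
    (hRmax : ∀ N : Subgroup G, N.Normal → (Nat.card N).Coprime q → N ≤ R)
    (HL HR : Subgroup G) (hLf : L ≤ (frattini ↥HL).map HL.subtype)
    (hRf : R ≤ (frattini ↥HR).map HR.subtype) : Subsingleton G := by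
  classical
  have hF : ∀ U : Subgroup G, (L ⊔ R) ⊔ U = ⊤ → U = ⊤ := fun U h =>
    eq_top_of_sup hRf (eq_top_of_sup hLf (by rwa [← sup_assoc]))
  set F := L ⊔ R with hFdef
  haveI hFn : F.Normal := Subgroup.sup_normal L R
  by_contra hs
  rw [not_subsingleton_iff_nontrivial] at hs
  have hFtop : F ≠ ⊤ := fun e => bot_ne_top (hF ⊥ (by rw [e, top_sup_eq]))
  haveI : Nontrivial (G ⧸ F) := QuotientGroup.nontrivial_iff.mpr hFtop
  have hs' := QuotientGroup.mk'_surjective F
  obtain ⟨T, hT, hTne, hT'⟩ := exists_normal_of_two (p := p) (q := q)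
    (PSolvable.isPSolvable_of_surjective _ hs' hP) (PSolvable.isPSolvable_of_surjective _ hs' hQ)
  haveI := hT
  set M := T.comap (QuotientGroup.mk' F) with hM
  haveI hMn : M.Normal := hT.comap _
  have hFM : F ≤ M := (QuotientGroup.ker_mk' F).ge.trans (Subgroup.ker_le_comap _ _)
  have hMF : ¬ M ≤ F := fun h => hTne (by
    rw [← Subgroup.map_comap_eq_self_of_surjective hs' T, ← hM, Subgroup.map_eq_bot_iff,
      QuotientGroup.ker_mk']
    exact h)
  obtain ⟨a, ha⟩ := IsPGroup.iff_card.mp hL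
  obtain ⟨b, hb⟩ := IsPGroup.iff_card.mp hR
  have hLR : Nat.card F * Nat.card ↥(L ⊓ R) = Nat.card L * Nat.card R := by
    have := CfsgLib.Coprime.card_sup_mul_card_inf (K := L) (S := R) Subgroup.le_normalizer_of_normal
    exact this
  have hcFdvd : Nat.card F ∣ q ^ a * p ^ b := ⟨_, by rw [← ha, ← hb]; exact hLR.symm⟩
  have hcM : Nat.card M = Nat.card F * Nat.card T := by
    rw [hM, PSolvable.card_comap_of_surjective hs', QuotientGroup.ker_mk']
  -- a Sylow subgroup of `M` over one prime covers `M` modulo the other core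
  have key : ∀ (r s : ℕ), r.Prime → s.Prime → r ≠ s → ∀ (K K' : Subgroup G), K.Normal →
      (∀ U : Subgroup G, K ⊔ U = ⊤ → U = ⊤) → IsPGroup s K → IsPGroup r T → K' ≤ F →
      (∀ N : Subgroup G, N.Normal → (Nat.card N).Coprime s → N ≤ K') → K ≤ F →
      ∀ c d : ℕ, Nat.card F ∣ s ^ c * r ^ d → Nat.card K = s ^ c → False := by
    intro r s hr hs hrs K K' hKn hKU hKs hTr hK'F hmax hKF c d hcF hKc
    haveI := Fact.mk hr
    haveI := hKn
    obtain ⟨e, he⟩ := IsPGroup.iff_card.mp hTr
    obtain ⟨S⟩ := (inferInstance : Nonempty (Sylow r M))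
    set S' := (S : Subgroup M).map M.subtype with hS'
    have hS'c : Nat.card S' = r ^ (Nat.card M).factorization r := by
      rw [hS', Subgroup.card_map_of_injective M.subtype_injective]
      exact S.card_eq_multiplicity
    have hcop : (Nat.card K).Coprime (Nat.card S') := by
      rw [hS'c, hKc]; exact ((Nat.coprime_primes hs hr).mpr hrs.symm).pow _ _
    have hKS : K ⊔ S' = M := by
      refine Subgroup.eq_of_le_of_card_ge (sup_le (hKF.trans hFM) (Subgroup.map_subtype_le _)) ?_
      rw [CfsgLib.Coprime.card_sup_of_coprime Subgroup.le_normalizer_of_normal hcop, hS'c, hKc]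
      have hdvd : Nat.card M ∣ s ^ c * r ^ (d + e) := by
        rw [hcM, he, pow_add, ← mul_assoc]
        exact mul_dvd_mul_right hcF _
      have h1 : Nat.card M / r ^ (Nat.card M).factorization r ∣ s ^ c := by
        refine Nat.Coprime.dvd_of_dvd_mul_right (n := r ^ (d + e))
          (((Nat.coprime_ordCompl hr Nat.card_pos.ne').symm).pow_right _) ?_
        exact (Nat.ordCompl_dvd _ _).trans hdvd
      calc Nat.card M = r ^ (Nat.card M).factorization r *
            (Nat.card M / r ^ (Nat.card M).factorization r) := (Nat.ordProj_mul_ordCompl_eq_self _ _).symm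
        _ ≤ r ^ (Nat.card M).factorization r * s ^ c :=
            Nat.mul_le_mul_left _ (Nat.le_of_dvd (pow_pos hs.pos _) h1)
        _ = _ := mul_comm _ _
    have hN : Subgroup.normalizer (S' : Set G) ⊔ M = ⊤ := S.normalizer_sup_eq_top
    have hnorm : Subgroup.normalizer (S' : Set G) = ⊤ := hKU _ (eq_top_iff.mpr (hN.ge.trans
      (sup_le le_sup_right (hKS.ge.trans (sup_le le_sup_left
        (Subgroup.le_normalizer.trans le_sup_right))))))
    have hS'n : S'.Normal := Subgroup.normalizer_eq_top_iff.mp hnorm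
    refine hMF (hKS.ge.trans (sup_le hKF ((hmax S' hS'n ?_).trans hK'F)))
    rw [hS'c]
    exact ((Nat.coprime_primes hr hs).mpr hrs).pow_left _
  rcases hT' with hTp | hTq | ⟨hTp, hTq⟩
  · exact key p q hp.out hq.out hpq L R inferInstance (fun U h => eq_top_of_sup hLf h) hL hTp
      le_sup_right hRmax le_sup_left a b hcFdvd ha
  · exact key q p hq.out hp.out hpq.symm R L inferInstance (fun U h => eq_top_of_sup hRf h) hR hTq
      le_sup_left hLmax le_sup_right b a (by rwa [mul_comm]) hb
  · -- a complement of `F` in `M`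
    have hFTc : (Nat.card F).Coprime (Nat.card T) :=
      Nat.Coprime.coprime_dvd_left hcFdvd ((hTq.symm.pow_left a).mul_left (hTp.symm.pow_left b))
    have hrel : F.relIndex M = Nat.card T := by
      have h1 := Subgroup.relIndex_mul_relIndex ⊥ F M bot_le hFM
      rw [Subgroup.relIndex_bot_left, Subgroup.relIndex_bot_left, hcM] at h1
      exact Nat.eq_of_mul_eq_mul_left Nat.card_pos h1
    obtain ⟨C, hCM, hCsup, -, hCc⟩ := CfsgLib.Coprime.exists_complement_of_coprime (N := F) (S := M)
      Subgroup.le_normalizer_of_normal (by rw [inf_eq_left.mpr hFM, hrel]; exact hFTc)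
    rw [inf_eq_left.mpr hFM] at hCsup
    rw [hrel] at hCc
    have hFsol : Group.IsSolvable F := by
      haveI := hL.isNilpotent
      haveI := hR.isNilpotent
      exact CfsgLib.Coprime.isSolvable_sup_of_le_normalizer inferInstance inferInstance
        Subgroup.le_normalizer_of_normal
    have hnorm : Subgroup.normalizer (C : Set G) = ⊤ := by
      refine hF _ (eq_top_iff.mpr fun g _ => ?_)
      have hc2 : Nat.card (MulAut.conj g • C : Subgroup G) = Nat.card C :=
        (Nat.card_congr (Subgroup.equivSMul (MulAut.conj g) C).toEquiv).symm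
      have he : F ⊔ C = F ⊔ MulAut.conj g • C := by
        rw [hCsup]
        conv_lhs => rw [← Subgroup.Normal.conj_smul_eq_self g M, ← hCsup, Subgroup.smul_sup,
          Subgroup.Normal.conj_smul_eq_self g F]
      obtain ⟨x, hx, hxe⟩ := CfsgLib.Coprime.exists_conj_of_coprime (N := F) (H := C)
        (K := MulAut.conj g • C) Subgroup.le_normalizer_of_normal (hCc ▸ hFTc)
        (by rw [hc2, hCc]; exact hFTc) he (Or.inl hFsol)
      have hn : x⁻¹ * g ∈ Subgroup.normalizer (C : Set G) := by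
        rw [Subgroup.mem_normalizer_iff']
        have e2 : MulAut.conj (x⁻¹ * g) • C = C := by
          rw [map_mul, mul_smul, ← hxe, ← mul_smul, ← map_mul, inv_mul_cancel, map_one, one_smul]
        intro y
        conv_rhs => rw [← e2]
        rw [CfsgLib.Coprime.mem_conj_smul_iff]
        constructor <;> intro hy
        · simpa [mul_assoc] using hy
        · simpa [mul_assoc] using hy
      have := Subgroup.mul_mem_sup hx hn
      rwa [mul_inv_cancel_left] at this
    have hCn : C.Normal := Subgroup.normalizer_eq_top_iff.mp hnorm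
    exact hMF (hCsup.ge.trans (sup_le le_rfl ((hLmax C hCn (hCc ▸ hTp)).trans le_sup_left)))

/-- If all `p'`-degree characters that are trivial on the normal `p'`-subgroup `L` are trivial on
`R`, then `R` meets a Sylow `p`-subgroup inside its derived subgroup. -/
theorem inf_sylow_le_commutator (L R : Subgroup G) [L.Normal] (hL : (Nat.card L).Coprime p)
    (h : ∀ η : IrrCharacter (G ⧸ L), ¬ p ∣ charDegree (η : G ⧸ L → ℂ) → ∀ r ∈ R, ∀ g : G ⧸ L,
      (η : G ⧸ L → ℂ) (g * QuotientGroup.mk' L r) = (η : G ⧸ L → ℂ) g)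
    (P : Sylow p G) {x : G} (hxR : x ∈ R) (hxP : x ∈ (P : Subgroup G)) :
    (⟨x, hxP⟩ : (P : Subgroup G)) ∈ commutator ↥(P : Subgroup G) := by
  classical
  by_contra hx
  have hne : (Abelianization.of (⟨x, hxP⟩ : (P : Subgroup G))) ≠ 1 := fun e =>
    hx ((QuotientGroup.eq_one_iff _).mp e)
  obtain ⟨ν, hν⟩ := CommGroup.exists_apply_ne_one_of_hasEnoughRootsOfUnity
    (Abelianization ↥(P : Subgroup G)) ℂ hne
  set f := QuotientGroup.mk' L with hf
  set S := (P : Subgroup G).map f with hS
  have hinj : Function.Injective ((f.comp (P : Subgroup G).subtype).rangeRestrict) := by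
    rw [← MonoidHom.ker_eq_bot_iff, MonoidHom.ker_rangeRestrict, eq_bot_iff]
    intro y hy
    rw [MonoidHom.mem_ker, MonoidHom.comp_apply, hf, QuotientGroup.mk'_apply,
      QuotientGroup.eq_one_iff] at hy
    have := CfsgLib.PSolvable.eq_one_of_mem_of_mem P.2 hL y.2 hy
    exact Subgroup.mem_bot.mpr (Subtype.ext this)
  set H := (f.comp (P : Subgroup G).subtype).range with hH
  let e : ↥(P : Subgroup G) ≃* ↥H :=
    MulEquiv.ofBijective _ ⟨hinj, MonoidHom.rangeRestrict_surjective _⟩
  let lam : ↥H →* ℂˣ := (ν.comp Abelianization.of).comp e.symm.toMonoidHom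
  have hlam := CfsgLib.Char.isCharacter_monoidHom lam
  have hHS : H = S := by rw [hH, hS, MonoidHom.range_comp, Subgroup.range_subtype]
  have hidx : ¬ p ∣ H.index := fun hd => P.not_dvd_index (hd.trans (by
    rw [hHS]; exact (P : Subgroup G).index_map_dvd (QuotientGroup.mk'_surjective L)))
  haveI := Fintype.ofFinite (G ⧸ L)
  haveI := Fintype.ofFinite H
  have hch := CfsgLib.Char.isCharacter_indFun H hlam
  choose m hm using fun η : IrrCharacter (G ⧸ L) =>
    CfsgLib.Char.exists_nat_classInner hch (CfsgLib.Char.isCharacter_of_isIrr η.2)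
  choose d hd hd0 using fun η : IrrCharacter (G ⧸ L) =>
    let ⟨d, h0, h1⟩ := CfsgLib.Char.exists_nat_degree_irr η.2
    (⟨d, h1, h0⟩ : ∃ d : ℕ, (η : G ⧸ L → ℂ) 1 = d ∧ _)
  have hsum : ∑ η : IrrCharacter (G ⧸ L), m η * d η = H.index := by
    have h1 := congrFun (CfsgLib.Char.classFunction_expansion
      (CfsgLib.Char.isClassFunction_indFun H (fun y => (lam y : ℂ)))) 1
    rw [CfsgLib.Char.indFun_one, Finset.sum_apply] at h1
    simp only [Pi.smul_apply, smul_eq_mul, hm, hd, map_one, Units.val_one, mul_one] at h1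
    exact_mod_cast h1.symm
  obtain ⟨η, -, hη⟩ : ∃ η ∈ (Finset.univ : Finset (IrrCharacter (G ⧸ L))), ¬ p ∣ m η * d η := by
    by_contra hall
    push_neg at hall
    exact hidx (hsum ▸ Finset.dvd_sum hall)
  have hdeg : ¬ p ∣ charDegree (η : G ⧸ L → ℂ) := by
    have he : charDegree (η : G ⧸ L → ℂ) = d η := by
      rw [charDegree, hd η, Complex.natCast_re, Nat.floor_natCast]
    rw [he]
    exact fun hd' => hη (hd'.mul_left _)
  have hm0 : (m η : ℂ) ≠ 0 := Nat.cast_ne_zero.mpr fun e => hη (by simp [e])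
  set xe : H := e ⟨x, hxP⟩ with hxe
  have hlx : (lam xe : ℂ) ≠ 1 := by
    simpa [lam, hxe, Units.val_eq_one] using hν
  rw [← hm η, CfsgLib.Char.frobenius_reciprocity H _
    (CfsgLib.Char.isClassFunction_irr η), classInner] at hm0
  have hS2 : ∑ y : H, (lam y : ℂ) * conj ((η : G ⧸ L → ℂ) y) =
      (lam xe : ℂ) * ∑ y : H, (lam y : ℂ) * conj ((η : G ⧸ L → ℂ) y) := by
    rw [Finset.mul_sum]
    refine (Fintype.sum_equiv (Equiv.mulRight xe) _ _ fun y => ?_).symm
    have : (η : G ⧸ L → ℂ) ((y * xe : H) : G ⧸ L) = (η : G ⧸ L → ℂ) y := by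
      rw [Subgroup.coe_mul, show (xe : G ⧸ L) = f x from rfl]
      exact h η hdeg x hxR _
    rw [Equiv.coe_mulRight, this, map_mul, Units.val_mul]
    ring
  refine hm0 (mul_eq_zero.mpr (Or.inr ?_))
  exact (mul_eq_zero.mp (show (1 - (lam xe : ℂ)) * _ = 0 by linear_combination hS2)).resolve_left
    (sub_ne_zero.mpr hlx.symm)

/-- Such a normal subgroup has a normal `p`-complement. -/
theorem exists_normal_complement (R : Subgroup G) [R.Normal] (P : Sylow p G)
    (h : ∀ x ∈ R, ∀ hx : x ∈ (P : Subgroup G), (⟨x, hx⟩ : (P : Subgroup G)) ∈ commutator ↥(P : Subgroup G)) :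
    ∃ K : Subgroup G, K.Normal ∧ K ≤ R ∧ (Nat.card K).Coprime p ∧ ∃ a : ℕ, K.relIndex R = p ^ a := by
  classical
  set Y := (P : Subgroup G) ⊔ R with hY
  have hRY : R ≤ Y := le_sup_right
  have hPY : (P : Subgroup G) ≤ Y := le_sup_left
  haveI hRn : (R.subgroupOf Y).Normal := inferInstance
  set S := P.subtype hPY with hSdef
  have hQ : IsPGroup p (↥Y ⧸ R.subgroupOf Y) := by
    refine (P.2.of_surjective ((QuotientGroup.mk' (R.subgroupOf Y)).comp (Subgroup.inclusion hPY)) ?_)
    intro z
    obtain ⟨⟨y, hy⟩, rfl⟩ := QuotientGroup.mk'_surjective _ z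
    obtain ⟨a, ha, r, hr, rfl⟩ := Subgroup.mem_sup_of_normal_right.mp hy
    refine ⟨⟨a, ha⟩, QuotientGroup.eq.mpr ?_⟩
    rw [Subgroup.mem_subgroupOf]
    simpa [mul_assoc] using hr
  have hle := Transfer.pResidual_le_of_isPGroup_quotient (R.subgroupOf Y) hQ
  have hmain : Cfsg.HasNormalPComplement p ↥Y := by
    refine Transfer.hasNormalPComplement_of_le_frattini S ?_
    rintro ⟨x, hxY⟩ ⟨hxS, hxr⟩
    have hxP : x ∈ (P : Subgroup G) := hxS
    have hxR : x ∈ R := hle hxr
    refine ⟨⟨⟨x, hxY⟩, hxS⟩, ?_, rfl⟩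
    let φ : ↥(P : Subgroup G) →* ↥(S : Subgroup ↥Y) :=
      { toFun := fun a => ⟨⟨a, hPY a.2⟩, a.2⟩
        map_one' := rfl
        map_mul' := fun _ _ => rfl }
    have h1 : φ ⟨x, hxP⟩ ∈ commutator ↥(S : Subgroup ↥Y) := by
      have h2 : (commutator ↥(P : Subgroup G)).map φ ≤ commutator ↥(S : Subgroup ↥Y) := by
        rw [commutator_def, commutator_def, Subgroup.map_commutator]
        exact Subgroup.commutator_mono le_top le_top
      exact h2 (Subgroup.mem_map_of_mem _ (h x hxR hxP))
    exact (CfsgLib.PSolvable.commutator_le_frattini S.2).1 h1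
  haveI := Transfer.pResidual_normal p ↥Y
  set K := Cfsg.pResidual p ↥Y
  have hKc : (Nat.card K).Coprime p :=
    ((hp.out.coprime_iff_not_dvd).mpr (Transfer.hasNormalPComplement_iff_pResidual.mp hmain)).symm
  have hKR : K.map Y.subtype ≤ R := by
    rintro _ ⟨y, hy, rfl⟩
    exact hle hy
  refine ⟨K.map Y.subtype, ⟨fun n hn g => ?_⟩, hKR, ?_, ?_⟩
  · have hgR : g * n * g⁻¹ ∈ R := Subgroup.Normal.conj_mem inferInstance n (hKR hn) g
    refine ⟨⟨g * n * g⁻¹, hRY hgR⟩, Transfer.mem_pResidual_of_coprime ?_, rfl⟩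
    rw [Subgroup.orderOf_mk, Transfer.orderOf_conj]
    obtain ⟨y, hy, rfl⟩ := hn
    exact (Subgroup.orderOf_coe y).symm ▸ Transfer.coprime_orderOf_of_mem hKc hy
  · rwa [Subgroup.card_map_of_injective Y.subtype_injective]
  · obtain ⟨a, ha⟩ := (IsPGroup.iff_card.mp (Transfer.isPGroup_quotient_pResidual (p := p) (G := ↥Y)))
    rw [← Subgroup.index_eq_card] at ha
    have h1 : (K.map Y.subtype).relIndex R ∣ p ^ a := by
      rw [← ha]
      refine ⟨R.relIndex Y, ?_⟩
      rw [Subgroup.relIndex_mul_relIndex _ _ _ hKR hRY, Subgroup.relIndex, ← Subgroup.comap_subtype,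
        Subgroup.comap_map_eq_self_of_injective Y.subtype_injective]
    obtain ⟨k, -, hk⟩ := (Nat.dvd_prime_pow hp.out).mp h1
    exact ⟨k, hk⟩

end CfsgLib.TwoPrimes
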