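import Mathlib
import Cfsg.Prelude.Def_OddOrderLocal
import Cfsg.Agent.Lib.PSolvable.Constrained
import Cfsg.Agent.Lib.PSolvable.Omega
import Cfsg.Agent.Lib.Coprime.Generation

/-!
Thompson's transitivity theorem for groups with `p`-constrained locals: the maximal `E`-invariant
`q`-subgroups are permuted transitively by `C(E)` when `E` has rank at least three.
-/

set_option autoImplicit false
set_option linter.style.haveILetI false

open Pointwise
open CfsgLib.Coprime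

namespace CfsgLib.PSolvable

variable {G : Type*} [Group G]

theorem centralizer_singleton_eq_zpowers (x : G) :
    Subgroup.centralizer ({x} : Set G) = Subgroup.centralizer ((Subgroup.zpowers x : Subgroup G) : Set G) :=
  le_antisymm (fun _ h => mem_centralizer_singleton_zpowers h)
    (Subgroup.centralizer_le (by simp))

theorem mem_maxInvSubgroups_conj {H A : Subgroup G} {π : Set ℕ} {Q : Subgroup G} {c : G}
    (hcH : c ∈ H) (hc : c ∈ Subgroup.centralizer (A : Set G))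
    (hQ : Q ∈ Cfsg.maxInvSubgroups H A π) : MulAut.conj c • Q ∈ Cfsg.maxInvSubgroups H A π := by
  have key : ∀ {c : G}, c ∈ H → c ∈ Subgroup.centralizer (A : Set G) → ∀ {R : Subgroup G},
      R ∈ Cfsg.invSubgroups H A π → MulAut.conj c • R ∈ Cfsg.invSubgroups H A π := by
    intro c hcH hc R ⟨hRH, hRπ, hRA⟩
    refine ⟨fun x hx => ?_, fun r hr hd => hRπ r hr (card_conj_smul c R ▸ hd), fun a ha => ?_⟩
    · have h1 := hRH (mem_conj_smul_iff.mp hx)
      simpa [mul_assoc] using mul_mem (mul_mem hcH h1) (inv_mem hcH)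
    · have hac : a * c = c * a := hc a ha
      rw [mem_normalizer_iff_conj_smul, ← mul_smul, ← map_mul, hac, map_mul, mul_smul,
        conj_smul_eq_self_of_mem_normalizer (hRA ha)]
  refine ⟨key hcH hc hQ.1, fun R hR hle => ?_⟩
  have h1 : MulAut.conj c⁻¹ • R = Q := by
    refine hQ.2 _ (key (inv_mem hcH) (inv_mem hc) hR) ?_
    intro x hx
    rw [mem_conj_smul_iff, inv_inv]
    exact hle (conj_mem_conj_smul hx)
  rw [← h1, ← mul_smul, ← map_mul, mul_inv_cancel, map_one, one_smul]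

theorem transitivity [Finite G] {p q : ℕ} [hp : Fact p.Prime] [hq : Fact q.Prime] (hqp : q ≠ p)
    {E E₁ : Subgroup G} (hEc : IsMulCommutative E) (hE₁ : E₁ ≤ E) (hexp : ∀ a ∈ E₁, a ^ p = 1)
    (hcard : p ^ 3 ≤ Nat.card E₁)
    (hctrl : ∀ x ∈ E, x ≠ 1 → ∀ U : Subgroup G, U ≤ Subgroup.centralizer ({x} : Set G) →
      (Nat.card U).Coprime p → E ≤ Subgroup.normalizer (U : Set G) →
      U ≤ (Cfsg.pPrimeCore p ↥(Subgroup.centralizer ({x} : Set G))).map
        (Subgroup.centralizer ({x} : Set G)).subtype)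
    (hEp : IsPGroup p E) :
    ∀ Q₁ ∈ Cfsg.maxInvSubgroups ⊤ E {q}, ∀ Q₂ ∈ Cfsg.maxInvSubgroups ⊤ E {q},
      ∃ c ∈ Subgroup.centralizer (E : Set G), Q₂ = MulAut.conj c • Q₁ := by
  classical
  haveI := hEc
  suffices ∀ n, ∀ Q₁ ∈ Cfsg.maxInvSubgroups ⊤ E {q}, ∀ Q₂ ∈ Cfsg.maxInvSubgroups ⊤ E {q},
      Nat.card G - Nat.card ↥(Q₁ ⊓ Q₂) = n →
      ∃ c ∈ Subgroup.centralizer (E : Set G), Q₂ = MulAut.conj c • Q₁ from
    fun Q₁ h1 Q₂ h2 => this _ Q₁ h1 Q₂ h2 rfl
  intro n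
  induction n using Nat.strong_induction_on with
  | _ n IH =>
  intro Q₁ h1 Q₂ h2 hn
  set D := Q₁ ⊓ Q₂ with hD
  have hqgrp : ∀ {R : Subgroup G}, (∀ r : ℕ, r.Prime → r ∣ Nat.card R → r ∈ ({q} : Set ℕ)) →
      IsPGroup q R := by
    intro R hR
    exact IsPGroup.of_card (n := (Nat.card R).primeFactorsList.length)
      (Nat.eq_prime_pow_of_unique_prime_dvd Nat.card_pos.ne' fun {d} hd hdvd => hR d hd hdvd)
  have hQ1 : IsPGroup q Q₁ := hqgrp h1.1.2.1
  have hQ2 : IsPGroup q Q₂ := hqgrp h2.1.2.1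
  have hDA : E ≤ Subgroup.normalizer (D : Set G) := le_normalizer_inf_of_le h1.1.2.2 h2.1.2.2
  have hqp' : ∀ {R : Subgroup G}, IsPGroup q R → (Nat.card R).Coprime p := by
    intro R hR
    obtain ⟨m, hm⟩ := IsPGroup.iff_card.mp hR
    rw [hm]
    exact ((Nat.coprime_primes hq.out hp.out).mpr hqp).pow_left m
  by_cases hD1 : Q₁ ≤ Q₂
  · exact ⟨1, one_mem _, by rw [map_one, one_smul]; exact h1.2 Q₂ h2.1 hD1⟩
  by_cases hD2 : Q₂ ≤ Q₁
  · exact ⟨1, one_mem _, by rw [map_one, one_smul]; exact (h2.2 Q₁ h1.1 hD2).symm⟩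
  -- normalizers of `D` grow inside both
  have grow : ∀ {Q : Subgroup G}, IsPGroup q Q → D ≤ Q → ¬ Q ≤ D →
      ¬ Q ⊓ Subgroup.normalizer (D : Set G) ≤ D := by
    intro Q hQ hDQ hne hle
    haveI := hQ.isNilpotent
    have hlt : D.subgroupOf Q < ⊤ := lt_top_iff_ne_top.mpr fun he =>
      hne (Subgroup.subgroupOf_eq_top.mp he)
    obtain ⟨x, hx, hxD⟩ := SetLike.exists_of_lt (Group.normalizerCondition_of_isNilpotent _ hlt)
    refine hxD (hle (Subgroup.mem_inf.mpr ⟨x.2, ?_⟩))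
    rw [mem_normalizer_iff_conj_smul]
    have h3 := congrArg (Subgroup.map Q.subtype) (mem_normalizer_iff_conj_smul.mp hx)
    rwa [map_conj_smul, Subgroup.map_subgroupOf_eq_of_le hDQ] at h3
  set S₁ := Q₁ ⊓ Subgroup.normalizer (D : Set G) with hS₁
  set S₂ := Q₂ ⊓ Subgroup.normalizer (D : Set G) with hS₂
  have hS₁D : ¬ S₁ ≤ D := grow hQ1 inf_le_left fun h => hD1 (h.trans inf_le_right)
  have hS₂D : ¬ S₂ ≤ D := grow hQ2 inf_le_right fun h => hD2 (h.trans inf_le_left)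
  have hND : E ≤ Subgroup.normalizer ((Subgroup.normalizer (D : Set G) : Subgroup G) : Set G) :=
    hDA.trans Subgroup.le_normalizer
  have hE₁c : IsMulCommutative E₁ :=
    ⟨⟨fun u v => Subtype.ext (congrArg Subtype.val
      (mul_comm' (⟨u, hE₁ u.2⟩ : E) ⟨v, hE₁ v.2⟩) :)⟩⟩
  have hcop : ∀ {A R : Subgroup G}, A ≤ E → IsPGroup q R → (Nat.card A).Coprime (Nat.card R) :=
    fun hA hR => coprime_card_of_isPGroup (hEp.to_le hA) (hqp' hR)
  -- some `x` has fixed points outside `D` in both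
  have hS₁q : IsPGroup q S₁ := hQ1.to_le inf_le_left
  have hS₂q : IsPGroup q S₂ := hQ2.to_le inf_le_left
  obtain ⟨B, hBE, hBidx, hB⟩ : ∃ B ≤ E₁, B.relIndex E₁ ≤ p ∧
      ¬ S₁ ⊓ Subgroup.centralizer (B : Set G) ≤ D := by
    by_contra hne
    push Not at hne
    exact hS₁D (le_of_hyperplane_centralizer_le hE₁c hexp
      (le_trans (Nat.pow_le_pow_right hp.out.pos (by norm_num)) hcard)
      (hE₁.trans (le_normalizer_inf_of_le h1.1.2.2 hND)) (hcop hE₁ hS₁q) hne)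
  have hBcard : p < Nat.card B := by
    have h3 := relIndex_mul_card_inf B E₁
    rw [inf_eq_left.mpr hBE] at h3
    have h4 : p ^ 3 ≤ p * Nat.card B :=
      hcard.trans (h3 ▸ Nat.mul_le_mul_right _ hBidx)
    rw [pow_succ'] at h4
    have h5 := Nat.le_of_mul_le_mul_left h4 hp.out.pos
    nlinarith [hp.out.two_le]
  haveI : IsMulCommutative B :=
    ⟨⟨fun u v => Subtype.ext (congrArg Subtype.val
      (mul_comm' (⟨u, hE₁ (hBE u.2)⟩ : E) ⟨v, hE₁ (hBE v.2)⟩) :)⟩⟩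
  obtain ⟨x, hxB, hx1, hx2⟩ : ∃ x ∈ B, x ≠ 1 ∧
      ¬ S₂ ⊓ Subgroup.centralizer ({x} : Set G) ≤ D := by
    by_contra hne
    push Not at hne
    exact hS₂D (le_of_centralizer_le
      (not_isCyclic_of_exponent (fun a ha => hexp a (hBE ha)) hp.out.pos hBcard)
      ((hBE.trans hE₁).trans (le_normalizer_inf_of_le h2.1.2.2 hND))
      (hcop (hBE.trans hE₁) hS₂q) hne)
  have hxE : x ∈ E := hE₁ (hBE hxB)
  set X := Subgroup.centralizer ({x} : Set G) with hX
  have hx1' : ¬ S₁ ⊓ X ≤ D := fun h => hB ((inf_le_inf_left _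
    (Subgroup.centralizer_le (by simpa using hxB))).trans h)
  have hEX : E ≤ X := fun e he z hz => by
    rw [Set.mem_singleton_iff] at hz; subst hz
    exact congrArg Subtype.val (mul_comm' (⟨z, hxE⟩ : E) ⟨e, he⟩)
  have hEXn : E ≤ Subgroup.normalizer (X : Set G) := hEX.trans Subgroup.le_normalizer
  set K := (Cfsg.pPrimeCore p ↥X).map X.subtype
  set L := K ⊓ Subgroup.normalizer (D : Set G) with hL
  have hKE : E ≤ Subgroup.normalizer (K : Set G) := by
    exact le_normalizer_map_of_characteristic hEXn _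
  have hLE : E ≤ Subgroup.normalizer (L : Set G) := le_normalizer_inf_of_le hKE hND
  have hLp : (Nat.card L).Coprime p := by
    refine (Transfer.pPrimeCore_coprime (G := X) p).coprime_dvd_left ?_
    rw [← Subgroup.card_map_of_injective X.subtype_injective]
    exact Subgroup.card_dvd_of_le inf_le_left
  have hcopL : (Nat.card E).Coprime (Nat.card L) := coprime_card_of_isPGroup hEp hLp
  have hsE : Group.IsSolvable E ∨ Group.IsSolvable L := Or.inl (isSolvable_of_isMulCommutative E)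
  have hU : ∀ {Q : Subgroup G}, IsPGroup q Q → E ≤ Subgroup.normalizer (Q : Set G) →
      Q ⊓ Subgroup.normalizer (D : Set G) ⊓ X ≤ L ∧
      E ≤ Subgroup.normalizer ((Q ⊓ Subgroup.normalizer (D : Set G) ⊓ X : Subgroup G) : Set G) := by
    intro Q hQ hQE
    have hn := le_normalizer_inf_of_le (le_normalizer_inf_of_le hQE hND) hEXn
    exact ⟨le_inf (hctrl x hxE hx1 _ inf_le_right
      (hqp' (hQ.to_le (inf_le_left.trans inf_le_left))) hn) (inf_le_left.trans inf_le_right), hn⟩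
  obtain ⟨hU1, hU1E⟩ := hU hQ1 h1.1.2.2
  obtain ⟨hU2, hU2E⟩ := hU hQ2 h2.1.2.2
  obtain ⟨T₁, hT₁, hT₁E⟩ := exists_invariant_sylow_ge hLE hcopL hsE hU1
    (hS₁q.to_le inf_le_left) hU1E
  obtain ⟨T₂, hT₂, hT₂E⟩ := exists_invariant_sylow_ge hLE hcopL hsE hU2
    (hS₂q.to_le inf_le_left) hU2E
  obtain ⟨c, hc, hce⟩ := invariant_sylow_conj hLE hcopL hsE T₁ T₂ hT₁E hT₂E
  have hcD : MulAut.conj (c : G) • D = D :=
    conj_smul_eq_self_of_mem_normalizer (Subgroup.mem_inf.mp c.2).2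
  set T := (T₂ : Subgroup L).map L.subtype with hT
  have hTc : MulAut.conj (c : G) • (T₁ : Subgroup L).map L.subtype = T := by
    rw [hT, ← hce, map_subtype_conj_smul_sylow]
  have hU1c : MulAut.conj (c : G) • (S₁ ⊓ X) ≤ T :=
    hTc ▸ Subgroup.map_mono hT₁
  have hDq : IsPGroup q D := hQ1.to_le inf_le_left
  have hDT : IsPGroup q ↥(D ⊔ T) := by
    rw [sup_comm]
    exact IsPGroup.to_sup_of_normal_right' (T₂.2.map _) hDq
      ((Subgroup.map_subtype_le _).trans inf_le_right)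
  have hDTA : E ≤ Subgroup.normalizer ((D ⊔ T : Subgroup G) : Set G) :=
    le_normalizer_sup_of_le hDA hT₂E
  have hDTinv : D ⊔ T ∈ Cfsg.invSubgroups ⊤ E {q} := by
    refine ⟨le_top, fun r hr hd => ?_, hDTA⟩
    obtain ⟨m, hm⟩ := IsPGroup.iff_card.mp hDT
    exact (Nat.prime_dvd_prime_iff_eq hr hq.out).mp (hr.dvd_of_dvd_pow (hm ▸ hd))
  obtain ⟨R, hR, hRmax⟩ := Finite.exists_le_maximal
    (p := fun R : Subgroup G => R ∈ Cfsg.invSubgroups ⊤ E {q}) (a := D ⊔ T) hDTinv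
  have hRm : R ∈ Cfsg.maxInvSubgroups ⊤ E {q} :=
    ⟨hRmax.prop, fun R' hR' hle => le_antisymm (hRmax.2 hR' hle) hle⟩
  set Q₁c := MulAut.conj (c : G) • Q₁
  have hQ1c : Q₁c ∈ Cfsg.maxInvSubgroups ⊤ E {q} := mem_maxInvSubgroups_conj trivial hc h1
  have big : ∀ {Q U : Subgroup G}, D ≤ Q → U ≤ Q → U ≤ D ⊔ T → ¬ U ≤ D →
      Nat.card G - Nat.card ↥(Q ⊓ R) < n := by
    intro Q U hDQ hUQ hUT hUD
    have hlt : Nat.card D < Nat.card ↥(Q ⊓ R) := by
      refine lt_of_le_of_ne (Subgroup.card_le_of_le (le_inf hDQ (le_sup_left.trans hR))) fun he => ?_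
      have h3 := Subgroup.eq_of_le_of_card_ge (le_inf hDQ (le_sup_left.trans hR)) he.ge
      exact hUD (h3 ▸ le_inf hUQ (hUT.trans hR))
    have := Subgroup.card_le_card_group (Q ⊓ R)
    omega
  have hb1 : Nat.card G - Nat.card ↥(Q₁c ⊓ R) < n := by
    refine big (U := MulAut.conj (c : G) • (S₁ ⊓ X))
      (hcD ▸ Subgroup.map_mono inf_le_left) (Subgroup.map_mono (inf_le_left.trans inf_le_left))
      (hU1c.trans le_sup_right) fun h => hx1' fun u hu => ?_
    have h3 := h (conj_mem_conj_smul (g := (c : G)) hu)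
    rw [← hcD, mem_conj_smul_iff] at h3
    simpa [mul_assoc] using h3
  have hb2 : Nat.card G - Nat.card ↥(Q₂ ⊓ R) < n :=
    big (U := S₂ ⊓ X) inf_le_right (inf_le_left.trans inf_le_left) (hT₂.trans le_sup_right) hx2
  obtain ⟨d, hd, hde⟩ := IH _ hb1 Q₁c hQ1c R hRm rfl
  obtain ⟨e, he, hee⟩ := IH _ hb2 Q₂ h2 R hRm rfl
  refine ⟨e⁻¹ * d * c, mul_mem (mul_mem (inv_mem he) hd) hc, ?_⟩
  rw [map_mul, map_mul, mul_smul, mul_smul, ← hde, hee, ← mul_smul, ← map_mul, inv_mul_cancel,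
    map_one, one_smul]

end CfsgLib.PSolvable
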