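import Mathlib
import Cfsg.Agent.Lib.PSolvable.Core
import Cfsg.Agent.Lib.Coprime.SchurZassenhaus

/-!
`p`-solvable groups whose maximal subgroups are `p`-nilpotent or of prime index.
-/

set_option autoImplicit false
set_option linter.style.haveILetI false
set_option linter.unusedSectionVars false

open Pointwise

namespace CfsgLib.PSolvable.LengthTwo

variable {G : Type*} [Group G] [Finite G] {p : ℕ}

/-- `M` has a normal `p'`-subgroup of `p`-power index. -/
def PNil (p : ℕ) (M : Type*) [Group M] : Prop :=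
  ∃ K : Subgroup M, K.Normal ∧ ¬ p ∣ Nat.card K ∧ ∃ k : ℕ, K.index = p ^ k

theorem PNil.of_surjective [hp : Fact p.Prime] {M N : Type*} [Group M] [Finite M] [Group N] {f : M →* N}
    (hf : Function.Surjective f) (h : PNil p M) : PNil p N := by
  obtain ⟨K, hK, hKp, k, hk⟩ := h
  refine ⟨K.map f, hK.map f hf, fun hd => hKp (hd.trans (Subgroup.card_map_dvd _ _)), ?_⟩
  have hd : (K.map f).index ∣ p ^ k := hk ▸ Subgroup.index_map_dvd K hf
  obtain ⟨j, -, hj⟩ := (Nat.dvd_prime_pow hp.out).mp hd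
  exact ⟨j, hj⟩

/-- With trivial `p'`-core, the elements centralising `O_p(G)` modulo the Frattini subgroup lie
in `O_p(G)`. -/
theorem centralizer_mod_frattini_le [hp : Fact p.Prime] (hG : Cfsg.IsPSolvable p G)
    (hO : Cfsg.pPrimeCore p G = ⊥) :
    (Subgroup.centralizer (((Cfsg.pCore p G).map (QuotientGroup.mk' (frattini G)) :
      Subgroup (G ⧸ frattini G)) : Set (G ⧸ frattini G))).comap (QuotientGroup.mk' (frattini G)) ≤
      Cfsg.pCore p G := by
  classical
  set F := Cfsg.pCore p G with hFdef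
  haveI hFn : F.Normal := Fitting.pCore_normal p
  have hFp : IsPGroup p ↥F := Fitting.pCore_isPGroup p
  set π := QuotientGroup.mk' (frattini G) with hπ
  haveI : (F.map π).Normal := hFn.map π (QuotientGroup.mk'_surjective _)
  set C := (Subgroup.centralizer ((F.map π : Subgroup (G ⧸ frattini G)) :
    Set (G ⧸ frattini G))).comap π with hC
  haveI hCn : C.Normal := by rw [hC]; infer_instance
  by_contra hCF
  obtain ⟨n, H, h0, hlast, hmono, hHn, hstep⟩ := hG
  -- the first term of the series meeting `C` outside `F`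
  have hex : ∃ i : ℕ, ∃ hi : i < n + 1, ¬ C ⊓ H ⟨i, hi⟩ ≤ F :=
    ⟨n, Nat.lt_succ_self n, by
      rw [show (⟨n, Nat.lt_succ_self n⟩ : Fin (n + 1)) = Fin.last n from rfl, hlast, inf_top_eq]
      exact hCF⟩
  obtain ⟨hi, hbad⟩ := Nat.find_spec hex
  obtain ⟨j, hj⟩ : ∃ j, Nat.find hex = j + 1 := by
    refine ⟨Nat.find hex - 1, (Nat.succ_pred_eq_of_pos (Nat.pos_of_ne_zero fun e => hbad ?_)).symm⟩
    have e' : (⟨Nat.find hex, hi⟩ : Fin (n + 1)) = 0 := Fin.ext e
    rw [e', h0, inf_bot_eq]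
    exact bot_le
  have hjn : j < n := by omega
  have hgood : C ⊓ H (Fin.castSucc ⟨j, hjn⟩) ≤ F := by
    by_contra hc
    exact Nat.find_min hex (m := j) (by omega) ⟨by omega, hc⟩
  have hbad' : ¬ C ⊓ H (Fin.succ ⟨j, hjn⟩) ≤ F := by
    rw [show Fin.succ (⟨j, hjn⟩ : Fin n) = ⟨Nat.find hex, hi⟩ from Fin.ext hj.symm]
    exact hbad
  set K0 := C ⊓ H (Fin.succ ⟨j, hjn⟩) with hK0
  haveI hK0n : K0.Normal := by haveI := hHn (Fin.succ ⟨j, hjn⟩); rw [hK0]; infer_instance
  have hdvd : F.relIndex K0 ∣ (H (Fin.castSucc ⟨j, hjn⟩)).relIndex (H (Fin.succ ⟨j, hjn⟩)) := by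
    haveI := hHn (Fin.castSucc (⟨j, hjn⟩ : Fin n))
    refine dvd_trans ?_ (Dvd.intro _ (Subgroup.relIndex_mul_relIndex
      (H (Fin.castSucc ⟨j, hjn⟩)) (K0 ⊔ H (Fin.castSucc ⟨j, hjn⟩)) (H (Fin.succ ⟨j, hjn⟩))
      le_sup_right (sup_le inf_le_right (hmono (Fin.castSucc_le_succ _)))))
    rw [Subgroup.relIndex_sup_right]
    have e : (H (Fin.castSucc ⟨j, hjn⟩)).relIndex K0 =
        (H (Fin.castSucc ⟨j, hjn⟩) ⊓ K0).relIndex K0 := (Subgroup.inf_relIndex_right _ _).symm
    rw [e]
    refine Subgroup.relIndex_dvd_of_le_left K0 ?_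
    exact (le_inf (inf_le_right.trans inf_le_left) inf_le_left).trans hgood
  have hcop : (F.relIndex K0).Coprime p := by
    rcases hstep ⟨j, hjn⟩ with ⟨m, hm⟩ | hc
    · exfalso
      obtain ⟨m', -, hm'⟩ := (Nat.dvd_prime_pow hp.out).mp (hm ▸ hdvd)
      apply hbad'
      refine Fitting.le_pCore hK0n ?_
      have hinf : IsPGroup p ↥(F ⊓ K0) := hFp.to_le inf_le_left
      obtain ⟨a, ha⟩ := IsPGroup.iff_card.mp hinf
      refine IsPGroup.of_card (n := m' + a) ?_
      rw [← Coprime.relIndex_mul_card_inf F K0, hm', ha, pow_add]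
    · exact hc.coprime_dvd_left hdvd
  have hinfp : IsPGroup p ↥(F ⊓ K0) := hFp.to_le inf_le_left
  obtain ⟨a, ha⟩ := IsPGroup.iff_card.mp hinfp
  have hnK0 : K0 ≤ Subgroup.normalizer (F : Set G) := by
    rw [Subgroup.normalizer_eq_top_iff.mpr hFn]; exact le_top
  obtain ⟨B, hBK, hBsup, hBinf, hBc⟩ := Coprime.exists_complement_of_coprime hnK0
    (by rw [ha]; exact (hcop.symm.pow_left a))
  have hB1 : B ≠ ⊥ := fun e => hbad' (by
    rw [← hBsup, e, sup_bot_eq]; exact inf_le_left)
  have hBp : (Nat.card B).Coprime p := hBc ▸ hcop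
  -- the subgroup `P₀ B` is normal
  set P0 := frattini G ⊓ F with hP0
  haveI : P0.Normal := by rw [hP0]; infer_instance
  have hP0p : IsPGroup p ↥P0 := hFp.to_le inf_le_right
  have hnB : ∀ g : G, B ≤ Subgroup.normalizer (P0 : Set G) ∧
      (MulAut.conj g • B) ≤ P0 ⊔ B := by
    intro g
    refine ⟨by rw [Subgroup.normalizer_eq_top_iff.mpr inferInstance]; exact le_top, fun y hy => ?_⟩
    have hcard : Nat.card ↥(MulAut.conj g • B) = Nat.card B := Coprime.card_conj_smul g B
    have hy0 : y ∈ K0 := by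
      obtain ⟨b, hb, rfl⟩ := hy
      exact hK0n.conj_mem b (hBK hb) g
    have hord : (orderOf y).Coprime p := hBp.coprime_dvd_left
      (hcard ▸ Subgroup.orderOf_dvd_natCard _ hy)
    have hy1 : y ∈ (F ⊓ K0) ⊔ B := hBsup.symm ▸ hy0
    haveI : (F ⊓ K0).Normal := inferInstance
    obtain ⟨f, hf, b, hb, rfl⟩ := Subgroup.mem_sup_of_normal_left.mp hy1
    refine mul_mem (Subgroup.mem_sup_left ⟨?_, hf.1⟩) (Subgroup.mem_sup_right hb)
    -- `f` is trivial modulo the Frattini subgroup
    have hcm : Commute (π f) (π b) :=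
      Subgroup.mem_centralizer_iff.mp (hBK hb).1 _ ⟨f, hf.1, rfl⟩
    show f ∈ frattini G
    rw [← QuotientGroup.eq_one_iff]
    show π f = 1
    have e1 : (π f) ^ orderOf (f * b) * (π b) ^ orderOf (f * b) = 1 := by
      rw [← hcm.mul_pow, ← map_mul, ← map_pow, pow_orderOf_eq_one, map_one]
    have hfo : ∃ i, orderOf f ∣ p ^ i := by
      obtain ⟨i, hi⟩ := hFp ⟨f, hf.1⟩
      exact ⟨i, orderOf_dvd_of_pow_eq_one (congrArg Subtype.val hi)⟩
    obtain ⟨i, hi⟩ := hfo
    have hfi : π f ^ p ^ i = 1 := by rw [← map_pow, orderOf_dvd_iff_pow_eq_one.mp hi, map_one]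
    have hbc : π b ^ Nat.card B = 1 := by
      rw [← map_pow]
      have : b ^ Nat.card B = 1 := orderOf_dvd_iff_pow_eq_one.mp (Subgroup.orderOf_dvd_natCard B hb)
      rw [this, map_one]
    have e2 : π f ^ (orderOf (f * b) * Nat.card B) = 1 := by
      rw [pow_mul, eq_inv_of_mul_eq_one_left e1, inv_pow, ← pow_mul, mul_comm, pow_mul, hbc, one_pow,
        inv_one]
    rw [← orderOf_eq_one_iff]
    exact Nat.eq_one_of_dvd_coprimes ((hord.mul_left hBp).symm.pow_left i)
      (orderOf_dvd_of_pow_eq_one hfi) (orderOf_dvd_of_pow_eq_one e2)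
  -- the Frattini argument
  have hgen : Subgroup.normalizer (B : Set G) ⊔ frattini G = ⊤ := by
    refine top_le_iff.mp fun g _ => ?_
    have hc0 : (Nat.card P0).Coprime (Nat.card B) := by
      obtain ⟨m, hm⟩ := IsPGroup.iff_card.mp hP0p
      rw [hm]
      exact (hBp.symm.pow_left m)
    have hcard : Nat.card ↥(MulAut.conj g • B) = Nat.card B := Coprime.card_conj_smul g B
    have hsup : P0 ⊔ MulAut.conj g • B = P0 ⊔ B := by
      refine Subgroup.eq_of_le_of_card_ge (sup_le le_sup_left (hnB g).2) ?_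
      have hn' : ∀ X : Subgroup G, X ≤ Subgroup.normalizer (P0 : Set G) := fun X => by
        rw [Subgroup.normalizer_eq_top_iff.mpr inferInstance]; exact le_top
      rw [Coprime.card_sup_of_coprime (hn' _) hc0,
        Coprime.card_sup_of_coprime (hn' _) (hcard.symm ▸ hc0), hcard]
    haveI := hP0p.isNilpotent
    obtain ⟨x, hx, hxe⟩ := Coprime.exists_conj_of_coprime (N := P0) (H := MulAut.conj g • B) (K := B)
      (by rw [Subgroup.normalizer_eq_top_iff.mpr inferInstance]; exact le_top)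
      (hcard.symm ▸ hc0) hc0 hsup (Or.inl inferInstance)
    have hxg : x * g ∈ Subgroup.normalizer (B : Set G) := by
      rw [Coprime.mem_normalizer_iff_conj_smul, map_mul, mul_smul, hxe]
    rw [show g = x⁻¹ * (x * g) by group]
    exact mul_mem (Subgroup.mem_sup_right (inv_mem hx.1)) (Subgroup.mem_sup_left hxg)
  have hBn : B.Normal := Subgroup.normalizer_eq_top_iff.mp (frattini_nongenerating hgen)
  exact hB1 (le_bot_iff.mp (hO ▸ Transfer.le_pPrimeCore hBn hBp))

/-- The four-step series when the `p'`-core is trivial. -/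
theorem exists_series_core [hp : Fact p.Prime] (hG : Cfsg.IsPSolvable p G)
    (hO : Cfsg.pPrimeCore p G = ⊥)
    (hmax : ∀ M : Subgroup G, IsCoatom M → PNil p ↥M ∨ M.index.Prime) :
    ∃ B C : Subgroup G, B.Normal ∧ C.Normal ∧ B ≤ C ∧ (∃ k, Nat.card B = p ^ k) ∧
      ¬ p ∣ B.relIndex C ∧ ∃ k, C.index = p ^ k := by
  classical
  set F := Cfsg.pCore p G with hFdef
  haveI hFn : F.Normal := Fitting.pCore_normal p
  have hFp : IsPGroup p ↥F := Fitting.pCore_isPGroup p
  have hFc : ∃ k, Nat.card F = p ^ k := IsPGroup.iff_card.mp hFp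
  by_cases hA : ∃ M : Subgroup G, IsCoatom M ∧ ¬ F ≤ M ∧ PNil p ↥M
  · obtain ⟨M, hM, hFM, K, hKn, hKp, k, hk⟩ := hA
    set K' := K.map M.subtype
    have htop : F ⊔ M = ⊤ := hM.2 _ (lt_of_le_of_ne le_sup_right fun e => hFM (e ▸ le_sup_left))
    haveI hCn : (F ⊔ K').Normal := by
      rw [← Subgroup.normalizer_eq_top_iff, eq_top_iff, ← htop]
      refine sup_le (le_sup_left.trans Subgroup.le_normalizer) ?_
      intro m hm
      have key : ∀ n ∈ M, ∀ y ∈ F ⊔ K', n * y * n⁻¹ ∈ F ⊔ K' := by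
        intro n hn y hy
        obtain ⟨f, hf, _, ⟨z, hz, rfl⟩, rfl⟩ := Subgroup.mem_sup_of_normal_left.mp hy
        rw [show n * (f * M.subtype z) * n⁻¹ = (n * f * n⁻¹) * (n * M.subtype z * n⁻¹) by group]
        exact mul_mem (Subgroup.mem_sup_left (hFn.conj_mem f hf n))
          (Subgroup.mem_sup_right ⟨⟨n, hn⟩ * z * ⟨n, hn⟩⁻¹, hKn.conj_mem z hz _, rfl⟩)
      refine Subgroup.mem_normalizer_iff.mpr fun x => ⟨key m hm x, fun h => ?_⟩
      have := key m⁻¹ (inv_mem hm) _ h
      rwa [show m⁻¹ * (m * x * m⁻¹) * m⁻¹⁻¹ = x by group] at this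
    refine ⟨F, F ⊔ K', hFn, hCn, le_sup_left, hFc, fun hd => hKp ?_, ?_⟩
    · rw [Subgroup.relIndex_sup_left] at hd
      refine hd.trans ?_
      have : Nat.card K' = Nat.card K := Subgroup.card_map_of_injective M.subtype_injective
      rw [← this]
      exact Dvd.intro _ (Coprime.relIndex_mul_card_inf F K')
    · set π := QuotientGroup.mk' (F ⊔ K')
      have hsurj : Function.Surjective (π.comp M.subtype) := fun x => by
        induction x using QuotientGroup.induction_on
        rename_i g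
        have hg : g ∈ F ⊔ M := htop ▸ Subgroup.mem_top g
        obtain ⟨f, hf, m, hm, rfl⟩ := Subgroup.mem_sup_of_normal_left.mp hg
        exact ⟨⟨m, hm⟩, (show π m = π (f * m) by
          rw [map_mul, show π f = 1 from (QuotientGroup.eq_one_iff f).mpr
            (Subgroup.mem_sup_left hf), one_mul])⟩
      have hker : K ≤ (π.comp M.subtype).ker := fun x hx =>
        (QuotientGroup.eq_one_iff _).mpr (Subgroup.mem_sup_right ⟨x, hx, rfl⟩)
      have hd : (F ⊔ K').index ∣ p ^ k := by
        rw [← hk]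
        refine dvd_trans ?_ (Subgroup.index_dvd_of_le hker)
        rw [Subgroup.index_ker, MonoidHom.range_eq_top.mpr hsurj, Subgroup.card_top]
        exact dvd_rfl
      obtain ⟨j, -, hj⟩ := (Nat.dvd_prime_pow hp.out).mp hd
      exact ⟨j, hj⟩
  push Not at hA
  refine ⟨F, ⊤, hFn, inferInstance, le_top, hFc, ?_, 0, by rw [Subgroup.index_top, pow_zero]⟩
  rw [Subgroup.relIndex_top_right]
  -- every `p`-element centralises `F` modulo the Frattini subgroup
  have hpel : ∀ x : G, (∃ i, orderOf x ∣ p ^ i) → x ∈ F := by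
    rintro x ⟨i, hi⟩
    refine centralizer_mod_frattini_le hG hO (Subgroup.mem_centralizer_iff.mpr ?_)
    rintro _ ⟨f, hf, rfl⟩
    rw [← map_mul, ← map_mul, QuotientGroup.mk'_eq_mk']
    refine ⟨(f * x)⁻¹ * (x * f), ?_, by group⟩
    rw [frattini, Order.radical]
    simp only [Subgroup.mem_iInf]
    intro M hM
    by_cases hFM : F ≤ M
    · refine hFM ?_
      rw [show (f * x)⁻¹ * (x * f) = x⁻¹ * f⁻¹ * x * f by group]
      have := hFn.conj_mem f⁻¹ (inv_mem hf) x⁻¹
      rw [inv_inv] at this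
      exact mul_mem this hf
    have hidx : M.index.Prime := (hmax M hM).resolve_left fun h => hA M hM hFM h
    have htop : F ⊔ M = ⊤ := hM.2 _ (lt_of_le_of_ne le_sup_right fun e => hFM (e ▸ le_sup_left))
    have hr : M.relIndex F = p := by
      have h1 : M.relIndex F ∣ p ^ hFc.choose := by
        rw [← hFc.choose_spec]; exact Subgroup.relIndex_dvd_card M F
      have heq : M.relIndex F = M.index := by
        have e1 := Coprime.relIndex_mul_card_inf M F
        have e2 := Coprime.relIndex_mul_card_inf F M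
        have e3 : F.index = F.relIndex M := by
          rw [← Subgroup.relIndex_sup_left (K := F) (H := M), htop, Subgroup.relIndex_top_right]
        have e4 := M.card_mul_index
        rw [← e2, ← F.card_mul_index, e3, inf_comm F M, ← e1] at e4
        refine Nat.eq_of_mul_eq_mul_right (m := F.relIndex M * Nat.card ↥(M ⊓ F)) ?_ (by linarith)
        exact Nat.mul_pos (Nat.pos_of_ne_zero fun e => Subgroup.index_ne_zero_of_finite (e3.trans e))
          Nat.card_pos
      have h2 : M.relIndex F ∣ M.index ∧ M.relIndex F ≠ 1 :=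
        ⟨dvd_of_eq heq, fun e => hFM (Subgroup.relIndex_eq_one.mp e)⟩
      rcases (Nat.dvd_prime hidx).mp h2.1 with h | h
      · exact absurd h h2.2
      · have hMp : M.index ∣ p ^ hFc.choose := h ▸ h1
        rw [h]
        exact (Nat.prime_dvd_prime_iff_eq hidx hp.out).mp (hidx.dvd_of_dvd_pow hMp)
    set D := M.subgroupOf F with hD
    have hDi : D.index = p := hr
    haveI hDn : D.Normal := by
      refine Subgroup.normal_of_index_eq_minFac_card ?_
      obtain ⟨k, hk⟩ := hFc
      have hk0 : k ≠ 0 := fun e => by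
        have h := D.index_dvd_card
        rw [hDi, hk, e, pow_zero] at h
        exact hp.out.one_lt.ne' (Nat.dvd_one.mp h)
      rw [hDi, hk, Nat.pow_minFac hk0, hp.out.minFac_eq]
    have hD' : (D.map F.subtype).Normal := by
      rw [← Subgroup.normalizer_eq_top_iff, eq_top_iff, ← htop]
      have key : ∀ g, (∀ d ∈ D, ∀ h : g * (d : G) * g⁻¹ ∈ F, (⟨_, h⟩ : ↥F) ∈ D) →
          ∀ y ∈ D.map F.subtype, g * y * g⁻¹ ∈ D.map F.subtype := by
        rintro g hg _ ⟨d, hd, rfl⟩
        exact ⟨⟨_, hFn.conj_mem d d.2 g⟩, hg d hd _, rfl⟩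
      have mk : ∀ S : Subgroup G, (∀ g ∈ S, ∀ d ∈ D, ∀ h : g * (d : G) * g⁻¹ ∈ F, (⟨_, h⟩ : ↥F) ∈ D) →
          S ≤ Subgroup.normalizer ((D.map F.subtype : Subgroup G) : Set G) := by
        intro S hS g hg
        refine Subgroup.mem_normalizer_iff.mpr fun y => ⟨key g (hS g hg) y, fun h => ?_⟩
        have := key g⁻¹ (hS _ (inv_mem hg)) _ h
        rwa [show g⁻¹ * (g * y * g⁻¹) * g⁻¹⁻¹ = y by group] at this
      refine sup_le (mk F fun g hg d hd h => ?_) (mk M fun g hg d hd h => ?_)
      · exact hDn.conj_mem d hd ⟨g, hg⟩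
      · exact Subgroup.mem_subgroupOf.mpr (M.mul_mem (M.mul_mem hg (Subgroup.mem_subgroupOf.mp hd)) (inv_mem hg))
    -- the action on the factor of order `p`
    haveI := hD'
    set π := QuotientGroup.mk' (D.map F.subtype)
    set Y := F.map π with hY
    haveI hYn : Y.Normal := hFn.map π (QuotientGroup.mk'_surjective _)
    have hYc : Nat.card Y = p := by
      have h1 := Subgroup.card_eq_card_quotient_mul_card_subgroup (π.subgroupMap F).ker
      rw [Nat.card_congr (QuotientGroup.quotientKerEquivOfSurjective _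
        (π.subgroupMap_surjective F)).toEquiv] at h1
      have hk : (π.subgroupMap F).ker = D := by
        rw [Subgroup.ker_subgroupMap, QuotientGroup.ker_mk']
        exact Subgroup.comap_map_eq_self_of_injective F.subtype_injective D
      rw [hk] at h1
      have h2 := D.card_mul_index
      rw [hDi] at h2
      exact Nat.eq_of_mul_eq_mul_right Nat.card_pos (h1.symm.trans (by rw [mul_comm]; exact h2.symm))
    haveI : IsCyclic Y := isCyclic_of_prime_card hYc
    let θ : G →* MulAut ↥Y :=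
      (Y.normalizerMonoidHom.comp (Subgroup.inclusion
        (show (⊤ : Subgroup (G ⧸ D.map F.subtype)) ≤ Subgroup.normalizer (Y : Set _) by
          rw [Subgroup.normalizer_eq_top_iff.mpr hYn]))).comp
        (Subgroup.topEquiv.symm.toMonoidHom.comp π)
    haveI : Finite (MulAut ↥Y) := Finite.of_injective _ MulEquiv.toEquiv_injective
    have hθ : θ x = 1 := by
      rw [← orderOf_eq_one_iff]
      refine Nat.eq_one_of_dvd_coprimes ?_ ((orderOf_map_dvd θ x).trans hi) (orderOf_dvd_natCard _)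
      rw [IsCyclic.card_mulAut, hYc, Nat.totient_prime hp.out]
      exact Nat.Coprime.pow_left i ((hp.out.coprime_iff_not_dvd).mpr fun h => by
        have := hp.out.two_le
        have := Nat.le_of_dvd (by omega) h
        omega)
    have he : π x * π f * (π x)⁻¹ = π f :=
      congrArg (fun φ : MulAut ↥Y => ((φ ⟨π f, f, hf, rfl⟩ : ↥Y) : G ⧸ D.map F.subtype)) hθ
    have hmem : (f * x)⁻¹ * (x * f) ∈ D.map F.subtype := by
      rw [← QuotientGroup.eq_one_iff]
      show π ((f * x)⁻¹ * (x * f)) = 1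
      rw [map_mul, map_inv, map_mul, map_mul, mul_inv_eq_iff_eq_mul.mp he]
      group
    obtain ⟨d, hd, hde⟩ := hmem
    exact hde ▸ Subgroup.mem_subgroupOf.mp hd
  intro hd
  obtain ⟨S⟩ : Nonempty (Sylow p G) := inferInstance
  refine S.not_dvd_index (hd.trans (Subgroup.index_dvd_of_le fun s hs => hpel s ?_))
  obtain ⟨i, hi⟩ := S.2 ⟨s, hs⟩
  exact ⟨i, orderOf_dvd_of_pow_eq_one (congrArg Subtype.val hi)⟩

theorem isPSolvable_quotient [hp : Fact p.Prime] (hG : Cfsg.IsPSolvable p G) (N : Subgroup G) [N.Normal] :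
    Cfsg.IsPSolvable p (G ⧸ N) := by
  obtain ⟨n, H, h0, hlast, hmono, hn, hstep⟩ := hG
  refine ⟨n, fun i => (H i).map (QuotientGroup.mk' N), by simp [h0], ?_,
    fun i j h => Subgroup.map_mono (hmono h), fun i => (hn i).map _ (QuotientGroup.mk'_surjective N),
    fun i => ?_⟩
  · show (H (Fin.last n)).map _ = ⊤
    rw [hlast, ← MonoidHom.range_eq_map]
    exact MonoidHom.range_eq_top.mpr (QuotientGroup.mk'_surjective N)
  · show (∃ m : ℕ, ((H i.castSucc).map (QuotientGroup.mk' N)).relIndex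
        ((H i.succ).map (QuotientGroup.mk' N)) = p ^ m) ∨ _
    have hd : ((H i.castSucc).map (QuotientGroup.mk' N)).relIndex
        ((H i.succ).map (QuotientGroup.mk' N)) ∣ (H i.castSucc).relIndex (H i.succ) := by
      rw [Subgroup.relIndex_map_map, QuotientGroup.ker_mk']
      haveI := hn i.castSucc
      rw [show H i.succ ⊔ N = H i.succ ⊔ (H i.castSucc ⊔ N) by
          rw [← sup_assoc, sup_eq_left.mpr (hmono (Fin.castSucc_le_succ i))],
        Subgroup.relIndex_sup_right]
      exact Subgroup.relIndex_dvd_of_le_left (H i.succ) le_sup_left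
    rcases hstep i with ⟨m, hm⟩ | hc
    · obtain ⟨j, -, hj⟩ := (Nat.dvd_prime_pow hp.out).mp (hm ▸ hd)
      exact Or.inl ⟨j, hj⟩
    · exact Or.inr (hc.coprime_dvd_left hd)

/-- The series for the group itself. -/
theorem exists_series [hp : Fact p.Prime] (hG : Cfsg.IsPSolvable p G)
    (hmax : ∀ M : Subgroup G, IsCoatom M → PNil p ↥M ∨ M.index.Prime) :
    ∃ A B C D : Subgroup G, A.Normal ∧ B.Normal ∧ C.Normal ∧ D.Normal ∧ A ≤ B ∧ B ≤ C ∧ C ≤ D ∧
      ¬ p ∣ Nat.card A ∧ (∃ k : ℕ, A.relIndex B = p ^ k) ∧ ¬ p ∣ B.relIndex C ∧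
      (∃ k : ℕ, C.relIndex D = p ^ k) ∧ ¬ p ∣ D.index := by
  set A := Cfsg.pPrimeCore p G with hAdef
  haveI hAn : A.Normal := Transfer.pPrimeCore_normal p G
  set π := QuotientGroup.mk' A with hπ
  have hsurj : Function.Surjective π := QuotientGroup.mk'_surjective A
  obtain ⟨B, C, hBn, hCn, hBC, ⟨kb, hkb⟩, hBCp, ⟨kc, hkc⟩⟩ := exists_series_core
    (isPSolvable_quotient hG A) (pPrimeCore_eq_bot_of_ker hsurj (QuotientGroup.ker_mk' A))
    (fun M hM => by
      have hM' : IsCoatom (M.comap π) := by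
        refine ⟨fun e => hM.1 ?_, fun X hX => ?_⟩
        · rw [← Subgroup.map_comap_eq_self_of_surjective hsurj M, e, ← MonoidHom.range_eq_map]
          exact MonoidHom.range_eq_top.mpr hsurj
        · have hker : π.ker ≤ X := (Subgroup.ker_le_comap π M).trans hX.le
          have hlt : M < X.map π := by
            refine lt_of_le_of_ne ?_ fun e => hX.ne ?_
            · calc M = (M.comap π).map π := (Subgroup.map_comap_eq_self_of_surjective hsurj M).symm
                _ ≤ X.map π := Subgroup.map_mono hX.le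
            · rw [e, Subgroup.comap_map_eq_self hker]
          rw [← Subgroup.comap_map_eq_self hker, hM.2 _ hlt, Subgroup.comap_top]
      rcases hmax _ hM' with h | h
      · left
        refine h.of_surjective (f := (π.comp (M.comap π).subtype).codRestrict M fun x => x.2) ?_
        intro y
        obtain ⟨g, hg⟩ := hsurj y.1
        exact ⟨⟨g, show π g ∈ M from hg.symm ▸ y.2⟩, Subtype.ext hg⟩
      · right
        rwa [Subgroup.index_comap_of_surjective _ hsurj] at h)
  haveI := hBn
  haveI := hCn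
  refine ⟨A, B.comap π, C.comap π, ⊤, hAn, inferInstance, inferInstance, inferInstance, ?_,
    Subgroup.comap_mono hBC, le_top, fun hd => ?_, ⟨kb, ?_⟩, ?_, ⟨kc, ?_⟩, ?_⟩
  · exact (QuotientGroup.ker_mk' A).symm.le.trans (Subgroup.ker_le_comap π B)
  · exact hp.out.coprime_iff_not_dvd.mp (Transfer.pPrimeCore_coprime (G := G) p).symm hd
  · have h1 : A.relIndex (B.comap π) = (⊥ : Subgroup (G ⧸ A)).relIndex B := by
      have : A = (⊥ : Subgroup (G ⧸ A)).comap π := (QuotientGroup.ker_mk' A).symm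
      exact (congrArg (fun Y : Subgroup G => Y.relIndex (B.comap π)) this).trans
        (by rw [Subgroup.relIndex_comap, Subgroup.map_comap_eq_self_of_surjective hsurj])
    rw [h1, Subgroup.relIndex_bot_left, hkb]
  · rwa [Subgroup.relIndex_comap, Subgroup.map_comap_eq_self_of_surjective hsurj]
  · rw [Subgroup.relIndex_top_right, Subgroup.index_comap_of_surjective _ hsurj, hkc]
  · rw [Subgroup.index_top]
    exact hp.out.not_dvd_one

end CfsgLib.PSolvable.LengthTwo
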