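import Mathlib

/-!
When the elements with order supported in a set of primes form a subgroup.
-/

set_option autoImplicit false
set_option linter.style.haveILetI false

namespace CfsgLib.PiElements

variable {G : Type*} [Group G] (π : Set ℕ)

/-- A number all of whose prime divisors lie in `π`. -/
def PiNum (n : ℕ) : Prop := ∀ p : ℕ, p.Prime → p ∣ n → p ∈ π

/-- A number none of whose prime divisors lie in `π`. -/
def CoPiNum (n : ℕ) : Prop := ∀ p : ℕ, p.Prime → p ∣ n → p ∉ π

variable {π}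

theorem coprime_of_pi {a b : ℕ} (ha : PiNum π a) (hb : CoPiNum π b) : a.Coprime b :=
  Nat.coprime_of_dvd fun p hp hpa hpb => hb p hp hpb (ha p hp hpa)

theorem PiNum.dvd {a b : ℕ} (hb : PiNum π b) (h : a ∣ b) : PiNum π a :=
  fun p hp hpa => hb p hp (hpa.trans h)

theorem CoPiNum.dvd {a b : ℕ} (hb : CoPiNum π b) (h : a ∣ b) : CoPiNum π a :=
  fun p hp hpa => hb p hp (hpa.trans h)

theorem pi_mul {a b : ℕ} (ha : PiNum π a) (hb : PiNum π b) : PiNum π (a * b) := fun p hp h =>
  ((Nat.Prime.dvd_mul hp).mp h).elim (ha p hp) (hb p hp)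

variable [Finite G]

/-- A subgroup of `π`-elements has `π`-order. -/
theorem piNum_card {L : Subgroup G} (h : ∀ x ∈ L, PiNum π (orderOf x)) : PiNum π (Nat.card L) := by
  intro p hp hd
  haveI := Fact.mk hp
  obtain ⟨⟨x, hx⟩, ho⟩ := exists_prime_orderOf_dvd_card' (G := L) p hd
  rw [Subgroup.orderOf_mk] at ho
  exact h x hx p hp (ho ▸ dvd_rfl)

theorem piNum_of_mem {L : Subgroup G} (h : PiNum π (Nat.card L)) {x : G} (hx : x ∈ L) :
    PiNum π (orderOf x) := h.dvd (L.orderOf_dvd_natCard hx)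

/-- The relative index in a join with a normalised subgroup. -/
theorem relIndex_sup_of_normalizing {A B : Subgroup G} (h : A ≤ Subgroup.normalizer (B : Set G)) :
    B.relIndex (A ⊔ B) = B.relIndex A := by
  haveI := Subgroup.normal_subgroupOf_of_le_normalizer (H := A ⊔ B) (N := B)
    (sup_le h Subgroup.le_normalizer)
  rw [← Subgroup.relIndex_subgroupOf (le_refl (A ⊔ B)),
    ← Subgroup.relIndex_subgroupOf (le_sup_left : A ≤ A ⊔ B)]
  generalize hS : (B.subgroupOf (A ⊔ B)) = S at *
  have : (A ⊔ B).subgroupOf (A ⊔ B) = A.subgroupOf (A ⊔ B) ⊔ S := by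
    rw [← hS, ← Subgroup.subgroupOf_sup le_sup_left le_sup_right]
  rw [this, Subgroup.relIndex_sup_right]

/-- A subgroup containing a full Sylow part of `T` for every prime contains `T`. -/
theorem le_of_parts {T H : Subgroup G}
    (h : ∀ p : ℕ, p.Prime → p ∣ Nat.card T → ∃ P : Subgroup G, P ≤ T ∧ P ≤ H ∧
      Nat.card P = p ^ (Nat.card T).factorization p) : T ≤ H := by
  have hdvd : Nat.card T ∣ Nat.card (H ⊓ T : Subgroup G) := by
    rw [← Nat.factorization_le_iff_dvd Nat.card_pos.ne' Nat.card_pos.ne']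
    intro p
    by_cases hp : p.Prime ∧ p ∣ Nat.card T
    · obtain ⟨P, hPT, hPH, hc⟩ := h p hp.1 hp.2
      have := Subgroup.card_dvd_of_le (le_inf hPH hPT)
      rw [hc] at this
      exact (hp.1.pow_dvd_iff_le_factorization Nat.card_pos.ne').mp this
    · rcases not_and_or.mp hp with h1 | h1
      · rw [Nat.factorization_eq_zero_of_not_prime _ h1]; exact Nat.zero_le _
      · rw [Nat.factorization_eq_zero_of_not_dvd h1]; exact Nat.zero_le _
  have : H ⊓ T = T := Subgroup.eq_of_le_of_card_ge inf_le_right (Nat.le_of_dvd Nat.card_pos hdvd)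
  exact this ▸ inf_le_left

/-- The hypothesis on automizers of `π'`-subgroups. -/
def Automizer (π : Set ℕ) (G : Type*) [Group G] : Prop :=
  ∀ H : Subgroup G, H ≠ ⊥ → CoPiNum π (Nat.card H) →
    CoPiNum π ((Subgroup.centralizer (H : Set G)).relIndex (Subgroup.normalizer (H : Set G)))

/-- If the `π`-elements form a subgroup, automizers of `π'`-subgroups are `π'`-groups. -/
theorem automizer_of_subgroup (L : Subgroup G) (hL : ∀ x, x ∈ L ↔ PiNum π (orderOf x)) :
    Automizer π G := by
  intro H _ hH p hp hdvd hpπ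
  haveI := Fact.mk hp
  set N := Subgroup.normalizer (H : Set G) with hN
  set C := (Subgroup.centralizer (H : Set G)).subgroupOf N with hC
  obtain ⟨P⟩ := (inferInstance : Nonempty (Sylow p N))
  haveI : C.Normal := by rw [hC, ← Subgroup.normalizerMonoidHom_ker]; infer_instance
  have hPC : (P : Subgroup N) ≤ C := by
    intro g hg
    rw [hC, Subgroup.mem_subgroupOf, Subgroup.mem_centralizer_iff]
    intro h hh
    obtain ⟨k, hk⟩ := P.2 ⟨g, hg⟩
    have hgL : (g : G) ∈ L := (hL _).mpr fun q hq hqd => by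
      have hd : orderOf (g : G) ∣ p ^ k := orderOf_dvd_of_pow_eq_one
        (congrArg (fun z : (P : Subgroup N) => ((z : N) : G)) hk)
      rw [(Nat.prime_dvd_prime_iff_eq hq hp).mp (hq.dvd_of_dvd_pow (hqd.trans hd))]
      exact hpπ
    have hLn : ∀ y ∈ L, ∀ z : G, z * y * z⁻¹ ∈ L := fun y hy z => (hL _).mpr (by
      rw [show z * y * z⁻¹ = MulAut.conj z y from rfl, MulEquiv.orderOf_eq]
      exact (hL y).mp hy)
    have h1 : (g : G) * h * (g : G)⁻¹ * h⁻¹ ∈ H := mul_mem ((Subgroup.mem_normalizer_iff.mp g.2 h).mp hh) (inv_mem hh)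
    have h2 : (g : G) * h * (g : G)⁻¹ * h⁻¹ ∈ L := by
      have := mul_mem hgL (hLn _ (inv_mem hgL) h)
      simpa [mul_assoc] using this
    have h3 : orderOf ((g : G) * h * (g : G)⁻¹ * h⁻¹) = 1 :=
      Nat.eq_one_of_dvd_coprimes (coprime_of_pi (piNum_card fun x hx => (hL x).mp hx) hH)
        (L.orderOf_dvd_natCard h2) (H.orderOf_dvd_natCard h1)
    rw [orderOf_eq_one_iff, mul_inv_eq_one, mul_inv_eq_iff_eq_mul] at h3
    exact h3.symm
  exact P.not_dvd_index (hdvd.trans (Subgroup.index_dvd_of_le hPC))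

/-- Extension over a `π`-factor. -/
theorem step (hA : Automizer π G) (K M : Subgroup G) [K.Normal] [M.Normal] (hKM : K ≤ M)
    (hidx : PiNum π (K.relIndex M)) (L : Subgroup G) (hL : ∀ x, x ∈ L ↔ x ∈ K ∧ PiNum π (orderOf x)) :
    ∃ W : Subgroup G, ∀ x, x ∈ W ↔ x ∈ M ∧ PiNum π (orderOf x) := by
  have hLK : L ≤ K := fun x hx => ((hL x).mp hx).1
  haveI hLn : L.Normal := ⟨fun y hy z => (hL _).mpr ⟨(inferInstance : K.Normal).conj_mem y ((hL y).mp hy).1 z, by
    rw [show z * y * z⁻¹ = MulAut.conj z y from rfl, MulEquiv.orderOf_eq]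
    exact ((hL y).mp hy).2⟩⟩
  have hLc : PiNum π (Nat.card L) := piNum_card fun x hx => ((hL x).mp hx).2
  set f := QuotientGroup.mk' L with hf
  set K' := K.map f with hK'
  set M' := M.map f with hM'
  haveI : K'.Normal := Subgroup.Normal.map inferInstance f (QuotientGroup.mk'_surjective L)
  haveI : M'.Normal := Subgroup.Normal.map inferInstance f (QuotientGroup.mk'_surjective L)
  have hcardmap : ∀ T : Subgroup G, L ≤ T → Nat.card T = Nat.card L * Nat.card (T.map f) := by
    intro T hT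
    have h1 : Nat.card L * L.relIndex T = Nat.card T := by
      rw [← Subgroup.relIndex_bot_left, ← Subgroup.relIndex_bot_left]
      exact Subgroup.relIndex_mul_relIndex _ _ _ bot_le hT
    rw [← h1]
    congr 1
    rw [← Subgroup.relIndex_bot_left, ← Subgroup.relIndex_comap, MonoidHom.comap_bot, hf, QuotientGroup.ker_mk']
  -- the image of `K` is a `π'`-group
  have hK'c : CoPiNum π (Nat.card K') := by
    intro r hr hd hrπ
    haveI := Fact.mk hr
    obtain ⟨⟨y, hy⟩, hyo⟩ := exists_prime_orderOf_dvd_card' (G := K') r hd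
    rw [Subgroup.orderOf_mk] at hyo
    obtain ⟨x, hx, rfl⟩ := hy
    obtain ⟨a, m, hm, ham⟩ := Nat.exists_eq_pow_mul_and_not_dvd (orderOf_pos x).ne' r hr.ne_one
    have hmem : x ^ m ∈ L := (hL _).mpr ⟨pow_mem hx m, fun q hq hqd => by
      have : orderOf (x ^ m) ∣ r ^ a := by
        refine orderOf_dvd_of_pow_eq_one ?_
        rw [← pow_mul, mul_comm, ← ham, pow_orderOf_eq_one]
      rw [(Nat.prime_dvd_prime_iff_eq hq hr).mp (hq.dvd_of_dvd_pow (hqd.trans this))]
      exact hrπ⟩
    have : f x ^ m = 1 := by rw [← map_pow]; exact (QuotientGroup.eq_one_iff _).mpr hmem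
    exact hm (hyo ▸ orderOf_dvd_of_pow_eq_one this)
  -- each Sylow subgroup of the image of `K` is centralised by a supplement
  have hcent : ∀ r : ℕ, r.Prime → r ∣ Nat.card K' → ∃ R' S' : Subgroup (G ⧸ L), R' ≤ K' ∧
      Nat.card R' = r ^ (Nat.card K').factorization r ∧ S' ≤ Subgroup.centralizer (R' : Set (G ⧸ L)) ∧
      K' ⊔ S' = M' := by
    intro r hr hrd
    haveI := Fact.mk hr
    have hrπ : r ∉ π := hK'c r hr hrd
    obtain ⟨R₀⟩ := (inferInstance : Nonempty (Sylow r K))
    set R := (R₀ : Subgroup K).map K.subtype with hR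
    have hRc : Nat.card R = r ^ (Nat.card K).factorization r := by
      rw [hR, Subgroup.card_map_of_injective K.subtype_injective]; exact R₀.card_eq_multiplicity
    have hrK : r ∣ Nat.card K := by
      rw [hcardmap K hLK]; exact dvd_mul_of_dvd_right hrd _
    have hRpi : CoPiNum π (Nat.card R) := fun q hq hqd => by
      rw [hRc] at hqd
      rw [(Nat.prime_dvd_prime_iff_eq hq hr).mp (hq.dvd_of_dvd_pow hqd)]
      exact hrπ
    have hR0 : R ≠ ⊥ := fun h0 => by
      rw [h0, Subgroup.card_bot] at hRc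
      have := (hr.dvd_iff_one_le_factorization Nat.card_pos.ne').mp hrK
      have := Nat.one_lt_pow (by omega : (Nat.card K).factorization r ≠ 0) hr.one_lt
      omega
    set N := Subgroup.normalizer (R : Set G) with hN
    set C := Subgroup.centralizer (R : Set G) with hC
    have hsup : M ≤ K ⊔ (N ⊓ M) := by
      intro x hx
      have hfr : x ∈ N ⊔ K := by rw [hN, hR, Sylow.normalizer_sup_eq_top R₀]; trivial
      obtain ⟨n, hn, k, hk, rfl⟩ := Subgroup.mem_sup_of_normal_right.mp hfr
      refine mul_mem (Subgroup.mem_sup_right (Subgroup.mem_inf.mpr ⟨hn, ?_⟩)) (Subgroup.mem_sup_left hk)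
      simpa using mul_mem hx (inv_mem (hKM hk))
    have hd1 : (K ⊔ (C ⊓ M)).relIndex M ∣ K.relIndex M := Subgroup.relIndex_dvd_of_le_left M le_sup_left
    have hd2 : (K ⊔ (C ⊓ M)).relIndex M ∣ C.relIndex N := by
      have e1 : (K ⊔ (C ⊓ M)).relIndex M = (K ⊔ (C ⊓ M)).relIndex (N ⊓ M) := by
        have hMeq : (N ⊓ M) ⊔ (K ⊔ (C ⊓ M)) = M :=
          le_antisymm (sup_le inf_le_right (sup_le hKM inf_le_right))
            (hsup.trans (sup_le (le_sup_left.trans le_sup_right) le_sup_left))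
        have hnorm : N ⊓ M ≤ Subgroup.normalizer ((K ⊔ (C ⊓ M) : Subgroup G) : Set G) := by
          intro g hg
          have hgC : ∀ z ∈ C, ∀ u ∈ N, u * z * u⁻¹ ∈ C := by
            intro z hz u hu
            rw [hC, Subgroup.mem_centralizer_iff] at hz ⊢
            intro t ht
            have := hz _ ((Subgroup.mem_normalizer_iff.mp (inv_mem hu) t).mp ht)
            rw [inv_inv] at this
            calc t * (u * z * u⁻¹) = u * (u⁻¹ * t * u * z) * u⁻¹ := by group
              _ = u * (z * (u⁻¹ * t * u)) * u⁻¹ := by rw [this]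
              _ = u * z * u⁻¹ * t := by group
          have key : ∀ u ∈ N ⊓ M, ∀ z ∈ K ⊔ (C ⊓ M), u * z * u⁻¹ ∈ K ⊔ (C ⊓ M) := by
            intro u hu z hz
            obtain ⟨k, hk, c, hc, rfl⟩ := Subgroup.mem_sup_of_normal_left.mp hz
            rw [show u * (k * c) * u⁻¹ = (u * k * u⁻¹) * (u * c * u⁻¹) by group]
            refine mul_mem (Subgroup.mem_sup_left ((inferInstance : K.Normal).conj_mem k hk u))
              (Subgroup.mem_sup_right (Subgroup.mem_inf.mpr ⟨hgC c (Subgroup.mem_inf.mp hc).1 u (Subgroup.mem_inf.mp hu).1, ?_⟩))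
            exact (inferInstance : M.Normal).conj_mem c (Subgroup.mem_inf.mp hc).2 u
          refine Subgroup.mem_normalizer_iff.mpr fun z => ⟨key g hg z, fun hz => ?_⟩
          simpa [mul_assoc] using key g⁻¹ (inv_mem hg) _ hz
        have e0 := relIndex_sup_of_normalizing hnorm
        rwa [hMeq] at e0
      rw [e1]
      refine (Subgroup.relIndex_dvd_of_le_left _ (le_sup_right : C ⊓ M ≤ K ⊔ (C ⊓ M))).trans ?_
      have e2 : (C ⊓ M).relIndex (N ⊓ M) = C.relIndex (N ⊓ M) := by
        rw [← Subgroup.inf_relIndex_right, ← Subgroup.inf_relIndex_right C]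
        congr 1
        ext z
        simp only [Subgroup.mem_inf]
        tauto
      rw [e2, ← Subgroup.relIndex_subgroupOf (inf_le_left : N ⊓ M ≤ N)]
      haveI : (C.subgroupOf N).Normal := by rw [hC, hN, ← Subgroup.normalizerMonoidHom_ker]; infer_instance
      exact Subgroup.relIndex_dvd_index_of_normal _ _
    have heq : K ⊔ (C ⊓ M) = M := le_antisymm (sup_le hKM inf_le_right) (Subgroup.relIndex_eq_one.mp
      (Nat.eq_one_of_dvd_coprimes (coprime_of_pi hidx (hA R hR0 hRpi)) hd1 hd2))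
    refine ⟨R.map f, (C ⊓ M).map f, Subgroup.map_mono (Subgroup.map_subtype_le _), ?_, ?_,
      by rw [hK', hM', ← Subgroup.map_sup, heq]⟩
    · have hdisj : f.ker ⊓ R = ⊥ := by
        rw [hf, QuotientGroup.ker_mk', Subgroup.eq_bot_iff_forall]
        intro z hz
        exact orderOf_eq_one_iff.mp (Nat.eq_one_of_dvd_coprimes (coprime_of_pi hLc hRpi)
          (L.orderOf_dvd_natCard (Subgroup.mem_inf.mp hz).1) (R.orderOf_dvd_natCard (Subgroup.mem_inf.mp hz).2))
      have e : Nat.card (R.map f) = Nat.card R := by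
        refine (Nat.card_congr (Equiv.ofBijective (fun z : R => (⟨f z, z, z.2, rfl⟩ : R.map f)) ⟨?_, ?_⟩)).symm
        · intro a b hab
          have h' : (a : G)⁻¹ * b ∈ f.ker ⊓ R := Subgroup.mem_inf.mpr ⟨by
            have h'' : f (a : G) = f (b : G) := congrArg Subtype.val hab
            rw [MonoidHom.mem_ker, map_mul, map_inv, h'', inv_mul_cancel],
            mul_mem (inv_mem a.2) b.2⟩
          rw [hdisj, Subgroup.mem_bot, inv_mul_eq_one] at h'
          exact Subtype.ext h'
        · rintro ⟨_, z, hz, rfl⟩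
          exact ⟨⟨z, hz⟩, rfl⟩
      rw [e, hRc, hcardmap K hLK, Nat.factorization_mul Nat.card_pos.ne' Nat.card_pos.ne', Finsupp.add_apply,
        Nat.factorization_eq_zero_of_not_dvd (fun h => hrπ (hLc r hr h)), zero_add]
    · rintro _ ⟨c, hc, rfl⟩
      rw [Subgroup.mem_centralizer_iff]
      rintro _ ⟨z, hz, rfl⟩
      rw [← map_mul, ← map_mul, Subgroup.mem_centralizer_iff.mp (Subgroup.mem_inf.mp hc).1 z hz]
  -- `π`-elements of the image of `M` centralise the image of `K`
  have hcen : ∀ x ∈ M', PiNum π (orderOf x) → x ∈ Subgroup.centralizer (K' : Set (G ⧸ L)) := by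
    intro x hx hxπ
    refine le_of_parts (T := Subgroup.zpowers x) (H := Subgroup.centralizer (K' : Set (G ⧸ L))) ?_ (Subgroup.mem_zpowers x)
    intro q hq hqd
    haveI := Fact.mk hq
    obtain ⟨B₀⟩ := (inferInstance : Nonempty (Sylow q (Subgroup.zpowers x)))
    set B := (B₀ : Subgroup (Subgroup.zpowers x)).map (Subgroup.zpowers x).subtype with hB
    have hBc : Nat.card B = q ^ (Nat.card (Subgroup.zpowers x)).factorization q := by
      rw [hB, Subgroup.card_map_of_injective (Subgroup.subtype_injective _)]; exact B₀.card_eq_multiplicity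
    refine ⟨B, Subgroup.map_subtype_le _, ?_, hBc⟩
    have hqπ : q ∈ π := hxπ q hq (by rwa [← Nat.card_zpowers])
    have hBM : B ≤ M' := (Subgroup.map_subtype_le _).trans (Subgroup.zpowers_le.mpr hx)
    intro b hb
    rw [Subgroup.mem_centralizer_iff]
    suffices hall : K' ≤ Subgroup.centralizer ({b} : Set (G ⧸ L)) by
      intro k hk
      exact Subgroup.mem_centralizer_singleton_iff.mp (hall hk)
    refine le_of_parts fun r hr hrd => ?_
    obtain ⟨R', S', hR'K, hR'c, hS'C, hKS⟩ := hcent r hr hrd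
    have hS'M : S' ≤ M' := hKS ▸ le_sup_right
    obtain ⟨Q⟩ := (inferInstance : Nonempty (Sylow q S'))
    set Q' := (Q : Subgroup S').map S'.subtype with hQ'
    have hQ'M : Q' ≤ M' := (Subgroup.map_subtype_le _).trans hS'M
    -- `Q'` is a Sylow subgroup of `M'`
    have hQc : Nat.card Q' = q ^ (Nat.card M').factorization q := by
      rw [hQ', Subgroup.card_map_of_injective (Subgroup.subtype_injective _)]
      have hsx : Nat.card (Q : Subgroup S') = q ^ (Nat.card S').factorization q := Q.card_eq_multiplicity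
      rw [hsx]
      congr 1
      have h1 : Nat.card S' * S'.relIndex M' = Nat.card M' := by
        rw [← Subgroup.relIndex_bot_left, ← Subgroup.relIndex_bot_left]
        exact Subgroup.relIndex_mul_relIndex _ _ _ bot_le hS'M
      have h2 : ¬ q ∣ S'.relIndex M' := fun hd => by
        have h3 : S'.relIndex M' ∣ Nat.card K' := by
          have e2 : Nat.card K' * K'.relIndex M' = Nat.card M' := by
            rw [← Subgroup.relIndex_bot_left, ← Subgroup.relIndex_bot_left]
            exact Subgroup.relIndex_mul_relIndex _ _ _ bot_le (hKS ▸ le_sup_left)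
          have e3 : K'.relIndex M' ∣ Nat.card S' := by
            rw [← hKS, sup_comm, Subgroup.relIndex_sup_right]
            exact Subgroup.relIndex_dvd_card _ _
          obtain ⟨d, hd'⟩ := e3
          refine ⟨d, Nat.eq_of_mul_eq_mul_right (show 0 < K'.relIndex M' from Nat.pos_of_ne_zero Subgroup.FiniteIndex.index_ne_zero) ?_⟩
          rw [e2, ← h1, hd']; ring
        exact hK'c q hq (hd.trans h3) hqπ
      rw [← h1, Nat.factorization_mul Nat.card_pos.ne' (show S'.relIndex M' ≠ 0 from fun h0 => h2 (by rw [h0]; exact dvd_zero q)), Finsupp.add_apply,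
        Nat.factorization_eq_zero_of_not_dvd h2, add_zero]
    let QM : Sylow q M' := Sylow.ofCard (Q'.subgroupOf M') (by
      rw [Nat.card_congr (Subgroup.subgroupOfEquivOfLe hQ'M).toEquiv, hQc])
    have hBp : IsPGroup q (B.subgroupOf M') := IsPGroup.of_card (n := (Nat.card (Subgroup.zpowers x)).factorization q)
      (by rw [Nat.card_congr (Subgroup.subgroupOfEquivOfLe hBM).toEquiv, hBc])
    obtain ⟨T, hT⟩ := hBp.exists_le_sylow
    obtain ⟨g, hg⟩ := MulAction.exists_smul_eq M' T QM
    have hmem : (g : G ⧸ L) * b * (g : G ⧸ L)⁻¹ ∈ Q' := by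
      have h1 : g * ⟨b, hBM hb⟩ * g⁻¹ ∈ (QM : Subgroup M') := by
        rw [← hg]
        exact Subgroup.smul_mem_pointwise_smul _ (MulAut.conj g) _ (hT (Subgroup.mem_subgroupOf.mpr hb))
      exact h1
    have hgb : (g : G ⧸ L) * b * (g : G ⧸ L)⁻¹ ∈ Subgroup.centralizer (R' : Set (G ⧸ L)) :=
      hS'C (Subgroup.map_subtype_le _ hmem)
    refine ⟨R'.map (MulAut.conj (g : G ⧸ L)⁻¹).toMonoidHom, ?_, ?_, ?_⟩
    · rintro _ ⟨z, hz, rfl⟩
      exact (inferInstance : K'.Normal).conj_mem z (hR'K hz) _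
    · rintro _ ⟨z, hz, rfl⟩
      rw [Subgroup.mem_centralizer_singleton_iff]
      have h1 := Subgroup.mem_centralizer_iff.mp hgb z hz
      show (g : G ⧸ L)⁻¹ * z * (g : G ⧸ L)⁻¹⁻¹ * b = b * ((g : G ⧸ L)⁻¹ * z * (g : G ⧸ L)⁻¹⁻¹)
      calc (g : G ⧸ L)⁻¹ * z * (g : G ⧸ L)⁻¹⁻¹ * b
          = (g : G ⧸ L)⁻¹ * (z * ((g : G ⧸ L) * b * (g : G ⧸ L)⁻¹)) * g := by group
        _ = (g : G ⧸ L)⁻¹ * (((g : G ⧸ L) * b * (g : G ⧸ L)⁻¹) * z) * g := by rw [h1]
        _ = b * ((g : G ⧸ L)⁻¹ * z * (g : G ⧸ L)⁻¹⁻¹) := by group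
    · rw [Subgroup.card_map_of_injective (MulAut.conj _).injective, hR'c]
  -- a complement in the centraliser
  set D := M' ⊓ Subgroup.centralizer (K' : Set (G ⧸ L)) with hD
  set Z := K'.subgroupOf D with hZ
  haveI : Z.Normal := inferInstance
  have hZc : CoPiNum π (Nat.card Z) := hK'c.dvd (by
    rw [hZ, ← Subgroup.card_map_of_injective D.subtype_injective, Subgroup.subgroupOf_map_subtype]
    exact Subgroup.card_dvd_of_le inf_le_left)
  have hZi : PiNum π Z.index := by
    refine hidx.dvd ?_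
    show K'.relIndex D ∣ K.relIndex M
    have h1 : K'.relIndex D ∣ K'.relIndex M' := by
      rw [← Subgroup.relIndex_subgroupOf (inf_le_left : D ≤ M')]
      exact Subgroup.relIndex_dvd_index_of_normal _ _
    refine h1.trans (dvd_of_eq ?_)
    have e1 : Nat.card K' * K'.relIndex M' = Nat.card M' := by
      rw [← Subgroup.relIndex_bot_left, ← Subgroup.relIndex_bot_left]
      exact Subgroup.relIndex_mul_relIndex _ _ _ bot_le (Subgroup.map_mono hKM)
    have e2 : Nat.card K * K.relIndex M = Nat.card M := by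
      rw [← Subgroup.relIndex_bot_left, ← Subgroup.relIndex_bot_left]
      exact Subgroup.relIndex_mul_relIndex _ _ _ bot_le hKM
    rw [hcardmap K hLK, hcardmap M (hLK.trans hKM), mul_assoc] at e2
    exact Nat.eq_of_mul_eq_mul_left Nat.card_pos (e1.trans (Nat.eq_of_mul_eq_mul_left Nat.card_pos e2).symm)
  obtain ⟨B, hB⟩ := Subgroup.exists_right_complement'_of_coprime (N := Z) (coprime_of_pi hZi hZc).symm
  have hBc : PiNum π (Nat.card B) := by rw [← hB.symm.index_eq_card]; exact hZi
  set W := (B.map D.subtype).comap f with hW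
  refine ⟨W, fun x => ⟨fun hx => ⟨?_, ?_⟩, fun ⟨hxM, hxπ⟩ => ?_⟩⟩
  · obtain ⟨b, -, hb⟩ := hx
    obtain ⟨m, hm, hme⟩ : f x ∈ M' := hb ▸ (Subgroup.mem_inf.mp b.2).1
    have : m⁻¹ * x ∈ L := QuotientGroup.eq.mp hme
    simpa using mul_mem hm (hKM (hLK this))
  · refine piNum_of_mem ?_ hx
    have hLW : L ≤ W := fun z hz => by
      rw [hW, Subgroup.mem_comap, hf, QuotientGroup.mk'_apply, (QuotientGroup.eq_one_iff z).mpr hz]
      exact one_mem _
    rw [hcardmap W hLW, hW, Subgroup.map_comap_eq_self_of_surjective (QuotientGroup.mk'_surjective L),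
      Subgroup.card_map_of_injective D.subtype_injective]
    exact pi_mul hLc hBc
  · have hfπ : PiNum π (orderOf (f x)) := hxπ.dvd (orderOf_map_dvd f x)
    have hfM : f x ∈ M' := ⟨x, hxM, rfl⟩
    have hxD : f x ∈ D := Subgroup.mem_inf.mpr ⟨hfM, hcen _ hfM hfπ⟩
    have htop : (⟨f x, hxD⟩ : D) ∈ Z ⊔ B := by rw [hB.sup_eq_top]; trivial
    obtain ⟨z, hz, b, hb, hzb⟩ := Subgroup.mem_sup_of_normal_left.mp htop
    have hcomm : Commute z b := by
      refine Subtype.ext ?_
      show (z : G ⧸ L) * b = b * z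
      exact Subgroup.mem_centralizer_iff.mp (Subgroup.mem_inf.mp b.2).2 _ (Subgroup.mem_subgroupOf.mp hz)
    have hpow : z ^ orderOf (f x) * b ^ orderOf (f x) = 1 := by
      rw [← hcomm.mul_pow, hzb]
      exact Subtype.ext (pow_orderOf_eq_one (f x))
    have hzn : z ^ orderOf (f x) ∈ Z ⊓ B := Subgroup.mem_inf.mpr ⟨pow_mem hz _, by
      rw [eq_inv_of_mul_eq_one_left hpow]; exact inv_mem (pow_mem hb _)⟩
    rw [hB.disjoint.eq_bot, Subgroup.mem_bot] at hzn
    have hz1 : z = 1 := orderOf_eq_one_iff.mp (Nat.eq_one_of_dvd_coprimes (coprime_of_pi hfπ hZc)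
      (orderOf_dvd_of_pow_eq_one hzn) (Z.orderOf_dvd_natCard hz))
    rw [hz1, one_mul] at hzb
    exact ⟨b, hb, by rw [hzb]; rfl⟩

end CfsgLib.PiElements
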