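import Cfsg.Agent.Lib.PSolvable.Core
import Cfsg.Agent.Lib.Coprime.Action

/-!
# A Sylow `p`-subgroup normalizing a Sylow `q`-subgroup
-/

set_option autoImplicit false
set_option linter.unusedSectionVars false
set_option linter.style.haveILetI false

namespace CfsgLib.SylowPairs

open Cfsg CfsgLib CfsgLib.Coprime CfsgLib.Fitting
open scoped Pointwise

variable {G : Type*} [Group G] [Finite G] {p q : ℕ} [Fact p.Prime] [Fact q.Prime]

variable (p q G) in
/-- Some Sylow `p`-subgroup normalizes some Sylow `q`-subgroup. -/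
def HasPair : Prop :=
  ∃ (P : Sylow p G) (Q : Sylow q G), (P : Subgroup G) ≤ Subgroup.normalizer ((Q : Subgroup G) : Set G)

/-- A coprime group acting on `K` each of whose elements centralizes a Sylow subgroup of `K`
centralizes one. -/
theorem exists_centralized_sylow {A K : Subgroup G} (hAK : A ≤ Subgroup.normalizer (K : Set G))
    (hcop : (Nat.card A).Coprime (Nat.card K)) (hsolv : Group.IsSolvable A)
    (h : ∀ a ∈ A, ∃ S : Sylow p K, (S : Subgroup K).map K.subtype ≤ Subgroup.centralizer ({a} : Set G)) :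
    ∃ S : Sylow p K, (S : Subgroup K).map K.subtype ≤ Subgroup.centralizer (A : Set G) := by
  obtain ⟨S, hS⟩ := exists_invariant_sylow hAK hcop (Or.inl hsolv) p
  refine ⟨S, fun x hx a ha => ?_⟩
  obtain ⟨T, hT⟩ := h a ha
  have hZ : Subgroup.zpowers a ≤ A := Subgroup.zpowers_le.mpr ha
  have hTn : Subgroup.zpowers a ≤ Subgroup.normalizer ((T : Subgroup K).map K.subtype : Set G) := by
    rw [Subgroup.zpowers_le]
    refine Subgroup.centralizer_le_normalizer _ fun y hy => ?_
    have := hT hy
    rw [Subgroup.mem_centralizer_singleton_iff] at this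
    exact this
  obtain ⟨c, hc, hcS⟩ := invariant_sylow_conj (hZ.trans hAK)
    (hcop.coprime_dvd_left (Subgroup.card_dvd_of_le hZ))
    (Or.inl (isSolvable_of_le hZ hsolv)) T S hTn (hZ.trans hS)
  rw [← hcS, map_subtype_conj_smul_sylow, Subgroup.mem_pointwise_smul_iff_inv_smul_mem] at hx
  have h1 := hT hx
  rw [Subgroup.mem_centralizer_singleton_iff, ← map_inv, MulAut.smul_def, MulAut.conj_apply,
    inv_inv] at h1
  have h2 : a * c = c * a := hc a (Subgroup.mem_zpowers a)
  have h3 : Commute a (c : G) := h2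
  have h4 : Commute a ((c : G)⁻¹ * x * c) := h1.symm
  have h5 := (h3.mul_right h4).mul_right h3.inv_right
  simpa [mul_assoc] using h5.eq

theorem exists_sylow_le_centralizer {y : G}
    (hy : ¬ p ∣ (Subgroup.centralizer ({y} : Set G)).index) :
    ∃ S : Sylow p G, (S : Subgroup G) ≤ Subgroup.centralizer ({y} : Set G) := by
  set C := Subgroup.centralizer ({y} : Set G)
  let T : Sylow p C := default
  have hT : Nat.card ((T : Subgroup C).map C.subtype) = p ^ (Nat.card G).factorization p := by
    rw [Subgroup.card_map_of_injective C.subtype_injective, T.card_eq_multiplicity, ← C.card_mul_index,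
      Nat.factorization_mul Nat.card_pos.ne' C.index_ne_zero_of_finite, Finsupp.add_apply,
      Nat.factorization_eq_zero_of_not_dvd hy, add_zero]
  exact ⟨Sylow.ofCard _ hT, by rw [Sylow.coe_ofCard]; exact Subgroup.map_subtype_le _⟩

/-- Centralizer indices of `q`-elements pass to quotients. -/
theorem quotient_index (N : Subgroup G) [N.Normal]
    (h : ∀ y : G, (∃ k : ℕ, orderOf y = q ^ k) → ¬ p ∣ (Subgroup.centralizer ({y} : Set G)).index)
    (y : G ⧸ N) (hy : ∃ k : ℕ, orderOf y = q ^ k) :
    ¬ p ∣ (Subgroup.centralizer ({y} : Set (G ⧸ N))).index := by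
  obtain ⟨k, hk⟩ := hy
  obtain ⟨g, rfl⟩ := QuotientGroup.mk_surjective y
  obtain ⟨z, hzk, hzy⟩ : ∃ z : G, (∃ k : ℕ, orderOf z = q ^ k) ∧ (z : G ⧸ N) = g := by
    set m := orderOf g / q ^ (orderOf g).factorization q
    have hn : orderOf g ≠ 0 := (orderOf_pos g).ne'
    have hm : (q ^ k).Coprime m := ((Nat.coprime_ordCompl Fact.out hn).pow_left k)
    obtain ⟨u, v, huv⟩ := Nat.isCoprime_iff_coprime.mpr hm
    refine ⟨g ^ (v * (m : ℤ)), ?_, ?_⟩
    · have : orderOf (g ^ (v * (m : ℤ))) ∣ q ^ (orderOf g).factorization q := by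
        refine orderOf_dvd_of_pow_eq_one ?_
        rw [← zpow_natCast, ← zpow_mul, mul_assoc, ← Nat.cast_mul, mul_comm m,
          Nat.ordProj_mul_ordCompl_eq_self, zpow_mul', zpow_natCast, pow_orderOf_eq_one, one_zpow]
      obtain ⟨j, -, hj⟩ := (Nat.dvd_prime_pow Fact.out).mp this
      exact ⟨j, hj⟩
    · rw [QuotientGroup.mk_zpow]
      conv_rhs => rw [← zpow_one (g : G ⧸ N), ← huv, zpow_add]
      rw [zpow_mul' _ u, zpow_natCast, ← hk, pow_orderOf_eq_one, one_zpow, one_mul]
  rw [← hzy]
  refine fun hd => h z hzk (hd.trans ?_)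
  have hle : (Subgroup.centralizer ({z} : Set G)).map (QuotientGroup.mk' N) ≤
      Subgroup.centralizer ({(z : G ⧸ N)} : Set (G ⧸ N)) := by
    rintro - ⟨c, hc, rfl⟩
    rw [Subgroup.mem_centralizer_singleton_iff]
    show (c : G ⧸ N) * z = z * c
    rw [← QuotientGroup.mk_mul, Subgroup.mem_centralizer_singleton_iff.mp hc, QuotientGroup.mk_mul]
  exact (Subgroup.index_dvd_of_le hle).trans
    (Subgroup.index_map_dvd _ (QuotientGroup.mk'_surjective N))

/-- A pair in the quotient by a normal `q`-subgroup lifts. -/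
theorem hasPair_of_quotient_pGroup (N : Subgroup G) [N.Normal] (hN : IsPGroup q N)
    (h : HasPair (G ⧸ N) p q) : HasPair G p q := by
  obtain ⟨P₁, Q₁, hPQ⟩ := h
  obtain ⟨P, hP⟩ := Sylow.mapSurjective_surjective (QuotientGroup.mk'_surjective N) p P₁
  obtain ⟨Q, hQ⟩ := Sylow.mapSurjective_surjective (QuotientGroup.mk'_surjective N) q Q₁
  refine ⟨P, Q, fun x hx => ?_⟩
  have h1 : (Q : Subgroup G).map (QuotientGroup.mk' N) = Q₁ := by rw [← hQ]; rfl
  have hNQ : N ≤ (Q : Subgroup G) := hN.le_sylow_of_normal Q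
  have h2 : (Q : Subgroup G) = (Q₁ : Subgroup (G ⧸ N)).comap (QuotientGroup.mk' N) := by
    rw [← h1, Subgroup.comap_map_eq, QuotientGroup.ker_mk', sup_eq_left.mpr hNQ]
  have hxQ : QuotientGroup.mk' N x ∈ (P₁ : Subgroup (G ⧸ N)) := by
    rw [← hP]; exact Subgroup.mem_map_of_mem _ hx
  have h3 := Subgroup.mem_normalizer_iff.mp (hPQ hxQ)
  rw [Subgroup.mem_normalizer_iff]
  intro y
  rw [h2, Subgroup.mem_comap, Subgroup.mem_comap, map_mul, map_mul, map_inv]
  exact h3 _

/-- A pair in the quotient by a normal `q'`-subgroup lifts. -/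
theorem hasPair_of_quotient_coprime (N : Subgroup G) [N.Normal] (hN : (Nat.card N).Coprime q)
    (hy : ∀ y : G, (∃ k : ℕ, orderOf y = q ^ k) → ¬ p ∣ (Subgroup.centralizer ({y} : Set G)).index)
    (h : HasPair (G ⧸ N) p q) : HasPair G p q := by
  classical
  obtain ⟨P₁, Q₁, hPQ⟩ := h
  obtain ⟨P, hP⟩ := Sylow.mapSurjective_surjective (QuotientGroup.mk'_surjective N) p P₁
  obtain ⟨Q, hQ⟩ := Sylow.mapSurjective_surjective (QuotientGroup.mk'_surjective N) q Q₁
  set M := (Q₁ : Subgroup (G ⧸ N)).comap (QuotientGroup.mk' N) with hM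
  have hMsup : M = (Q : Subgroup G) ⊔ N := by
    rw [hM, ← hQ]
    show ((Q : Subgroup G).map (QuotientGroup.mk' N)).comap (QuotientGroup.mk' N) = _
    rw [Subgroup.comap_map_eq, QuotientGroup.ker_mk']
  have hQM : (Q : Subgroup G) ≤ M := hMsup.symm ▸ le_sup_left
  set H := Subgroup.normalizer (M : Set G)
  have hPH : (P : Subgroup G) ≤ H := fun x hx => by
    have hxQ : QuotientGroup.mk' N x ∈ (P₁ : Subgroup (G ⧸ N)) := by
      rw [← hP]; exact Subgroup.mem_map_of_mem _ hx
    have h3 := Subgroup.mem_normalizer_iff.mp (hPQ hxQ)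
    show x ∈ Subgroup.normalizer (M : Set G)
    rw [Subgroup.mem_normalizer_iff]
    intro y
    rw [hM, Subgroup.mem_comap, Subgroup.mem_comap, map_mul, map_mul, map_inv]
    exact h3 _
  -- the Sylow subgroup of `N` centralized by `Q`
  obtain ⟨S, hS⟩ : ∃ S : Sylow p N, (S : Subgroup N).map N.subtype ≤
      Subgroup.centralizer ((Q : Subgroup G) : Set G) := by
    obtain ⟨i, hi⟩ := IsPGroup.iff_card.mp Q.2
    haveI : Group.IsNilpotent (Q : Subgroup G) := Q.2.isNilpotent
    refine exists_centralized_sylow Subgroup.le_normalizer_of_normal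
      (by rw [hi]; exact hN.symm.pow_left i) inferInstance fun a ha => ?_
    obtain ⟨j, hj⟩ : ∃ j, orderOf a = q ^ j := by
      obtain ⟨j, hj⟩ := IsPGroup.iff_orderOf.mp Q.2 ⟨a, ha⟩
      exact ⟨j, by simpa using hj⟩
    obtain ⟨S, hS⟩ := exists_sylow_le_centralizer (hy a ⟨j, hj⟩)
    have hsub : ¬ p ∣ (S : Subgroup G).relIndex N := fun hd => by
      have e1 := relIndex_mul_card_inf (S : Subgroup G) N
      have e2 := card_sup_mul_card_inf (K := N) (S := (S : Subgroup G)) Subgroup.le_normalizer_of_normal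
      rw [inf_comm N, ← e1] at e2
      have e3 : Nat.card ↥(N ⊔ (S : Subgroup G)) =
          (S : Subgroup G).relIndex N * Nat.card (S : Subgroup G) :=
        Nat.eq_of_mul_eq_mul_right (Nat.card_pos (α := ↥((S : Subgroup G) ⊓ N))) (by linarith)
      have e4 := Subgroup.card_subgroup_dvd_card (N ⊔ (S : Subgroup G))
      rw [e3, ← (S : Subgroup G).card_mul_index, mul_comm (Nat.card (S : Subgroup G))] at e4
      exact S.not_dvd_index (hd.trans (Nat.dvd_of_mul_dvd_mul_right Nat.card_pos e4))
    have hp2 : IsPGroup p ((S : Subgroup G).subgroupOf N) :=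
      S.2.comap_of_injective N.subtype N.subtype_injective
    refine ⟨hp2.toSylow hsub, ?_⟩
    show ((S : Subgroup G).subgroupOf N).map N.subtype ≤ _
    rw [Subgroup.subgroupOf_map_subtype]
    exact inf_le_left.trans hS
  set S' := (S : Subgroup N).map N.subtype
  have hS'N : S' ≤ N := Subgroup.map_subtype_le _
  set T := Subgroup.normalizer ((Q : Subgroup G) : Set G) ⊓ H
  have hQH : (Q : Subgroup G) ≤ H := hQM.trans Subgroup.le_normalizer
  have hNH : N ≤ H := (hMsup.symm ▸ le_sup_right : N ≤ M).trans Subgroup.le_normalizer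
  -- Frattini
  have hFr : H ≤ N ⊔ T := by
    intro x hx
    let Qx : Sylow q G := x • Q
    have hQxM : (Qx : Subgroup G) ≤ M := by
      rw [Sylow.coe_subgroup_smul]
      exact (Subgroup.map_mono hQM).trans
        (le_of_eq (conj_smul_eq_self_of_mem_normalizer hx))
    have hM2 : M ≤ (Q : Subgroup G) ⊔ N := hMsup.le
    obtain ⟨m, hm⟩ := MulAction.exists_smul_eq M (Q.subtype hQM) (Qx.subtype hQxM)
    have hmem : (m : G) ∈ ((Q : Subgroup G) ⊔ N) := hM2 m.2
    obtain ⟨u, hu, n, hn, hun⟩ : ∃ u ∈ N, ∃ n ∈ (Q : Subgroup G), u * n = (m : G) := by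
      rw [sup_comm, ← SetLike.mem_coe, Subgroup.normal_mul] at hmem
      exact hmem
    have hQx : MulAut.conj (m : G) • (Q : Subgroup G) = MulAut.conj x • (Q : Subgroup G) := by
      have h1 := congrArg (fun R : Sylow q M => (R : Subgroup M).map M.subtype) hm
      rw [map_subtype_conj_smul_sylow, Sylow.coe_subtype, Sylow.coe_subtype,
        Subgroup.map_subgroupOf_eq_of_le hQM, Subgroup.map_subgroupOf_eq_of_le hQxM,
        Sylow.coe_subgroup_smul] at h1
      exact h1
    have hxn : u⁻¹ * x ∈ Subgroup.normalizer ((Q : Subgroup G) : Set G) := by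
      rw [mem_normalizer_iff_conj_smul, map_mul, mul_smul, ← hQx, ← hun, map_mul, mul_smul,
        ← mul_smul (MulAut.conj u⁻¹), ← map_mul, inv_mul_cancel, map_one, one_smul]
      exact conj_smul_eq_of_mem hn
    have hxH : u⁻¹ * x ∈ H := H.mul_mem (H.inv_mem (hNH hu)) hx
    have hT : u⁻¹ * x ∈ T := Subgroup.mem_inf.mpr ⟨hxn, hxH⟩
    simpa using Subgroup.mul_mem_sup hu hT
  have hS'T : S' ≤ N ⊓ T := le_inf hS'N (le_inf (hS.trans (Subgroup.centralizer_le_normalizer _))
    (hS'N.trans hNH))
  have hcard : Nat.card ↥H = T.relIndex N * Nat.card T := by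
    have e1 := relIndex_mul_card_inf T N
    have e2 := card_sup_mul_card_inf (K := N) (S := T) Subgroup.le_normalizer_of_normal
    rw [le_antisymm (sup_le hNH inf_le_right) hFr, inf_comm N, ← e1] at e2
    exact Nat.eq_of_mul_eq_mul_right (Nat.card_pos (α := ↥(T ⊓ N))) (by linarith)
  have hTN : ¬ p ∣ T.relIndex N := fun hd => S.not_dvd_index (hd.trans (by
    have h1 : T.relIndex N ∣ S'.relIndex N :=
      Subgroup.relIndex_dvd_of_le_left _ (hS'T.trans inf_le_right)
    have h2 : S'.relIndex N = (S : Subgroup N).index := congrArg Subgroup.index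
      (show S'.subgroupOf N = (S : Subgroup N) from Subgroup.comap_map_eq_self_of_injective N.subtype_injective _)
    rwa [h2] at h1))
  have hdvd : p ^ (Nat.card G).factorization p ∣ Nat.card T := by
    have h1 : p ^ (Nat.card G).factorization p ∣ T.relIndex N * Nat.card T := by
      rw [← hcard, ← P.card_eq_multiplicity]
      exact Subgroup.card_dvd_of_le hPH
    exact ((((Fact.out : p.Prime).coprime_iff_not_dvd).mpr hTN).pow_left _).dvd_of_dvd_mul_left h1
  let R : Sylow p T := default
  have hR : Nat.card ((R : Subgroup T).map T.subtype) = p ^ (Nat.card G).factorization p := by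
    rw [Subgroup.card_map_of_injective T.subtype_injective, R.card_eq_multiplicity]
    refine congrArg (p ^ ·) (le_antisymm ?_ ?_)
    · exact (Nat.factorization_le_iff_dvd Nat.card_pos.ne' Nat.card_pos.ne').mpr
        (Subgroup.card_subgroup_dvd_card T) p
    · exact ((Fact.out : p.Prime).pow_dvd_iff_le_factorization Nat.card_pos.ne').mp hdvd
  exact ⟨Sylow.ofCard _ hR, Q, by
    rw [Sylow.coe_ofCard]; exact (Subgroup.map_subtype_le _).trans inf_le_left⟩

/-- The `q`-solvable case. -/
theorem hasPair_of_isPSolvable.{u} : ∀ (n : ℕ) (G : Type u) [Group G] [Finite G], Nat.card G ≤ n →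
    Cfsg.IsPSolvable q G →
    (∀ y : G, (∃ k : ℕ, orderOf y = q ^ k) → ¬ p ∣ (Subgroup.centralizer ({y} : Set G)).index) →
    HasPair G p q := by
  intro n
  induction n with
  | zero => intro G _ _ h; exact absurd h (Nat.card_pos (α := G)).ne'.bot_lt.not_ge
  | succ n ih =>
    intro G _ _ hn hsol hy
    rcases subsingleton_or_nontrivial G with hs | hnt
    · exact ⟨default, default, fun x hx => Subsingleton.elim (1 : G) x ▸ Subgroup.one_mem _⟩
    have hrec : ∀ N : Subgroup G, ∀ [N.Normal], N ≠ ⊥ → HasPair (G ⧸ N) p q := by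
      intro N _ hN
      refine ih (G ⧸ N) ?_ (PSolvable.isPSolvable_of_surjective _ (QuotientGroup.mk'_surjective N) hsol)
        (quotient_index N hy)
      have h1 := N.card_eq_card_quotient_mul_card_subgroup
      have h2 : 1 < Nat.card N := (Subgroup.one_lt_card_iff_ne_bot N).mpr hN
      have : 0 < Nat.card (G ⧸ N) := Nat.card_pos
      nlinarith
    by_cases hR : Cfsg.pPrimeCore q G = ⊥
    · haveI := Fitting.pCore_normal (G := G) q
      have hne : Cfsg.pCore q G ≠ ⊥ := fun he => by
        have h1 := PSolvable.centralizer_pCore_le hsol hR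
        rw [he, le_bot_iff, Subgroup.coe_bot] at h1
        obtain ⟨x, hx⟩ := exists_ne (1 : G)
        refine hx (Subgroup.mem_bot.mp (h1 ▸ ?_))
        rw [Subgroup.mem_centralizer_iff]
        rintro y rfl
        simp
      exact hasPair_of_quotient_pGroup _ (pCore_isPGroup q) (hrec _ hne)
    · haveI := Transfer.pPrimeCore_normal q G
      exact hasPair_of_quotient_coprime _ (Transfer.pPrimeCore_coprime q) hy (hrec _ hR)

end CfsgLib.SylowPairs
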