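import Cfsg.Agent.Lib.TI.FaithfulDegree
import Cfsg.Agent.Lib.Coprime.Generation
import Cfsg.Agent.Lib.ZJ.RealElements
import Cfsg.Agent.Lib.HSub.Fusion
import Cfsg.Agent.Lib.PSolvable.LengthTwo
import Cfsg.Agent.Lib.OddOmega.Basic

/-!
A subgroup generated by two conjugates of a `p`-subgroup of a `p`-soluble group.
-/

set_option autoImplicit false
set_option linter.style.haveILetI false

open Pointwise
open scoped commutatorElement

namespace CfsgLib.TwoConjugates

universe u

variable {G : Type u} [Group G]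

theorem normalizes_commutator_left {R A : Subgroup G} : R ≤ Subgroup.normalizer ((⁅R, A⁆ : Subgroup G) : Set G) := by
  have key : ∀ r ∈ R, ∀ z ∈ ⁅R, A⁆, r * z * r⁻¹ ∈ ⁅R, A⁆ := by
    intro r hr z hz
    induction hz using Subgroup.closure_induction with
    | mem y hy =>
      obtain ⟨s, hs, a, ha, rfl⟩ := hy
      have : r * ⁅s, a⁆ * r⁻¹ = ⁅r * s, a⁆ * ⁅r, a⁆⁻¹ := by
        simp only [commutatorElement_def]; group
      rw [this]
      exact mul_mem (Subgroup.commutator_mem_commutator (mul_mem hr hs) ha)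
        (inv_mem (Subgroup.commutator_mem_commutator hr ha))
    | one => rw [mul_one, mul_inv_cancel]; exact one_mem _
    | mul a b _ _ ha hb =>
      have : r * (a * b) * r⁻¹ = (r * a * r⁻¹) * (r * b * r⁻¹) := by group
      rw [this]; exact mul_mem ha hb
    | inv a _ ha =>
      have : r * a⁻¹ * r⁻¹ = (r * a * r⁻¹)⁻¹ := by group
      rw [this]; exact inv_mem ha
  intro r hr
  rw [Subgroup.mem_normalizer_iff]
  refine fun z => ⟨fun hz => key r hr z hz, fun hz => ?_⟩
  have := key r⁻¹ (inv_mem hr) _ hz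
  simpa [mul_assoc] using this

variable [Finite G]

/-- Inside a `p`-soluble group with trivial `p`-core. -/
theorem exists_core {p : ℕ} [hp : Fact p.Prime] (hsol : Cfsg.IsPSolvable p G)
    (hO : Cfsg.pCore p G = ⊥) (A : Subgroup G) [IsMulCommutative A] (hexp : ∀ a ∈ A, a ^ p = 1)
    (hne : A ≠ ⊥) :
    ∃ (Q : Subgroup G) (x : G), Q ≤ Cfsg.pPrimeCore p G ∧ x ∈ Q ∧
      A ≤ Subgroup.normalizer (Q : Set G) ∧ Q ≤ A ⊔ A.map (MulAut.conj x).toMonoidHom ∧
      (Subgroup.centralizer (Q : Set G)).relIndex A = p := by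
  haveI := Transfer.pPrimeCore_normal p G
  set K := Cfsg.pPrimeCore p G with hK
  have hAp : IsPGroup p A := fun a => ⟨1, Subtype.ext (by simpa using hexp a a.2)⟩
  have hcop : (Nat.card A).Coprime (Nat.card K) := by
    obtain ⟨n, hn⟩ := hAp.exists_card_eq
    rw [hn]
    exact ((Transfer.pPrimeCore_coprime p).symm).pow_left n
  have hKA : ¬ K ≤ Subgroup.centralizer (A : Set G) := fun h => hne (by
    have h1 : A ≤ K := (Subgroup.le_centralizer_iff.mp h).trans
      (TIDegree.centralizer_pPrimeCore_le hsol hO)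
    rw [← inf_eq_left.mpr h1]
    exact (Subgroup.inf_eq_bot_of_coprime hcop))
  have hAC : ∀ B ≤ A, A ≤ Subgroup.centralizer (B : Set G) := fun B hB a ha b hb =>
    congrArg Subtype.val (mul_comm' (⟨b, hB hb⟩ : A) ⟨a, ha⟩)
  obtain ⟨n, hn⟩ := hAp.exists_card_eq
  have hn0 : 1 ≤ n := by
    by_contra h
    have : n = 0 := by omega
    exact hne (Subgroup.card_eq_one.mp (by rw [hn, this, pow_zero]))
  -- a hyperplane with a centraliser not centralised by `A`
  obtain ⟨B, hBA, hBi, hBK⟩ : ∃ B ≤ A, B.relIndex A = p ∧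
      ¬ K ⊓ Subgroup.centralizer (B : Set G) ≤ Subgroup.centralizer (A : Set G) := by
    by_cases h2 : p ^ 2 ≤ Nat.card A
    · by_contra hall
      push Not at hall
      refine hKA (Coprime.le_of_hyperplane_centralizer_le inferInstance hexp h2
        Subgroup.le_normalizer_of_normal hcop fun B hB hle => ?_)
      have hdvd : B.relIndex A ∣ p ^ n := hn ▸ Subgroup.relIndex_dvd_card B A
      obtain ⟨i, -, hi⟩ := (Nat.dvd_prime_pow hp.out).mp hdvd
      rcases Nat.lt_or_ge i 2 with hi2 | hi2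
      · interval_cases i
        · rw [pow_zero, Subgroup.relIndex_eq_one] at hi
          rw [le_antisymm hB hi]
          exact inf_le_right
        · exact hall B hB (by rw [hi, pow_one])
      · have : p ^ 2 ≤ p := le_trans (Nat.pow_le_pow_right hp.out.pos hi2) (hi ▸ hle)
        nlinarith [hp.out.two_le]
    · refine ⟨⊥, bot_le, ?_, fun h => hKA fun k hk => h ⟨hk, fun b hb => ?_⟩⟩
      · rw [Subgroup.relIndex_bot_left, hn]
        have hn1 : n = 1 := by
          by_contra hne1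
          exact h2 (hn ▸ Nat.pow_le_pow_right hp.out.pos (by omega))
        rw [hn1, pow_one]
      · rw [Subgroup.coe_bot, Set.mem_singleton_iff] at hb
        rw [hb, one_mul, mul_one]
  -- a minimal invariant subgroup not centralised by `A`
  obtain ⟨Q, -, hQ⟩ := Finite.exists_le_minimal
    (p := fun Q : Subgroup G => Q ≤ K ⊓ Subgroup.centralizer (B : Set G) ∧
      A ≤ Subgroup.normalizer (Q : Set G) ∧ ¬ Q ≤ Subgroup.centralizer (A : Set G))
    (a := K ⊓ Subgroup.centralizer (B : Set G))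
    ⟨le_rfl, Coprime.le_normalizer_inf_of_le Subgroup.le_normalizer_of_normal
      ((hAC B hBA).trans Subgroup.le_normalizer), hBK⟩
  obtain ⟨hQK, hAQ, hQA⟩ := hQ.prop
  have hQK' : Q ≤ K := fun q hq => (hQK hq).1
  have hQC : Q ≤ Subgroup.centralizer (B : Set G) := fun q hq => (hQK hq).2
  have hcopQ : (Nat.card A).Coprime (Nat.card Q) :=
    hcop.coprime_dvd_right (Subgroup.card_dvd_of_le hQK')
  obtain ⟨x, hx, a, ha, hxa⟩ : ∃ x ∈ Q, ∃ a ∈ A, ⁅x, a⁆ ∉ Subgroup.centralizer (A : Set G) := by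
    by_contra h
    push Not at h
    have h1 : ⁅Q, A⁆ ≤ Subgroup.centralizer (A : Set G) := Subgroup.commutator_le.mpr h
    have h2 : ⁅Q, A⁆ = ⊥ := by
      rw [← Coprime.commutator_commutator_eq hAQ hcopQ
        (Or.inl (Coprime.isSolvable_of_isMulCommutative A))]
      exact Subgroup.commutator_eq_bot_iff_le_centralizer.mpr h1
    exact hQA (Subgroup.commutator_eq_bot_iff_le_centralizer.mp h2)
  set L := A ⊔ A.map (MulAut.conj x).toMonoidHom with hL
  have hxaQ : ⁅x, a⁆ ∈ Q :=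
    Coprime.commutator_le_left_of_le_normalizer hAQ (Subgroup.commutator_mem_commutator hx ha)
  have hxaL : ⁅x, a⁆ ∈ L := by
    rw [commutatorElement_def]
    exact mul_mem (Subgroup.mem_sup_right ⟨a, ha, by simp [MulAut.conj_apply]⟩)
      (Subgroup.mem_sup_left (inv_mem ha))
  have hQL : Q ≤ L := by
    have h1 : Q ≤ L ⊓ Q := hQ.le_of_le ⟨inf_le_right.trans hQK,
      Coprime.le_normalizer_inf_of_le ((le_sup_left : A ≤ L).trans Subgroup.le_normalizer) hAQ,
      fun h => hxa (h ⟨hxaL, hxaQ⟩)⟩ inf_le_right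
    exact h1.trans inf_le_left
  refine ⟨Q, x, hQK', hx, hAQ, hQL, ?_⟩
  have hle : B ≤ A ⊓ Subgroup.centralizer (Q : Set G) :=
    le_inf hBA (Subgroup.le_centralizer_iff.mp hQC)
  have hdvd : (A ⊓ Subgroup.centralizer (Q : Set G)).relIndex A ∣ p :=
    hBi ▸ Subgroup.relIndex_dvd_of_le_left A hle
  rw [← Subgroup.inf_relIndex_left]
  rcases hp.out.eq_one_or_self_of_dvd _ hdvd with h | h
  · rw [Subgroup.relIndex_eq_one] at h
    exact absurd (Subgroup.le_centralizer_iff.mp (h.trans inf_le_right)) hQA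
  · exact h

/-- The statement for the ambient group. -/
theorem exists_two_conjugates {p : ℕ} [hp : Fact p.Prime] (hM : Cfsg.IsPSolvable p G)
    (A : Subgroup G) (hA : IsPGroup p A)
    (hΦ : (frattini A).map A.subtype ≤ Cfsg.pCore p G) (hnot : ¬ A ≤ Cfsg.pCore p G) :
    haveI := Fitting.pCore_normal (G := G) p
    ∃ x : G, x ∈ (Cfsg.pPrimeCore p (G ⧸ Cfsg.pCore p G)).comap (QuotientGroup.mk' (Cfsg.pCore p G)) ∧
      ∀ L : Subgroup G, L = A ⊔ A.map (MulAut.conj x).toMonoidHom →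
        x ∈ (Cfsg.pResidual p L).map L.subtype ∧
        (Cfsg.pResidual p L).map L.subtype ≤
          (Cfsg.pPrimeCore p (G ⧸ Cfsg.pCore p G)).comap (QuotientGroup.mk' (Cfsg.pCore p G)) ∧
        ⁅(Cfsg.pResidual p L).map L.subtype, A⁆ = (Cfsg.pResidual p L).map L.subtype ∧
        (A ⊓ (Cfsg.pCore p L).map L.subtype).relIndex A = p ∧
        ⁅A ⊓ (Cfsg.pCore p L).map L.subtype, L⁆ ≤ Cfsg.pCore p G := by
  haveI := Fitting.pCore_normal (G := G) p
  show ∃ x : G, _
  set π := QuotientGroup.mk' (Cfsg.pCore p G) with hπ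
  have hker : IsPGroup p π.ker := by rw [hπ, QuotientGroup.ker_mk']; exact Fitting.pCore_isPGroup p
  have hsol := PSolvable.LengthTwo.isPSolvable_quotient hM (Cfsg.pCore p G)
  have hO : Cfsg.pCore p (G ⧸ Cfsg.pCore p G) = ⊥ := le_bot_iff.mp ZJ.pCore_quotient_pCore_le_bot
  have hπ0 : ∀ a : A, (a : A) ∈ frattini A → π (a : G) = 1 := fun a ha =>
    (QuotientGroup.eq_one_iff _).mpr (hΦ (Subgroup.mem_map_of_mem _ ha))
  haveI : IsMulCommutative (A.map π) := by
    refine .of_setLike_mul_comm ?_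
    rintro _ ⟨a, ha, rfl⟩ _ ⟨b, hb, rfl⟩
    have h1 := hπ0 ⁅(⟨a, ha⟩ : A), (⟨b, hb⟩ : A)⁆
      (HSub.commutator_le_frattini hA (Subgroup.commutator_mem_commutator trivial trivial))
    have h2 : ⁅π a, π b⁆ = 1 := by rw [← map_commutatorElement]; exact h1
    exact commutatorElement_eq_one_iff_mul_comm.mp h2
  have hexp : ∀ a ∈ A.map π, a ^ p = 1 := by
    rintro _ ⟨a, ha, rfl⟩
    rw [← map_pow]
    exact hπ0 ⟨a ^ p, pow_mem ha p⟩ (OddOmega.pow_mem_frattini hA ⟨a, ha⟩)
  have hne : A.map π ≠ ⊥ := fun h => hnot (fun a ha => by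
    have : π a ∈ A.map π := Subgroup.mem_map_of_mem π ha
    rw [h, Subgroup.mem_bot] at this
    exact (QuotientGroup.eq_one_iff a).mp this)
  obtain ⟨Q, xb, hQK, hxQ, hAQ, hQL, hidx⟩ := exists_core hsol hO (A.map π) hexp hne
  haveI := Transfer.pPrimeCore_normal p (G ⧸ Cfsg.pCore p G)
  set K := Cfsg.pPrimeCore p (G ⧸ Cfsg.pCore p G) with hK
  have hQcop : (Nat.card Q).Coprime p :=
    (Transfer.pPrimeCore_coprime p).coprime_dvd_left (Subgroup.card_dvd_of_le hQK)
  -- choose the preimage with the smallest subgroup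
  obtain ⟨x₀, hx₀⟩ := QuotientGroup.mk'_surjective (Cfsg.pCore p G) xb
  obtain ⟨x₁, hx₁, hmin⟩ := Set.exists_min_image {y : G | π y = xb}
    (fun y => Nat.card (A ⊔ A.map (MulAut.conj y).toMonoidHom : Subgroup G)) (Set.toFinite _)
    ⟨x₀, hx₀⟩
  have hmap : ∀ y, π y = xb → (A ⊔ A.map (MulAut.conj y).toMonoidHom).map π =
      A.map π ⊔ (A.map π).map (MulAut.conj xb).toMonoidHom := by
    intro y hy
    rw [Subgroup.map_sup, Subgroup.map_map, Subgroup.map_map, ← hy]
    congr 2
  set L₁ := A ⊔ A.map (MulAut.conj x₁).toMonoidHom with hL₁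
  have hQres : Q ≤ ((Cfsg.pResidual p L₁).map L₁.subtype).map π := by
    intro q hq
    have hqL : q ∈ L₁.map π := by rw [hmap x₁ hx₁]; exact hQL hq
    have h1 : (⟨q, hqL⟩ : L₁.map π) ∈ Cfsg.pResidual p (L₁.map π) := by
      refine Transfer.mem_pResidual_of_coprime ?_
      rw [Subgroup.orderOf_mk]
      exact hQcop.coprime_dvd_left (Subgroup.orderOf_dvd_natCard Q hq)
    rw [← Transfer.map_pResidual (π.subgroupMap L₁) (π.subgroupMap_surjective L₁)] at h1
    obtain ⟨r, hr, hrq⟩ := h1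
    exact ⟨r, Subgroup.mem_map_of_mem _ hr, congrArg Subtype.val hrq⟩
  obtain ⟨x, hxR, hxπ⟩ := hQres hxQ
  have hxL : x ∈ L₁ := Subgroup.map_subtype_le _ hxR
  have hLeq : A ⊔ A.map (MulAut.conj x).toMonoidHom = L₁ := by
    refine Subgroup.eq_of_le_of_card_ge (sup_le le_sup_left ?_) (hmin x hxπ)
    rintro _ ⟨a, ha, rfl⟩
    exact mul_mem (mul_mem hxL (Subgroup.mem_sup_left ha)) (inv_mem hxL)
  refine ⟨x, by rw [Subgroup.mem_comap, hxπ]; exact hQK hxQ, ?_⟩
  rintro L rfl
  rw [hLeq]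
  clear hmin
  -- the image of `L` lies in `Q A`
  set T := Q ⊔ A.map π with hT
  have hLT : L₁.map π ≤ T := by
    rw [hmap x₁ hx₁]
    refine sup_le le_sup_right ?_
    rintro _ ⟨a, ha, rfl⟩
    exact mul_mem (mul_mem (Subgroup.mem_sup_left hxQ) (Subgroup.mem_sup_right ha))
      (inv_mem (Subgroup.mem_sup_left hxQ))
  have hTC : ∀ c ∈ A.map π, c ∈ Subgroup.centralizer (Q : Set (G ⧸ Cfsg.pCore p G)) →
      T ≤ Subgroup.centralizer ({c} : Set (G ⧸ Cfsg.pCore p G)) := fun c hc hcQ =>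
    sup_le (fun q hq => Subgroup.mem_centralizer_singleton_iff.mpr (hcQ q hq))
      (fun a ha => Subgroup.mem_centralizer_singleton_iff.mpr
        (congrArg Subtype.val (mul_comm' (⟨a, ha⟩ : A.map π) ⟨c, hc⟩)))
  set R := (Cfsg.pResidual p L₁).map L₁.subtype with hR
  haveI := Transfer.pResidual_normal p L₁
  haveI := Fitting.pCore_normal (G := L₁) p
  have hRn : L₁ ≤ Subgroup.normalizer (R : Set G) := by
    intro l hl
    rw [Subgroup.mem_normalizer_iff]
    intro z
    constructor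
    · rintro ⟨w, hw, rfl⟩
      exact ⟨_, (inferInstance : (Cfsg.pResidual p L₁).Normal).conj_mem w hw ⟨l, hl⟩, rfl⟩
    · rintro ⟨w, hw, hwz⟩
      refine ⟨_, (inferInstance : (Cfsg.pResidual p L₁).Normal).conj_mem w hw ⟨l⁻¹, inv_mem hl⟩, ?_⟩
      show l⁻¹ * (w : G) * (l⁻¹)⁻¹ = z
      rw [show (w : G) = l * z * l⁻¹ from hwz]
      group
  have hRK : R ≤ K.comap π := by
    rw [hR, Subgroup.map_le_iff_le_comap, Cfsg.pResidual, Subgroup.closure_le]
    intro g hg
    show π (g : G) ∈ K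
    have h1 : π (g : G) ∈ K ⊔ A.map π :=
      (sup_le_sup_right hQK _ : T ≤ K ⊔ A.map π) (hLT (Subgroup.mem_map_of_mem π g.2))
    rw [← QuotientGroup.eq_one_iff, ← orderOf_eq_one_iff]
    have hp' : IsPGroup p ((A.map π).map (QuotientGroup.mk' K)) := (hA.map π).map _
    have hmem : QuotientGroup.mk' K (π (g : G)) ∈ (A.map π).map (QuotientGroup.mk' K) := by
      have := Subgroup.mem_map_of_mem (QuotientGroup.mk' K) h1
      rwa [Subgroup.map_sup, QuotientGroup.map_mk'_self, bot_sup_eq] at this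
    obtain ⟨k, hk⟩ := hp' ⟨_, hmem⟩
    have h2 : orderOf (QuotientGroup.mk' K (π (g : G))) ∣ p ^ k :=
      orderOf_dvd_of_pow_eq_one (congrArg Subtype.val hk)
    have h3 : (orderOf (QuotientGroup.mk' K (π (g : G)))).Coprime p :=
      Nat.Coprime.coprime_dvd_left
        ((orderOf_map_dvd _ _).trans ((orderOf_map_dvd π _).trans (by rw [Subgroup.orderOf_coe]))) hg
    exact Nat.eq_one_of_dvd_coprimes (h3.pow_right k) dvd_rfl h2
  have hRA : ⁅R, A⁆ = R := by
    have hAn : A ≤ Subgroup.normalizer (R : Set G) := (le_sup_left : A ≤ L₁).trans hRn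
    refine le_antisymm (Coprime.commutator_le_left_of_le_normalizer hAn) ?_
    set N := ⁅R, A⁆ with hN
    have hAN : A ≤ Subgroup.normalizer (N : Set G) :=
      Coprime.le_normalizer_commutator hAn Subgroup.le_normalizer
    have hNL : N ≤ L₁ :=
      (Coprime.commutator_le_left_of_le_normalizer hAn).trans (Subgroup.map_subtype_le _)
    have hL1 : L₁ ≤ N ⊔ A := by
      conv_lhs => rw [← hLeq]
      refine sup_le le_sup_right ?_
      rintro _ ⟨a, ha, rfl⟩
      have : (MulAut.conj x).toMonoidHom a = ⁅x, a⁆ * a := by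
        simp [commutatorElement_def, MulAut.conj_apply]
      rw [this]
      exact mul_mem (Subgroup.mem_sup_left (Subgroup.commutator_mem_commutator hxR ha))
        (Subgroup.mem_sup_right ha)
    have hLN : L₁ ≤ Subgroup.normalizer (N : Set G) :=
      hL1.trans (sup_le Subgroup.le_normalizer hAN)
    haveI : (N.subgroupOf L₁).Normal := Subgroup.normal_subgroupOf_of_le_normalizer hLN
    have hq : IsPGroup p (L₁ ⧸ N.subgroupOf L₁) := by
      intro y
      induction y using QuotientGroup.induction_on with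
      | H l =>
        have hl : (l : G) ∈ N ⊔ A := hL1 l.2
        rw [← SetLike.mem_coe, Subgroup.coe_mul_of_right_le_normalizer_left N A hAN] at hl
        obtain ⟨u, hu, a, ha, hua⟩ := hl
        obtain ⟨k, hk⟩ := hA ⟨a, ha⟩
        refine ⟨k, ?_⟩
        have h1 : (QuotientGroup.mk l : L₁ ⧸ N.subgroupOf L₁) =
            QuotientGroup.mk (⟨a, Subgroup.mem_sup_left ha⟩ : L₁) := by
          rw [QuotientGroup.eq_iff_div_mem, Subgroup.mem_subgroupOf]
          show (l : G) / a ∈ N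
          rw [← (hua : u * a = (l : G)), mul_div_cancel_right]
          exact hu
        rw [h1, ← QuotientGroup.mk_pow, QuotientGroup.eq_one_iff, Subgroup.mem_subgroupOf,
          SubmonoidClass.coe_pow]
        show a ^ p ^ k ∈ N
        have hk' : a ^ p ^ k = 1 := by simpa using congrArg Subtype.val hk
        rw [hk']
        exact one_mem N
    rw [hR, Subgroup.map_le_iff_le_comap]
    exact Transfer.pResidual_le_of_isPGroup_quotient (N.subgroupOf L₁) hq
  -- the `p`-core of `L`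
  have hcore : A ⊓ (Cfsg.pCore p L₁).map L₁.subtype =
      A ⊓ (Subgroup.centralizer (Q : Set (G ⧸ Cfsg.pCore p G))).comap π := by
    refine le_antisymm ?_ ?_
    · intro y hy
      obtain ⟨hyA, hyO⟩ := Subgroup.mem_inf.mp hy
      refine ⟨hyA, ?_⟩
      intro q hq
      obtain ⟨l, hlR, hlq⟩ := hQres hq
      have hlL : l ∈ L₁ := Subgroup.map_subtype_le _ hlR
      have hcomO : ⁅y, l⁆ ∈ (Cfsg.pCore p L₁).map L₁.subtype := by
        obtain ⟨w, hw, hwy⟩ := hyO
        refine ⟨⁅w, (⟨l, hlL⟩ : L₁)⁆, ?_, by rw [map_commutatorElement, hwy]; rfl⟩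
        rw [commutatorElement_def, mul_assoc, mul_assoc]
        refine mul_mem hw ?_
        rw [← mul_assoc]
        exact (inferInstance : (Cfsg.pCore p L₁).Normal).conj_mem _ (inv_mem hw) _
      have hQ1 : π ⁅y, l⁆ ∈ Q := by
        rw [map_commutatorElement, hlq, commutatorElement_def]
        exact mul_mem ((Subgroup.mem_normalizer_iff.mp (hAQ (Subgroup.mem_map_of_mem π hyA)) q).mp hq)
          (inv_mem hq)
      obtain ⟨k, hk⟩ := ((Fitting.pCore_isPGroup (G := L₁) p).map L₁.subtype).map π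
        ⟨π ⁅y, l⁆, Subgroup.mem_map_of_mem π hcomO⟩
      have h2 : orderOf (π ⁅y, l⁆) = 1 := Nat.eq_one_of_dvd_coprimes (hQcop.pow_right k)
        (Subgroup.orderOf_dvd_natCard Q hQ1) (orderOf_dvd_of_pow_eq_one (congrArg Subtype.val hk))
      rw [orderOf_eq_one_iff, map_commutatorElement, hlq,
        commutatorElement_eq_one_iff_mul_comm] at h2
      exact h2.symm
    · intro y hy
      obtain ⟨hyA, hyC⟩ := Subgroup.mem_inf.mp hy
      refine ⟨hyA, ⟨⟨y, Subgroup.mem_sup_left hyA⟩, ?_, rfl⟩⟩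
      let D : Subgroup L₁ :=
        (A.map π ⊓ Subgroup.centralizer (Q : Set (G ⧸ Cfsg.pCore p G))).comap (π.comp L₁.subtype)
      have hDn : D.Normal := ⟨fun d hd l => by
        have h1 := hTC _ hd.1 hd.2 (hLT (Subgroup.mem_map_of_mem π l.2))
        rw [Subgroup.mem_centralizer_singleton_iff, MonoidHom.comp_apply, Subgroup.coe_subtype] at h1
        show π ((l * d * l⁻¹ : L₁) : G) ∈
          A.map π ⊓ Subgroup.centralizer (Q : Set (G ⧸ Cfsg.pCore p G))
        rw [Subgroup.coe_mul, Subgroup.coe_mul, map_mul, map_mul, h1, mul_assoc, Subgroup.coe_inv,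
          ← map_mul, mul_inv_cancel, map_one, mul_one]
        exact hd⟩
      have hDp : IsPGroup p D := by
        refine ((hA.map π).to_le inf_le_left).comap_of_ker_isPGroup _ ?_
        rintro ⟨z, hz⟩
        obtain ⟨k, hk⟩ := hker ⟨(z : G), hz⟩
        exact ⟨k, Subtype.ext (Subtype.ext (by simpa using congrArg Subtype.val hk))⟩
      exact Fitting.le_pCore hDn hDp ⟨Subgroup.mem_map_of_mem π hyA, hyC⟩
  refine ⟨hxR, hRK, hRA, ?_, ?_⟩
  · rw [hcore, Subgroup.inf_relIndex_left, Subgroup.relIndex_comap, hidx]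
  · rw [hcore, Subgroup.commutator_le]
    rintro y ⟨hyA, hyC⟩ l hl
    rw [← QuotientGroup.eq_one_iff]
    show π ⁅y, l⁆ = 1
    rw [map_commutatorElement, commutatorElement_eq_one_iff_mul_comm]
    exact (Subgroup.mem_centralizer_singleton_iff.mp
      (hTC _ (Subgroup.mem_map_of_mem π hyA) hyC (hLT (Subgroup.mem_map_of_mem π hl)))).symm

end CfsgLib.TwoConjugates
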