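import Cfsg.Agent.Lib.PSolvable.TwoPrimesSylow
import Cfsg.Agent.Lib.Coprime.Generation

/-!
# `p'`-degree characters of degree prime to `q` in groups without a normal `p'`-subgroup
-/

set_option autoImplicit false
set_option linter.unusedSectionVars false
set_option linter.style.haveILetI false

namespace CfsgLib.TwoPrimes

open Cfsg CfsgLib.Char CfsgLib.Char.Glauberman
open scoped Pointwise commutatorElement CfsgLib.Char

variable {p q : ℕ} [hp : Fact p.Prime] [hq : Fact q.Prime]

theorem not_dvd_card (hpq : p ≠ q) :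
    ∀ {G : Type*} [Group G] [Finite G], IsPSolvable p G → IsPSolvable q G →
      (∀ N : Subgroup G, N.Normal → (Nat.card N).Coprime p → N = ⊥) →
      (∀ (χ : IrrCharacter G) (d : ℕ), (χ : G → ℂ) 1 = d → ¬ p ∣ d → ¬ q ∣ d) →
      ¬ q ∣ Nat.card G := by
  intro G _ _
  induction hn : Nat.card G using Nat.strong_induction_on generalizing G with
  | _ n ih =>
  intro hPs hQs hcore hdeg hdvd
  classical
  haveI := Fintype.ofFinite G
  haveI : Nontrivial G := by
    rw [← not_subsingleton_iff_nontrivial]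
    intro h
    have : Nat.card G = 1 := Nat.card_eq_one_iff_unique.mpr ⟨h, ⟨1⟩⟩
    rw [← hn, this] at hdvd
    exact hq.out.one_lt.ne' (Nat.dvd_one.mp hdvd)
  -- a minimal normal subgroup is an abelian `p`-group
  obtain ⟨U₀, hU₀n, hU₀1, hU₀'⟩ := exists_normal_pGroup_or_coprime (p := p) hPs
  have hU₀p : IsPGroup p U₀ := hU₀'.resolve_right fun h => hU₀1 (hcore _ hU₀n h)
  obtain ⟨U, ⟨hUn, hU1, hUp⟩, hUmin⟩ := Set.Finite.exists_minimal
    (Set.toFinite {N : Subgroup G | N.Normal ∧ N ≠ ⊥ ∧ IsPGroup p N}) ⟨U₀, hU₀n, hU₀1, hU₀p⟩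
  haveI := hUn
  haveI hUnil := hUp.isNilpotent
  have hUab : ∀ a ∈ U, ∀ b ∈ U, a * b = b * a := by
    have hlt := CfsgLib.Coprime.commutator_lt_of_isNilpotent (X := U) (U := U) (P := U) le_rfl le_rfl
      Subgroup.le_normalizer hU1
    have h0 : ⁅U, U⁆ = ⊥ := by
      by_contra h
      exact hlt.not_ge (hUmin ⟨inferInstance, h, hUp.to_le hlt.le⟩ hlt.le)
    intro a ha b hb
    exact commutatorElement_eq_one_iff_mul_comm.mp
      (Subgroup.mem_bot.mp (h0 ▸ Subgroup.commutator_mem_commutator ha hb))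
  haveI : IsMulCommutative U := ⟨⟨fun a b => Subtype.ext (hUab a a.2 b b.2)⟩⟩
  -- the preimage `M` of the core of `G ⧸ U`; induction
  set fU := QuotientGroup.mk' U with hfU
  have hfUs : Function.Surjective fU := QuotientGroup.mk'_surjective U
  haveI := Transfer.pPrimeCore_normal p (G ⧸ U)
  set L := pPrimeCore p (G ⧸ U) with hL
  set M := L.comap fU with hM
  haveI hMn : M.Normal := (inferInstance : L.Normal).comap _
  have hUM : U ≤ M := (QuotientGroup.ker_mk' U).ge.trans (Subgroup.ker_le_comap _ _)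
  have hcardU : 1 < Nat.card U := Finite.one_lt_card_iff_nontrivial.mpr
    ((Subgroup.nontrivial_iff_ne_bot U).mpr hU1)
  have hML : ¬ q ∣ M.index := by
    rw [hM, Subgroup.index_comap_of_surjective _ hfUs, Subgroup.index_eq_card]
    set f₂ := QuotientGroup.mk' L with hf₂
    have hf₂s : Function.Surjective f₂ := QuotientGroup.mk'_surjective L
    have hlt : Nat.card ((G ⧸ U) ⧸ L) < n := by
      refine lt_of_le_of_lt (Nat.card_le_card_of_surjective _ hf₂s) ?_
      rw [← hn, Subgroup.card_eq_card_quotient_mul_card_subgroup U]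
      exact lt_mul_of_one_lt_right Nat.card_pos hcardU
    refine ih _ hlt rfl (PSolvable.isPSolvable_of_surjective _ hf₂s
      (PSolvable.isPSolvable_of_surjective _ hfUs hPs)) (PSolvable.isPSolvable_of_surjective _ hf₂s
      (PSolvable.isPSolvable_of_surjective _ hfUs hQs)) (fun N hN hc => ?_) fun χ d hd hpd => ?_
    · have h1 := PSolvable.pPrimeCore_eq_bot_of_ker hf₂s (QuotientGroup.ker_mk' L)
      exact le_bot_iff.mp (h1 ▸ Transfer.le_pPrimeCore hN hc)
    · refine hdeg ⟨(χ : (G ⧸ U) ⧸ L → ℂ) ∘ (f₂.comp fU),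
        Blocks.isIrrCharacter_comp_of_surjective χ.2 _ (hf₂s.comp hfUs)⟩ d ?_ hpd
      simp only [Function.comp_apply, map_one]
      exact hd
  -- a complement `A` of `U` in `M`
  have hcM : Nat.card M = Nat.card U * Nat.card L := by
    rw [hM, PSolvable.card_comap_of_surjective hfUs, QuotientGroup.ker_mk']
  obtain ⟨a, ha⟩ := IsPGroup.iff_card.mp hUp
  have hULc : (Nat.card U).Coprime (Nat.card L) := by
    rw [ha]; exact (Transfer.pPrimeCore_coprime p).symm.pow_left a
  have hrel : U.relIndex M = Nat.card L := by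
    have h1 := Subgroup.relIndex_mul_relIndex ⊥ U M bot_le hUM
    rw [Subgroup.relIndex_bot_left, Subgroup.relIndex_bot_left, hcM] at h1
    exact Nat.eq_of_mul_eq_mul_left Nat.card_pos h1
  obtain ⟨A, hAM, hAsup, hAinf, hAc⟩ := CfsgLib.Coprime.exists_complement_of_coprime (N := U) (S := M)
    Subgroup.le_normalizer_of_normal (by rw [inf_eq_left.mpr hUM, hrel]; exact hULc)
  rw [inf_eq_left.mpr hUM] at hAsup hAinf
  rw [hrel] at hAc
  have hUAc : (Nat.card U).Coprime (Nat.card A) := hAc ▸ hULc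
  have hqA : q ∣ Nat.card A := by
    rw [hAc]
    have h1 : q ∣ Nat.card U * Nat.card L * M.index := by rwa [← hcM, M.card_mul_index, hn]
    refine ((hq.out.dvd_mul.mp h1).resolve_right hML |> hq.out.dvd_mul.mp).resolve_left fun h => ?_
    rw [ha] at h
    exact hpq ((Nat.prime_dvd_prime_iff_eq hq.out hp.out).mp (hq.out.dvd_of_dvd_pow h)).symm
  have hA1 : A ≠ ⊥ := fun e => hq.out.one_lt.ne' (Nat.dvd_one.mp (by
    rwa [e, Subgroup.card_bot] at hqA))
  have hAp : (Nat.card A).Coprime p := hAc ▸ Transfer.pPrimeCore_coprime p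
  have hUs : Group.IsSolvable U := inferInstance
  set H := Subgroup.normalizer (A : Set G) with hH
  have hUH : U ⊔ H = ⊤ := by
    refine eq_top_iff.mpr fun g _ => ?_
    have hc2 : Nat.card (MulAut.conj g • A : Subgroup G) = Nat.card A :=
      CfsgLib.Coprime.card_conj_smul _ _
    have he : U ⊔ A = U ⊔ MulAut.conj g • A := by
      rw [hAsup]
      conv_lhs => rw [← Subgroup.Normal.conj_smul_eq_self g M, ← hAsup, Subgroup.smul_sup,
        Subgroup.Normal.conj_smul_eq_self g U]
    obtain ⟨x, hx, hxe⟩ := CfsgLib.Coprime.exists_conj_of_coprime (N := U) (H := A)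
      (K := MulAut.conj g • A) Subgroup.le_normalizer_of_normal hUAc
      (by rw [hc2]; exact hUAc) he (Or.inl hUs)
    have hmem : x⁻¹ * g ∈ H := CfsgLib.Coprime.mem_normalizer_iff_conj_smul.mpr (by
      rw [map_mul, mul_smul, ← hxe, ← mul_smul, ← map_mul, inv_mul_cancel, map_one, one_smul])
    have := Subgroup.mul_mem_sup hx hmem
    rwa [mul_inv_cancel_left] at this
  have hUHinf : U ⊓ H = ⊥ := by
    set C := U ⊓ H with hC
    have hCcent : C ≤ Subgroup.centralizer (A : Set G) := fun c hc =>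
      CfsgLib.Coprime.commute_of_mem_normalizer Subgroup.le_normalizer_of_normal hAinf hc.1 hc.2
    have hCn : C.Normal := by
      rw [← Subgroup.normalizer_eq_top_iff, eq_top_iff, ← hUH]
      refine sup_le ?_ (CfsgLib.Coprime.le_normalizer_inf_of_le Subgroup.le_normalizer_of_normal
        Subgroup.le_normalizer)
      exact fun u hu => Subgroup.centralizer_le_normalizer _
        fun c hc => hUab c hc.1 u hu
    by_contra hne
    have hCU : C = U := le_antisymm inf_le_left (hUmin ⟨hCn, hne, hUp.to_le inf_le_left⟩ inf_le_left)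
    refine hA1 (hcore A ?_ hAp)
    rw [← Subgroup.normalizer_eq_top_iff, eq_top_iff, ← hUH]
    refine sup_le (fun u hu => ?_) le_rfl
    exact (hCU.ge hu).2
  -- the projection onto `H`
  set j : H →* G ⧸ U := fU.comp H.subtype with hj
  have hjb : Function.Bijective j := by
    constructor
    · rw [← MonoidHom.ker_eq_bot_iff, eq_bot_iff]
      intro y hy
      rw [MonoidHom.mem_ker, hj, MonoidHom.comp_apply, hfU, QuotientGroup.mk'_apply,
        QuotientGroup.eq_one_iff] at hy
      have : (y : G) ∈ U ⊓ H := ⟨hy, y.2⟩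
      rw [hUHinf, Subgroup.mem_bot] at this
      exact Subgroup.mem_bot.mpr (Subtype.ext this)
    · intro z
      obtain ⟨g, rfl⟩ := hfUs z
      obtain ⟨u, hu, y, hy, rfl⟩ :=
        Subgroup.mem_sup_of_normal_left.mp (hUH.ge (Subgroup.mem_top g))
      exact ⟨⟨y, hy⟩, by
        rw [map_mul, show fU u = 1 from (QuotientGroup.eq_one_iff u).mpr hu, one_mul]; rfl⟩
  set π : G →* H := (MulEquiv.ofBijective j hjb).symm.toMonoidHom.comp fU with hπ
  have hπs : Function.Surjective π := ((MulEquiv.ofBijective j hjb).symm.surjective).comp hfUs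
  have hπU : ∀ g : G, g * ((π g : G))⁻¹ ∈ U := fun g => by
    have h1 : fU (π g : G) = fU g := (MulEquiv.ofBijective j hjb).apply_symm_apply (fU g)
    refine (QuotientGroup.eq_one_iff _).mp ?_
    show fU (g * ((π g : G))⁻¹) = 1
    rw [map_mul, map_inv, h1, mul_inv_cancel]
  have hπH : ∀ y : H, π (y : G) = y := fun y => (MulEquiv.ofBijective j hjb).symm_apply_apply y
  have hπu : ∀ u ∈ U, π u = 1 := fun u hu => by
    show (MulEquiv.ofBijective j hjb).symm (fU u) = 1
    rw [show fU u = 1 from (QuotientGroup.eq_one_iff u).mpr hu, map_one]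
  -- `A` inside `H`
  set AH := A.subgroupOf H with hAH
  haveI : AH.Normal := Subgroup.normal_subgroupOf_of_le_normalizer le_rfl
  haveI := Fintype.ofFinite AH
  haveI := Fintype.ofFinite H
  have hAHc : Nat.card AH = Nat.card A :=
    Nat.card_congr (Subgroup.subgroupOfEquivOfLe Subgroup.le_normalizer).toEquiv
  obtain ⟨P₀⟩ := (inferInstance : Nonempty (Sylow p H))
  haveI := P₀.2.isNilpotent
  have hP₀s : Group.IsSolvable (P₀ : Subgroup H) := inferInstance
  have hcop : (Nat.card (P₀ : Subgroup H)).Coprime (Nat.card AH) := by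
    obtain ⟨k, hk⟩ := IsPGroup.iff_card.mp P₀.2
    rw [hk, hAHc]; exact hAp.symm.pow_left k
  have hdegH : ∀ θ : IrrCharacter AH, Inv AH (P₀ : Subgroup H) (θ : AH → ℂ) → ∀ e : ℕ,
      (θ : AH → ℂ) 1 = e → ¬ q ∣ e := by
    intro θ hθ e he hqe
    set T := AH ⊔ (P₀ : Subgroup H) with hT
    set N := AH.subgroupOf T with hN
    haveI : N.Normal := inferInstance
    haveI := Fintype.ofFinite N
    set eN : N ≃* AH := Subgroup.subgroupOfEquivOfLe le_sup_left with heN
    set θ' : N → ℂ := fun x => (θ : AH → ℂ) (eN x) with hθ'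
    have hθi : IsIrrCharacter N θ' := isIrrCharacter_comp_mulEquiv eN θ.2
    have hinv : ∀ g, conjBy N θ' g = θ' := by
      intro g
      funext x
      have hst : T ≤ stab AH (θ : AH → ℂ) := sup_le
        ((inv_iff_le_stab Subgroup.le_normalizer_of_normal).mp fun s hs b b' hb => by
          have := isClassFunction_irr θ b ⟨s, hs⟩
          rwa [show b' = ⟨s, hs⟩ * b * (⟨s, hs⟩ : AH)⁻¹ from Subtype.ext hb])
        ((inv_iff_le_stab Subgroup.le_normalizer_of_normal).mp hθ)
      obtain ⟨hg, h⟩ := hst g.2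
      exact h (eN x)
    obtain ⟨f, hf⟩ := exists_det_hom (isCharacter_of_isIrr hθi)
    have hidx : ∃ k, N.index = p ^ k := by
      have h1 : N.index ∣ Nat.card (P₀ : Subgroup H) := by
        rw [hN, show (AH.subgroupOf T).index = AH.relIndex T from rfl,
          CfsgLib.Coprime.relIndex_sup_of_le_normalizer Subgroup.le_normalizer_of_normal]
        exact Subgroup.relIndex_dvd_card _ _
      obtain ⟨k, hk⟩ := IsPGroup.iff_card.mp P₀.2
      rw [hk] at h1
      obtain ⟨i, -, hi⟩ := (Nat.dvd_prime_pow hp.out).mp h1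
      exact ⟨i, hi⟩
    obtain ⟨k, hk⟩ := hidx
    obtain ⟨d', hd', -, hd'dvd⟩ := exists_degree_dvd_card hθi
    have hNc : Nat.card N = Nat.card A := (Nat.card_congr eN.toEquiv).trans hAHc
    obtain ⟨ψ, hψ, hres⟩ := extends_of_det N hθi hinv d' (Nat.card N) hd' 1
      (fun x => by
        rw [hf]
        have : ((f x) ^ Nat.card N : ℂˣ) = 1 := by rw [← map_pow, pow_card_eq_one', map_one]
        simpa using (congrArg Units.val this).symm)
      (by
        rw [hk]
        refine Nat.Coprime.pow_left _ ?_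
        exact ((hNc ▸ hAp.symm : p.Coprime (Nat.card N)).coprime_dvd_right hd'dvd).mul_right
          (hNc ▸ hAp.symm))
    have he' : ψ 1 = e := by
      have := hres 1
      rw [Subgroup.coe_one] at this
      rw [this, hθ', ← he]
      exact congrArg _ (map_one eN)
    have hep : ¬ p ∣ e := by
      obtain ⟨e', he'', -, hdvd⟩ := exists_degree_dvd_card θ.2
      have : e = e' := Nat.cast_injective (R := ℂ) (he.symm.trans he'')
      subst this
      exact fun h => (hp.out.coprime_iff_not_dvd.mp (hAHc ▸ hAp.symm)) (h.trans hdvd)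
    have hidxT : ¬ p ∣ T.index := fun h => P₀.not_dvd_index
      (h.trans (Subgroup.index_dvd_of_le le_sup_right))
    obtain ⟨χ, d, hd, hpd, hcon⟩ := exists_above hp.out AH T le_sup_left hidxT θ.2 hψ
      (fun x => (hres ⟨⟨x, le_sup_left (b := (P₀ : Subgroup H)) x.2⟩, x.2⟩).trans rfl) he' hep
    have hqd : ¬ q ∣ d := by
      refine hdeg ⟨(χ : H → ℂ) ∘ π, Blocks.isIrrCharacter_comp_of_surjective χ.2 π hπs⟩ d ?_ hpd
      simp only [Function.comp_apply, map_one]; exact hd
    exact hqd (hqe.trans ((dvd_mul_left _ _).trans (dvd_degree AH χ.2 θ.2 hcon hd he)))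
  -- the invariant Sylow subgroup
  obtain ⟨QS, hQS⟩ := CfsgLib.Coprime.exists_invariant_sylow (A := (P₀ : Subgroup H)) (K := AH)
    Subgroup.le_normalizer_of_normal hcop (Or.inl hP₀s) q
  set Q := (QS : Subgroup AH).map AH.subtype with hQ
  have hQA : Q ≤ AH := Subgroup.map_subtype_le _
  have hQc : Nat.card Q = q ^ (Nat.card AH).factorization q := by
    rw [hQ, Subgroup.card_map_of_injective AH.subtype_injective, QS.card_eq_multiplicity]
  have hfixN := fix_le_normalizer hp.out AH (P₀ : Subgroup H) P₀.2 hcop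
    (PSolvable.isPSolvable_subgroup H hQs) hdegH Q hQA hQc hQS
  -- in `G`
  set QG := Q.map H.subtype with hQG
  set PG := (P₀ : Subgroup H).map H.subtype with hPG
  have hQGU : (Nat.card QG).Coprime (Nat.card U) := by
    rw [hQG, Subgroup.card_map_of_injective H.subtype_injective, hQc, ha]
    exact ((Nat.coprime_primes hq.out hp.out).mpr hpq.symm).pow _ _
  set K : Subgroup G := ⁅U, QG⁆ with hK
  suffices hK0 : K = ⊥ by
    set C := A ⊓ Subgroup.centralizer (U : Set G) with hC
    have hCn : C.Normal := by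
      rw [← Subgroup.normalizer_eq_top_iff, eq_top_iff, ← hUH]
      refine sup_le (fun u hu => Subgroup.centralizer_le_normalizer _ fun c hc => ?_)
        (CfsgLib.Coprime.le_normalizer_inf_of_le le_rfl
          (CfsgLib.Coprime.le_normalizer_centralizer Subgroup.le_normalizer_of_normal))
      exact (hc.2 u hu).symm
    have hC0 : C = ⊥ := hcore C hCn (hAp.coprime_dvd_left (Subgroup.card_dvd_of_le inf_le_left))
    have hQC : QG ≤ C := by
      rintro _ ⟨y, hy, rfl⟩
      refine ⟨hQA hy, fun u hu => ?_⟩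
      have : ⁅u, (y : G)⁆ ∈ K := Subgroup.commutator_mem_commutator hu ⟨y, hy, rfl⟩
      rw [hK0, Subgroup.mem_bot] at this
      exact commutatorElement_eq_one_iff_mul_comm.mp this
    have h1 : Nat.card QG = 1 := by
      rw [Subgroup.card_eq_one, eq_bot_iff, ← hC0]; exact hQC
    rw [hQG, Subgroup.card_map_of_injective H.subtype_injective, hQc, hAHc, Nat.pow_eq_one] at h1
    rcases h1 with h1 | h1
    · exact hq.out.one_lt.ne' h1
    · exact (hq.out.factorization_pos_of_dvd Nat.card_pos.ne' hqA).ne' h1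
  by_contra hK1
  have hKU : K ≤ U := CfsgLib.Coprime.commutator_le_left_of_le_normalizer
    Subgroup.le_normalizer_of_normal
  set PP := U ⊔ PG with hPP
  have hPGp : IsPGroup p PG := P₀.2.map _
  haveI : Group.IsNilpotent ↥PP := (hUp.to_sup_of_normal_left hPGp).isNilpotent
  have hPQn : PG ≤ Subgroup.normalizer (QG : Set G) :=
    (Subgroup.map_mono hQS).trans (Subgroup.le_normalizer_map _)
  have hPK : PG ≤ Subgroup.normalizer (K : Set G) :=
    CfsgLib.Coprime.le_normalizer_commutator Subgroup.le_normalizer_of_normal hPQn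
  have hlt : ⁅K, PG⁆ < K := CfsgLib.Coprime.commutator_lt_of_isNilpotent (X := PP)
    (hKU.trans le_sup_left) le_sup_right hPK hK1
  set D := U ⊓ Subgroup.centralizer (QG : Set G) with hD
  have hDK : D ⊔ K = U := by
    have := CfsgLib.Coprime.centralizer_sup_commutator_eq (A := QG) (V := U)
      Subgroup.le_normalizer_of_normal hQGU
    exact this
  have hDKinf : D ⊓ K = ⊥ := CfsgLib.Coprime.centralizer_inf_commutator_eq_bot
    Subgroup.le_normalizer_of_normal hQGU
  set Y : Subgroup G := D ⊔ ⁅K, PG⁆ with hY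
  have hYU : Y ≤ U := sup_le inf_le_left (hlt.le.trans hKU)
  obtain ⟨x, hxK, hxY⟩ : ∃ x ∈ K, x ∉ Y := by
    by_contra hall
    push_neg at hall
    refine hlt.not_ge fun x hx => ?_
    have hxY := hall x hx
    rw [← SetLike.mem_coe, hY, Subgroup.coe_mul_of_left_le_normalizer_right D ⁅K, PG⁆
      (fun d hd => Subgroup.centralizer_le_normalizer _ fun c hc =>
        hUab c (hlt.le.trans hKU hc) d hd.1), Set.mem_mul] at hxY
    obtain ⟨d, hd, c, hc, e⟩ := hxY
    have hdK : d ∈ K := by
      rw [show d = x * c⁻¹ by rw [← e, mul_inv_cancel_right]]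
      exact mul_mem hx (inv_mem (hlt.le hc))
    have : d ∈ D ⊓ K := ⟨hd, hdK⟩
    rw [hDKinf, Subgroup.mem_bot] at this
    rw [← e, this, one_mul]
    exact hc
  haveI : (Y.subgroupOf U).Normal := ⟨fun m hm g => by
    rwa [show g * m * g⁻¹ = m by rw [mul_comm' g m, mul_inv_cancel_right]]⟩
  letI : CommGroup (U ⧸ Y.subgroupOf U) :=
    { (inferInstance : Group (U ⧸ Y.subgroupOf U)) with
      mul_comm := fun a b => by
        obtain ⟨a, rfl⟩ := QuotientGroup.mk_surjective a
        obtain ⟨b, rfl⟩ := QuotientGroup.mk_surjective b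
        rw [← QuotientGroup.mk_mul, ← QuotientGroup.mk_mul, mul_comm'] }
  have hne : ((⟨x, hKU hxK⟩ : U) : U ⧸ Y.subgroupOf U) ≠ 1 := fun e =>
    hxY (Subgroup.mem_subgroupOf.mp ((QuotientGroup.eq_one_iff (⟨x, hKU hxK⟩ : U)).mp e))
  obtain ⟨ν, hν⟩ := CommGroup.exists_apply_ne_one_of_hasEnoughRootsOfUnity
    (U ⧸ Y.subgroupOf U) ℂ hne
  let lam : U →* ℂˣ := ν.comp (QuotientGroup.mk' (Y.subgroupOf U))
  have hlamY : ∀ (u : U), (u : G) ∈ Y → lam u = 1 := fun u hu => by
    show ν (QuotientGroup.mk' _ u) = 1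
    rw [show QuotientGroup.mk' (Y.subgroupOf U) u = 1 from (QuotientGroup.eq_one_iff u).mpr hu,
      map_one]
  -- invariance under `PG`
  have hlamP : ∀ y ∈ PG, ∀ u : U, lam ⟨y * u * y⁻¹, hUn.conj_mem u u.2 y⟩ = lam u := by
    intro y hy u
    have hu : (u : G) ∈ D ⊔ K := hDK.ge u.2
    rw [← SetLike.mem_coe, Subgroup.coe_mul_of_left_le_normalizer_right D K
      (fun d hd => Subgroup.centralizer_le_normalizer _ fun c hc =>
        hUab c (hKU hc) d hd.1), Set.mem_mul] at hu
    obtain ⟨d, hd, c, hc, e⟩ := hu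
    have hdy : y * d * y⁻¹ ∈ D := (Subgroup.mem_normalizer_iff.mp
      (CfsgLib.Coprime.le_normalizer_inf_of_le Subgroup.le_normalizer_of_normal
        (CfsgLib.Coprime.le_normalizer_centralizer hPQn) hy) d).mp hd
    have hcy : ⁅c, y⁆ ∈ ⁅K, PG⁆ := Subgroup.commutator_mem_commutator hc hy
    have eu : u = ⟨d, hd.1⟩ * ⟨c, hKU hc⟩ := Subtype.ext e.symm
    have e2 : (⟨y * u * y⁻¹, hUn.conj_mem u u.2 y⟩ : U) =
        ⟨y * d * y⁻¹, hdy.1⟩ * ⟨⁅c, y⁆⁻¹, inv_mem (hlt.le.trans hKU hcy)⟩ * ⟨c, hKU hc⟩ :=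
      Subtype.ext (by
        show y * (u : G) * y⁻¹ = y * d * y⁻¹ * ⁅c, y⁆⁻¹ * c
        rw [← e, commutatorElement_def]; group)
    rw [e2, eu, map_mul, map_mul, map_mul, hlamY _ (Subgroup.mem_sup_left hdy),
      hlamY ⟨⁅c, y⁆⁻¹, _⟩ (Subgroup.mem_sup_right (inv_mem hcy)),
      hlamY ⟨d, hd.1⟩ (Subgroup.mem_sup_left hd), one_mul, one_mul]
  -- extension to the Sylow subgroup
  have hπPP : ∀ g ∈ PP, (π g : G) ∈ PG := by
    intro g hg
    obtain ⟨u, hu, y, hy, rfl⟩ := Subgroup.mem_sup_of_normal_left.mp hg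
    obtain ⟨z, hz, rfl⟩ := hy
    rw [map_mul, hπu u hu, one_mul, show H.subtype z = (z : G) from rfl, hπH z]
    exact ⟨z, hz, rfl⟩
  let uu : PP → U := fun g => ⟨g * ((π (g : G) : G))⁻¹, hπU g⟩
  let μ : PP →* ℂˣ :=
    { toFun := fun g => lam (uu g)
      map_one' := by
        show lam (uu 1) = 1
        rw [show uu 1 = 1 from Subtype.ext (by simp [uu]), map_one]
      map_mul' := fun g₁ g₂ => by
        show lam (uu (g₁ * g₂)) = lam (uu g₁) * lam (uu g₂)
        rw [← hlamP _ (hπPP g₁ g₁.2) (uu g₂), ← map_mul]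
        refine congrArg lam (Subtype.ext ?_)
        simp only [uu, Subgroup.coe_mul, map_mul]
        group }
  have hμU : ∀ u : U, (μ ⟨u, Subgroup.mem_sup_left u.2⟩ : ℂ) = lam u := fun u => by
    show ((lam (uu _) : ℂˣ) : ℂ) = _
    rw [show uu ⟨u, Subgroup.mem_sup_left u.2⟩ = u from Subtype.ext (by simp [uu, hπu _ u.2])]
  have hPPidx : ¬ p ∣ PP.index := by
    intro hd'
    refine P₀.not_dvd_index (hd'.trans ?_)
    have h1 : (P₀ : Subgroup H).comap π ≤ PP := fun g hg => by
      have := Subgroup.mul_mem_sup (hπU g) (Subgroup.mem_map_of_mem H.subtype hg)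
      rwa [show g * ((π g : G))⁻¹ * H.subtype (π g) = g from inv_mul_cancel_right g _] at this
    have := Subgroup.index_dvd_of_le h1
    rwa [Subgroup.index_comap_of_surjective _ hπs] at this
  haveI := Fintype.ofFinite U
  obtain ⟨χ, d, hd, hpd, hcon⟩ := exists_above hp.out U PP le_sup_left hPPidx
    (isIrrCharacter_monoidHom lam) (isIrrCharacter_monoidHom μ) (fun u => hμU u)
    (e := 1) (by simp) hp.out.not_dvd_one
  have hqd := hdeg χ d hd hpd
  have hI : ¬ q ∣ (inertia U (fun u : U => (lam u : ℂ))).index := fun h =>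
    hqd (h.trans ((dvd_mul_right _ _).trans (dvd_degree U χ.2 (isIrrCharacter_monoidHom lam) hcon hd
      (e := 1) (by simp))))
  set I := inertia U (fun u : U => (lam u : ℂ)) with hIdef
  set IH := I.subgroupOf H with hIH
  have hUI : U ≤ I := le_inertia U (isClassFunction_of_isCharacter
    (isCharacter_monoidHom lam))
  have hPGI : ∀ y ∈ PG, y ∈ I := fun y hy => (mem_inertia_iff U).mpr fun u => by
    exact congrArg Units.val (hlamP y hy u)
  set IA := IH ⊓ AH with hIA
  have hIrel : ¬ q ∣ IA.relIndex AH := by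
    intro h
    refine hI (h.trans ?_)
    rw [hIA, Subgroup.inf_relIndex_right]
    refine (Fitting.relIndex_dvd_index_of_normal_right IH AH).trans ?_
    have h1 : I.map π ≤ IH := by
      rintro _ ⟨g, hg, rfl⟩
      show (π g : G) ∈ I
      have := I.mul_mem (I.inv_mem (hUI (hπU g))) hg
      rwa [mul_inv_rev, inv_inv, inv_mul_cancel_right] at this
    exact (Subgroup.index_dvd_of_le h1).trans (I.index_map_dvd hπs)
  have hPI : (P₀ : Subgroup H) ≤ Subgroup.normalizer (IA : Set H) :=
    CfsgLib.Coprime.le_normalizer_inf_of_le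
      (fun y hy => Subgroup.le_normalizer (show y ∈ IH from hPGI _ ⟨y, hy, rfl⟩))
      Subgroup.le_normalizer_of_normal
  obtain ⟨c, hc, hcI⟩ := exists_conj_le Subgroup.le_normalizer_of_normal hcop hP₀s hQA hQc hQS
    inf_le_right hPI hIrel
  rw [CfsgLib.Coprime.conj_smul_eq_self_of_mem_normalizer (hfixN hc)] at hcI
  have hQI : ∀ y ∈ QG, ∀ u : U, lam ⟨y * u * y⁻¹, hUn.conj_mem u u.2 y⟩ = lam u := by
    rintro _ ⟨y, hy, rfl⟩ u
    exact Units.ext ((mem_inertia_iff U).mp (hcI hy).1 u)
  -- `lam` is trivial on `K`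
  have hker : K ≤ lam.ker.map U.subtype := by
    refine Subgroup.commutator_le.mpr fun u hu y hy => ?_
    refine ⟨⟨⁅u, y⁆, hKU (Subgroup.commutator_mem_commutator hu hy)⟩, ?_, rfl⟩
    rw [SetLike.mem_coe, MonoidHom.mem_ker,
      show (⟨⁅u, y⁆, _⟩ : U) = ⟨u, hu⟩ * ⟨y * u⁻¹ * y⁻¹, hUn.conj_mem _ (inv_mem hu) y⟩ from
        Subtype.ext (show ⁅u, y⁆ = u * (y * u⁻¹ * y⁻¹) by simp only [commutatorElement_def]; group),
      map_mul, hQI y hy ⟨u⁻¹, inv_mem hu⟩, ← map_mul,
      show (⟨u, hu⟩ * ⟨u⁻¹, inv_mem hu⟩ : U) = 1 from Subtype.ext (mul_inv_cancel u), map_one]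
  obtain ⟨w, hw, hwx⟩ := hker hxK
  apply hν
  have : w = ⟨x, hKU hxK⟩ := Subtype.ext hwx
  rw [this] at hw
  exact hw

end CfsgLib.TwoPrimes
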