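import Cfsg.Agent.Lib.PSolvable.TwoPrimes
import Cfsg.Agent.Lib.Char.GlaubermanClasses
import Cfsg.Agent.Lib.Char.GlaubermanSolvable
import Cfsg.Agent.Lib.Char.Clifford
import Cfsg.Agent.Lib.Char.ExtendChar
import Cfsg.Agent.Lib.TwoClassSizes.Basic

/-!
# Invariant characters of degree prime to `q` and invariant Sylow subgroups
-/

set_option autoImplicit false
set_option linter.unusedSectionVars false
set_option linter.style.haveILetI false

namespace CfsgLib.TwoPrimes

open Cfsg CfsgLib.Char CfsgLib.Char.Glauberman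
open scoped Pointwise ComplexConjugate CfsgLib.Char

/-- A character of degree prime to `p` of a subgroup of index prime to `p` lies below an irreducible
character of degree prime to `p`. -/
theorem exists_above {X : Type*} [Group X] [Finite X] {p : ℕ} (hp : p.Prime) (N T : Subgroup X)
    [Fintype N] (hNT : N ≤ T) (hidx : ¬ p ∣ T.index) {θ : N → ℂ} (hθ : IsIrrCharacter N θ)
    {ψ : T → ℂ} (hψ : IsIrrCharacter T ψ) (hres : ∀ n : N, ψ ⟨(n : X), hNT n.2⟩ = θ n) {e : ℕ}
    (he : ψ 1 = e) (hep : ¬ p ∣ e) :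
    ∃ (χ : IrrCharacter X) (d : ℕ), (χ : X → ℂ) 1 = d ∧ ¬ p ∣ d ∧
      classInner (fun n : N => (χ : X → ℂ) n) θ ≠ 0 := by
  classical
  haveI := Fintype.ofFinite X
  haveI := Fintype.ofFinite T
  have hch := isCharacter_indFun T (isCharacter_of_isIrr hψ)
  choose m hm using fun η : IrrCharacter X =>
    exists_nat_classInner hch (isCharacter_of_isIrr η.2)
  choose d hd hd0 using fun η : IrrCharacter X =>
    let ⟨d, h0, h1⟩ := exists_nat_degree_irr η.2
    (⟨d, h1, h0⟩ : ∃ d : ℕ, (η : X → ℂ) 1 = d ∧ _)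
  have hsum : ∑ η : IrrCharacter X, m η * d η = T.index * e := by
    have h1 := congrFun (classFunction_expansion (isClassFunction_indFun T ψ)) 1
    rw [indFun_one, Finset.sum_apply, he] at h1
    simp only [Pi.smul_apply, smul_eq_mul, hm, hd] at h1
    exact_mod_cast h1.symm
  obtain ⟨η, -, hη⟩ : ∃ η ∈ (Finset.univ : Finset (IrrCharacter X)), ¬ p ∣ m η * d η := by
    by_contra hall
    push_neg at hall
    rcases hp.dvd_mul.mp (hsum ▸ Finset.dvd_sum hall) with h | h
    exacts [hidx h, hep h]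
  refine ⟨η, d η, hd η, fun h => hη (h.mul_left _), ?_⟩
  have hm0 : m η ≠ 0 := fun e' => hη (by simp [e'])
  have h1 := hm η
  rw [frobenius_reciprocity T _ (isClassFunction_irr η)] at h1
  obtain ⟨n, hn⟩ := exists_multiplicities (isCharacter_restrict T (isCharacter_of_isIrr η.2))
  have hnψ : n ⟨ψ, hψ⟩ = m η := by
    have h2 := congrArg conj h1
    rw [classInner_conj_symm, Complex.conj_natCast, hn,
      classInner_sum_smul_irr _ (⟨ψ, hψ⟩ : IrrCharacter T)] at h2
    exact_mod_cast h2
  choose k hk using fun ξ : IrrCharacter T => exists_nat_classInner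
    (isCharacter_comp (Subgroup.inclusion hNT) (isCharacter_of_isIrr ξ.2)) (isCharacter_of_isIrr hθ)
  have hval : classInner (fun x : N => (η : X → ℂ) x) θ =
      ((∑ ξ : IrrCharacter T, n ξ * k ξ : ℕ) : ℂ) := by
    rw [show (fun x : N => (η : X → ℂ) x) =
        ∑ ξ : IrrCharacter T, (n ξ : ℂ) • ((ξ : T → ℂ) ∘ Subgroup.inclusion hNT) from
      funext fun x => by
        have := congrFun hn (Subgroup.inclusion hNT x)
        simpa using this, classInner_sum_left]
    push_cast
    exact Finset.sum_congr rfl fun ξ _ => by rw [classInner_smul_left]; exact congrArg _ (hk ξ)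
  rw [hval, Nat.cast_ne_zero]
  refine (Finset.sum_pos' (fun _ _ => Nat.zero_le _) ⟨⟨ψ, hψ⟩, Finset.mem_univ _, ?_⟩).ne'
  refine Nat.mul_pos (hnψ ▸ Nat.pos_of_ne_zero hm0) ?_
  have h3 : classInner θ θ = k ⟨ψ, hψ⟩ := by
    rw [← hk ⟨ψ, hψ⟩]; congr 1; funext x; exact (hres x).symm
  rw [classInner_irr_self hθ] at h3
  exact Nat.pos_of_ne_zero fun e' => one_ne_zero (h3.trans (by rw [e', Nat.cast_zero]))

/-- The degree of a character is a multiple of the orbit length and degree of a constituent. -/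
theorem dvd_degree {X : Type*} [Group X] [Finite X] (N : Subgroup X) [N.Normal] [Fintype N]
    {χ : X → ℂ} (hχ : IsIrrCharacter X χ) {θ : N → ℂ} (hθ : IsIrrCharacter N θ)
    (hcon : classInner (fun n : N => χ n) θ ≠ 0) {d e : ℕ} (hd : χ 1 = d) (he : θ 1 = e) :
    (inertia N θ).index * e ∣ d := by
  classical
  haveI := Fintype.ofFinite X
  obtain ⟨m, hm⟩ := exists_nat_classInner (isCharacter_restrict N (isCharacter_of_isIrr hχ))
    (isCharacter_of_isIrr hθ)
  have h := clifford_degree N hχ hθ hcon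
  rw [hd, he, hm, card_orbit_eq_index] at h
  exact ⟨m, by rw [mul_comm]; exact_mod_cast h⟩

variable {q : ℕ} [hq : Fact q.Prime] {Γ : Type*} [Group Γ] [Finite Γ]

/-- An invariant subgroup of index prime to `q` contains a conjugate of an invariant Sylow
subgroup under the fixed points. -/
theorem exists_conj_le {A P Q I : Subgroup Γ} (hPA : P ≤ Subgroup.normalizer (A : Set Γ))
    (hcop : (Nat.card P).Coprime (Nat.card A)) (hPs : Group.IsSolvable P)
    (hQA : Q ≤ A) (hQc : Nat.card Q = q ^ (Nat.card A).factorization q)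
    (hPQ : P ≤ Subgroup.normalizer (Q : Set Γ)) (hIA : I ≤ A)
    (hPI : P ≤ Subgroup.normalizer (I : Set Γ)) (hI : ¬ q ∣ I.relIndex A) :
    ∃ c ∈ fix A P, MulAut.conj c • Q ≤ I := by
  classical
  obtain ⟨R, hR⟩ := CfsgLib.Coprime.exists_invariant_sylow hPI
    (hcop.coprime_dvd_right (Subgroup.card_dvd_of_le hIA)) (Or.inl hPs) q
  set R' := (R : Subgroup I).map I.subtype with hR'
  have hR'I : R' ≤ I := Subgroup.map_subtype_le _
  have hfac : (Nat.card I).factorization q = (Nat.card A).factorization q := by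
    have h1 := Subgroup.relIndex_mul_relIndex ⊥ I A bot_le hIA
    rw [Subgroup.relIndex_bot_left, Subgroup.relIndex_bot_left] at h1
    rw [← h1, Nat.factorization_mul Nat.card_pos.ne' (fun e => hI (by rw [e]; exact dvd_zero q)),
      Finsupp.add_apply, Nat.factorization_eq_zero_of_not_dvd hI, add_zero]
  have hR'c : Nat.card (R'.subgroupOf A) = q ^ (Nat.card A).factorization q := by
    rw [Nat.card_congr (Subgroup.subgroupOfEquivOfLe (hR'I.trans hIA)).toEquiv, hR',
      Subgroup.card_map_of_injective I.subtype_injective, R.card_eq_multiplicity, hfac]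
  have hQc' : Nat.card (Q.subgroupOf A) = q ^ (Nat.card A).factorization q := by
    rw [Nat.card_congr (Subgroup.subgroupOfEquivOfLe hQA).toEquiv, hQc]
  have e1 : ((Sylow.ofCard _ hQc' : Sylow q A) : Subgroup A).map A.subtype = Q := by
    rw [Sylow.coe_ofCard, Subgroup.map_subgroupOf_eq_of_le hQA]
  have e2 : ((Sylow.ofCard _ hR'c : Sylow q A) : Subgroup A).map A.subtype = R' := by
    rw [Sylow.coe_ofCard, Subgroup.map_subgroupOf_eq_of_le (hR'I.trans hIA)]
  obtain ⟨c, hc, hcQ⟩ := CfsgLib.Coprime.invariant_sylow_conj hPA hcop (Or.inl hPs)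
    (Sylow.ofCard _ hQc') (Sylow.ofCard _ hR'c) (by rw [e1]; exact hPQ) (by rw [e2]; exact hR)
  refine ⟨(c : Γ), ⟨c.2, hc⟩, ?_⟩
  have h := congrArg (fun S : Sylow q A => (S : Subgroup A).map A.subtype) hcQ
  simp only [CfsgLib.Coprime.map_subtype_conj_smul_sylow, e1, e2] at h
  exact h.le.trans hR'I

/-- If every invariant irreducible character of `A` has degree prime to `q`, the fixed points
normalise the invariant Sylow `q`-subgroup. -/
theorem fix_le_normalizer {p : ℕ} (hp : p.Prime) :
    ∀ {Γ : Type*} [Group Γ] [Finite Γ] (A P : Subgroup Γ) [A.Normal] [Fintype A], IsPGroup p P →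
      (Nat.card P).Coprime (Nat.card A) → IsPSolvable q Γ →
      (∀ θ : IrrCharacter A, Inv A P (θ : A → ℂ) → ∀ d : ℕ, (θ : A → ℂ) 1 = d → ¬ q ∣ d) →
      ∀ Q : Subgroup Γ, Q ≤ A → Nat.card Q = q ^ (Nat.card A).factorization q →
        P ≤ Subgroup.normalizer (Q : Set Γ) → fix A P ≤ Subgroup.normalizer (Q : Set Γ) := by
  intro Γ _ _
  induction hn : Nat.card Γ using Nat.strong_induction_on generalizing Γ with
  | _ n ih =>
  intro A P _ _ hP hcop hsol hdeg Q hQA hQc hPQ
  classical
  haveI := Fact.mk hp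
  haveI := Fintype.ofFinite Γ
  haveI := hP.isNilpotent
  have hPs : Group.IsSolvable P := inferInstance
  by_cases hA : A = ⊥
  · rintro x ⟨hx, -⟩
    have hx' : x ∈ (⊥ : Subgroup Γ) := hA ▸ hx
    rw [Subgroup.mem_bot.mp hx']; exact Subgroup.one_mem _
  obtain ⟨N, ⟨hNn, hN1, hNA⟩, hNmin⟩ := Set.Finite.exists_minimal
    (Set.toFinite {N : Subgroup Γ | N.Normal ∧ N ≠ ⊥ ∧ N ≤ A}) ⟨A, inferInstance, hA, le_rfl⟩
  haveI := hNn
  haveI := Fintype.ofFinite N
  haveI : Nontrivial N := (Subgroup.nontrivial_iff_ne_bot N).mpr hN1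
  have hPA : P ≤ Subgroup.normalizer (A : Set Γ) := Subgroup.le_normalizer_of_normal
  have hqA : IsPGroup q Q := IsPGroup.of_card hQc
  -- modulo `N`
  have hstep : ∀ c ∈ fix A P, MulAut.conj c • Q ≤ Q ⊔ N := by
    intro c hc
    have hfs := QuotientGroup.mk'_surjective N
    set f := QuotientGroup.mk' N with hf
    haveI := Subgroup.Normal.map (inferInstance : A.Normal) f hfs
    haveI := Fintype.ofFinite (A.map f)
    let g : A →* A.map f := (f.comp A.subtype).codRestrict _ fun a => ⟨a, a.2, rfl⟩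
    have hg : Function.Surjective g := fun ⟨_, a, ha, e⟩ => ⟨⟨a, ha⟩, Subtype.ext e⟩
    have hlt : Nat.card (Γ ⧸ N) < n := by
      rw [← hn, Subgroup.card_eq_card_quotient_mul_card_subgroup N]
      exact lt_mul_of_one_lt_right Nat.card_pos (Finite.one_lt_card)
    have hQc' : Nat.card (Q.subgroupOf A) = q ^ (Nat.card A).factorization q := by
      rw [Nat.card_congr (Subgroup.subgroupOfEquivOfLe hQA).toEquiv, hQc]
    have hQbar : Nat.card (Q.map f) = q ^ (Nat.card (A.map f)).factorization q := by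
      rw [← ((Sylow.ofCard _ hQc').mapSurjective hg).card_eq_multiplicity,
        ← Subgroup.card_map_of_injective (A.map f).subtype_injective]
      have e : (((Sylow.ofCard _ hQc').mapSurjective hg : Sylow q (A.map f)) :
          Subgroup (A.map f)).map (A.map f).subtype = Q.map f := by
        show ((Q.subgroupOf A).map g).map (A.map f).subtype = Q.map f
        rw [Subgroup.map_map, show (A.map f).subtype.comp g = f.comp A.subtype from rfl,
          ← Subgroup.map_map, Subgroup.map_subgroupOf_eq_of_le hQA]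
      rw [e]
    have hd : ∀ θ : IrrCharacter (A.map f), Inv (A.map f) (P.map f) (θ : A.map f → ℂ) →
        ∀ d : ℕ, (θ : A.map f → ℂ) 1 = d → ¬ q ∣ d := by
      intro θ hθ d hd
      refine hdeg ⟨(θ : A.map f → ℂ) ∘ g,
        Blocks.isIrrCharacter_comp_of_surjective θ.2 g hg⟩ ?_ d
        (by simp only [Function.comp_apply, map_one]; exact hd)
      intro s hs a a' ha
      exact hθ (f s) ⟨s, hs, rfl⟩ (g a) (g a') (by
        show f a' = f s * f a * (f s)⁻¹
        rw [ha, map_mul, map_mul, map_inv])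
    have hIH := ih _ hlt rfl (A.map f) (P.map f) (hP.map f)
      ((hcop.coprime_dvd_left (P.card_map_dvd f)).coprime_dvd_right (A.card_map_dvd f))
      (PSolvable.isPSolvable_of_surjective f hfs hsol) hd (Q.map f) (Subgroup.map_mono hQA) hQbar
      ((Subgroup.map_mono hPQ).trans (Subgroup.le_normalizer_map _))
    have hcf : f c ∈ fix (A.map f) (P.map f) := by
      refine ⟨⟨c, hc.1, rfl⟩, ?_⟩
      rintro _ ⟨s, hs, rfl⟩
      rw [← map_mul, ← map_mul, hc.2 s hs]
    rintro _ ⟨y, hy, rfl⟩
    have h2 : f (c * y * c⁻¹) ∈ Q.map f := by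
      rw [map_mul, map_mul, map_inv]
      exact (Subgroup.mem_normalizer_iff.mp (hIH hcf) _).mp ⟨y, hy, rfl⟩
    obtain ⟨z, hz, e⟩ := h2
    have h3 : z⁻¹ * (c * y * c⁻¹) ∈ N := QuotientGroup.eq.mp e
    have h4 := Subgroup.mul_mem_sup hz h3
    rwa [mul_inv_cancel_left] at h4
  have hfix : ∀ c ∈ fix A P, MulAut.conj c • Q ≤ Q → c ∈ Subgroup.normalizer (Q : Set Γ) :=
    fun c _ h => CfsgLib.Coprime.mem_normalizer_iff_conj_smul.mpr
      (Subgroup.eq_of_le_of_card_ge h (CfsgLib.Coprime.card_conj_smul _ _).ge)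
  obtain ⟨T, hTn, hT1, hT⟩ := exists_normal_pGroup_or_coprime (p := q)
    (PSolvable.isPSolvable_subgroup N hsol)
  by_cases hqN : IsPGroup q T
  · -- `N` is a `q`-group
    have hNq : IsPGroup q N := by
      haveI : (Cfsg.pCore q ↥N).Normal := Fitting.pCore_normal q
      haveI := PSolvable.normal_map_of_characteristic N (Cfsg.pCore q ↥N)
      have h1 : (Cfsg.pCore q ↥N).map N.subtype ≠ ⊥ := by
        rw [Ne, Subgroup.map_eq_bot_iff_of_injective _ N.subtype_injective]
        exact fun e => hT1 (le_bot_iff.mp (e ▸ Fitting.le_pCore hTn hqN))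
      have h2 := hNmin ⟨inferInstance, h1, (Subgroup.map_subtype_le _).trans hNA⟩
        (Subgroup.map_subtype_le _)
      exact ((Fitting.pCore_isPGroup q).map _).to_le h2
    have hNQ : N ≤ Q := by
      have h1 : IsPGroup q ↥(Q ⊔ N) := hqA.to_sup_of_normal_right hNq
      obtain ⟨k, hk⟩ := IsPGroup.iff_card.mp h1
      have h2 : Nat.card ↥(Q ⊔ N) ∣ Nat.card Q := by
        have h3 : q ^ k ∣ Nat.card A := hk ▸ Subgroup.card_dvd_of_le (sup_le hQA hNA)
        rw [hk, hQc]
        exact pow_dvd_pow q ((hq.out.pow_dvd_iff_le_factorization Nat.card_pos.ne').mp h3)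
      exact le_sup_right.trans (Subgroup.eq_of_le_of_card_ge le_sup_left
        (Nat.le_of_dvd Nat.card_pos h2)).ge
    exact fun c hc => hfix c hc ((hstep c hc).trans (sup_le le_rfl hNQ))
  -- `N` has order prime to `q`
  have hNq : (Nat.card N).Coprime q := by
    haveI : (Cfsg.pPrimeCore q ↥N).Normal := Transfer.pPrimeCore_normal q _
    haveI := PSolvable.normal_map_of_characteristic N (Cfsg.pPrimeCore q ↥N)
    have h1 : (Cfsg.pPrimeCore q ↥N).map N.subtype ≠ ⊥ := by
      rw [Ne, Subgroup.map_eq_bot_iff_of_injective _ N.subtype_injective]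
      exact fun e => hT1 (le_bot_iff.mp (e ▸ Transfer.le_pPrimeCore hTn (hT.resolve_left hqN)))
    have h2 := hNmin ⟨inferInstance, h1, (Subgroup.map_subtype_le _).trans hNA⟩
      (Subgroup.map_subtype_le _)
    refine Nat.Coprime.coprime_dvd_left (Subgroup.card_dvd_of_le h2) ?_
    rw [Subgroup.card_map_of_injective N.subtype_injective]
    exact Transfer.pPrimeCore_coprime q
  have hQNcop : (Nat.card Q).Coprime (Nat.card N) := by rw [hQc]; exact hNq.symm.pow_left _
  -- the invariant characters of `N` are fixed by `Q`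
  have hθQ : ∀ θ : IrrCharacter N, Inv N P (θ : N → ℂ) → Q ≤ stab N (θ : N → ℂ) := by
    intro θ hθ
    obtain ⟨χ, hover, hχ⟩ := exists_invariant_over (G := A) hPA Subgroup.le_normalizer_of_normal hNA
      Subgroup.le_normalizer_of_normal hPs hcop.symm hθ
    obtain ⟨d, hd, -, -⟩ := exists_degree_dvd_card χ.2
    have hqd := hdeg χ hχ d hd
    set N' := N.subgroupOf A with hN'
    haveI : N'.Normal := inferInstance
    haveI := Fintype.ofFinite N'
    set eN : N' ≃* N := Subgroup.subgroupOfEquivOfLe hNA with heN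
    set θ' : N' → ℂ := fun x => (θ : N → ℂ) (eN x) with hθ'
    have hθ'i : IsIrrCharacter N' θ' := isIrrCharacter_comp_mulEquiv eN θ.2
    obtain ⟨e, he, -, -⟩ := exists_degree_dvd_card hθ'i
    have hcon : classInner (fun x : N' => (χ : A → ℂ) x) θ' ≠ 0 := by
      have := classInner_comp_mulEquiv eN (res hNA (χ : A → ℂ)) (θ : N → ℂ)
      rw [over_iff] at hover
      intro h0
      exact hover (this ▸ h0)
    have hdvd := dvd_degree N' χ.2 hθ'i hcon hd he
    set I := (inertia N' θ').map A.subtype with hI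
    have hIA : I ≤ A := Subgroup.map_subtype_le _
    have hrel : ¬ q ∣ I.relIndex A := by
      rw [Subgroup.relIndex, hI, ← Subgroup.comap_subtype,
        Subgroup.comap_map_eq_self_of_injective A.subtype_injective]
      exact fun h => hqd (h.trans ((dvd_mul_right _ _).trans hdvd))
    have hmem : ∀ a : A, a ∈ inertia N' θ' ↔ (a : Γ) ∈ stab N (θ : N → ℂ) := by
      intro a
      constructor
      · intro h
        refine ⟨Subgroup.le_normalizer_of_normal (Subgroup.mem_top _), fun x => ?_⟩
        have := (mem_inertia_iff N').mp h (eN.symm x)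
        simp only [hθ', MulEquiv.apply_symm_apply] at this
        exact this
      · rintro ⟨ha, h⟩
        exact (mem_inertia_iff N').mpr fun x => h (eN x)
    have hIs : ∀ y : Γ, y ∈ I ↔ y ∈ A ∧ y ∈ stab N (θ : N → ℂ) := fun y => by
      constructor
      · rintro ⟨a, ha, rfl⟩
        exact ⟨a.2, (hmem a).mp ha⟩
      · rintro ⟨hy, hy'⟩
        exact ⟨⟨y, hy⟩, (hmem _).mpr hy', rfl⟩
    have hIeq : I = A ⊓ stab N (θ : N → ℂ) := Subgroup.ext fun y => hIs y
    have hPI : P ≤ Subgroup.normalizer (I : Set Γ) := by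
      rw [hIeq]
      refine CfsgLib.Coprime.le_normalizer_inf_of_le hPA ?_
      exact ((inv_iff_le_stab Subgroup.le_normalizer_of_normal).mp hθ).trans Subgroup.le_normalizer
    obtain ⟨c, hc, hcI⟩ := exists_conj_le hPA hcop hPs hQA hQc hPQ hIA hPI hrel
    have hNI : N ≤ I := by
      rw [hI, ← Subgroup.map_subgroupOf_eq_of_le hNA]
      exact Subgroup.map_mono (le_inertia N' (isClassFunction_of_isCharacter (isCharacter_of_isIrr hθ'i)))
    have heq : MulAut.conj c • Q ⊔ N = Q ⊔ N := by
      refine Subgroup.eq_of_le_of_card_ge (sup_le (hstep c hc) le_sup_right) ?_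
      rw [sup_comm Q, sup_comm (MulAut.conj c • Q),
        CfsgLib.Coprime.card_sup_of_coprime Subgroup.le_normalizer_of_normal hQNcop.symm,
        CfsgLib.Coprime.card_sup_of_coprime Subgroup.le_normalizer_of_normal
          (by rw [CfsgLib.Coprime.card_conj_smul]; exact hQNcop.symm),
        CfsgLib.Coprime.card_conj_smul]
    intro y hy
    exact ((hIs y).mp (((heq ▸ Subgroup.mem_sup_left hy : y ∈ MulAut.conj c • Q ⊔ N)) |>
      sup_le hcI hNI)).2
  -- the fixed points in `N` centralise `Q`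
  set S := Q ⊔ P with hS
  have hSN : S ≤ Subgroup.normalizer (N : Set Γ) := Subgroup.le_normalizer_of_normal
  have hSs : Group.IsSolvable S := by
    haveI := hqA.isNilpotent
    exact CfsgLib.Coprime.isSolvable_sup_of_le_normalizer inferInstance hPs hPQ
  have hPNcop : (Nat.card P).Coprime (Nat.card N) := hcop.coprime_dvd_right (Subgroup.card_dvd_of_le hNA)
  have hScop : (Nat.card N).Coprime (Nat.card S) := by
    have h1 := CfsgLib.Coprime.card_sup_mul_card_inf (K := Q) (S := P) hPQ
    exact Nat.Coprime.coprime_dvd_right ⟨_, h1.symm⟩ (hQNcop.symm.mul_right hPNcop.symm)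
  have hD : fix N P ≤ fix N S := by
    have hcard : Nat.card (ConjClasses (fix N S)) = Nat.card (ConjClasses (fix N P)) := by
      rw [← card_invariant hSN hSs hScop,
        ← card_invariant Subgroup.le_normalizer_of_normal hPs hPNcop.symm]
      refine Nat.card_congr (Equiv.subtypeEquivRight fun θ => ?_)
      rw [inv_iff_le_stab hSN, inv_iff_le_stab Subgroup.le_normalizer_of_normal, hS, sup_le_iff]
      exact ⟨fun h => h.2, fun h => ⟨hθQ θ ((inv_iff_le_stab Subgroup.le_normalizer_of_normal).mpr h), h⟩⟩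
    have hle : fix N S ≤ fix N P :=
      inf_le_inf_left _ (Subgroup.centralizer_le (SetLike.coe_subset_coe.mpr le_sup_right))
    let φ : ConjClasses (fix N S) → ConjClasses (fix N P) := ConjClasses.map (Subgroup.inclusion hle)
    have hφ : Function.Injective φ := by
      intro a b hab
      obtain ⟨a, rfl⟩ := ConjClasses.mk_surjective a
      obtain ⟨b, rfl⟩ := ConjClasses.mk_surjective b
      obtain ⟨k, hk⟩ := isConj_iff.mp (ConjClasses.mk_eq_mk_iff_isConj.mp hab)
      obtain ⟨c, hc, hce⟩ := exists_fix_conj hSN hScop hSs a.2 b.2 k.2.1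
        (congrArg Subtype.val hk)
      exact ConjClasses.mk_eq_mk_iff_isConj.mpr (isConj_iff.mpr ⟨⟨c, hc⟩, Subtype.ext hce⟩)
    have hsurj : Function.Surjective φ :=
      (hφ.bijective_of_nat_card_le hcard.ge).surjective
    have htop := CfsgLib.TwoClassSizes.eq_top_of_conj_cover (G := fix N P)
      (H := (fix N S).subgroupOf (fix N P)) fun g => by
        obtain ⟨C, hC⟩ := hsurj (ConjClasses.mk g)
        obtain ⟨s, rfl⟩ := ConjClasses.mk_surjective C
        obtain ⟨x, hx⟩ := isConj_iff.mp (ConjClasses.mk_eq_mk_iff_isConj.mp hC)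
        refine ⟨x, ?_⟩
        rw [show x⁻¹ * g * x = Subgroup.inclusion hle s by rw [← hx]; group]
        exact s.2
    exact Subgroup.subgroupOf_eq_top.mp htop
  have hDQ : ∀ d ∈ fix N P, ∀ y ∈ Q, d * y = y * d := fun d hd y hy =>
    ((hD hd).2 y (Subgroup.mem_sup_left hy)).symm
  intro c hc
  refine hfix c hc ?_
  letI : MulAction Γ (Subgroup Γ) := MulAction.compHom _ (MulAut.conj : Γ →* MulAut Γ)
  have hcQ : Nat.card ↥(MulAut.conj c • Q) = Nat.card Q := CfsgLib.Coprime.card_conj_smul _ _
  have heq : N ⊔ Q = N ⊔ MulAut.conj c • Q := by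
    refine (Subgroup.eq_of_le_of_card_ge (sup_le le_sup_left ((hstep c hc).trans (sup_comm _ _).le)) ?_).symm
    rw [CfsgLib.Coprime.card_sup_of_coprime Subgroup.le_normalizer_of_normal hQNcop.symm,
      CfsgLib.Coprime.card_sup_of_coprime Subgroup.le_normalizer_of_normal
        (by rw [hcQ]; exact hQNcop.symm), hcQ]
  haveI := hqA.isNilpotent
  obtain ⟨x, hx, hxe⟩ := CfsgLib.Coprime.exists_conj_of_coprime (N := N) (H := Q)
    (K := MulAut.conj c • Q) Subgroup.le_normalizer_of_normal hQNcop.symm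
    (by rw [hcQ]; exact hQNcop.symm) heq (Or.inr inferInstance)
  have hfixQ : ∀ s ∈ P, MulAut.conj s • Q = Q := fun s hs =>
    CfsgLib.Coprime.conj_smul_eq_self_of_mem_normalizer (hPQ hs)
  obtain ⟨d, hd, hde⟩ := CfsgLib.Coprime.exists_centralizer_smul (A := P) (K := N)
    Subgroup.le_normalizer_of_normal hPNcop (Or.inl hPs) (ω := Q) hfixQ hx (fun s hs => by
      show MulAut.conj s • (MulAut.conj x • Q) = MulAut.conj x • Q
      rw [hxe]
      calc MulAut.conj s • MulAut.conj c • Q = MulAut.conj c • MulAut.conj s • Q := by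
            rw [← mul_smul, ← mul_smul, ← map_mul, ← map_mul, hc.2 s hs]
        _ = _ := by rw [hfixQ s hs])
  have hdQ : MulAut.conj d • Q = Q :=
    CfsgLib.Coprime.conj_smul_eq_self_of_mem_normalizer (Subgroup.centralizer_le_normalizer _
      fun y hy => (hDQ d hd y hy).symm)
  have : MulAut.conj d • Q = MulAut.conj c • Q := hde.trans hxe
  rw [hdQ] at this
  exact this.ge

end CfsgLib.TwoPrimes
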